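import Mathlib
import Cfsg.Agent.Lib.Blau.Blk

/-! The tensor square of a uniserial module as a truncated polynomial ring. -/

set_option autoImplicit false
set_option linter.unusedSectionVars false
set_option linter.style.haveILetI false

open Module H88.Mod

namespace H33.Bl

variable {k : Type*} [Field k] {V : Type*} [AddCommGroup V] [Module k V] {A : Type*} [CommRing A]
  [Algebra k A] {E : Type*} [Group E]

theorem map_mem_of_span {W : Type*} [AddCommGroup W] [Module k W] {ι : Type*} {f : ι → V}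
    (π : V →ₗ[k] W) {B : Submodule k W} (h : ∀ i, π (f i) ∈ B) {z : V}
    (hz : z ∈ Submodule.span k (Set.range f)) : π z ∈ B :=
  Submodule.mem_comap.1 ((Submodule.span_le (p := B.comap π)).2 (by
    rintro _ ⟨i, rfl⟩; exact h i) hz)

theorem pj_mem_of_eig [Fintype E] {τ : Representation k E V} {β γ : E →* kˣ} {v : V}
    (hv : v ∈ Eig τ β) {B : Submodule k V} (h : β = γ → v ∈ B) : pj τ γ v ∈ B := by
  by_cases h1 : β = γ
  · rw [← h1, pj_of_eig hv]; exact B.smul_mem _ (h h1)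
  · rw [eq_zero_of_mem_Eig h1 (pj_mem γ (fun e x hx => by
      rw [hx e]; exact Submodule.smul_mem _ _ hx) hv) (pj_eig τ γ v)]
    exact zero_mem _

/-- data of the tensor square -/
structure Sq (ev : A →ₐ[k] End k V) (x y : A) (d : ℕ) (w0 : V) (τ : Representation k E V)
    (α μ : E →* kˣ) (T S : End k V) : Prop where
  xd : ev (x ^ d) = 0
  yd : ev (y ^ d) = 0
  span : Submodule.span k (Set.range fun ab : ℕ × ℕ => ev (x ^ ab.1 * y ^ ab.2) w0) = ⊤
  coord : ∀ a0 < d, ∀ b0 < d, ∃ l : V →ₗ[k] k, ∀ a b,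
    l (ev (x ^ a * y ^ b) w0) = if a = a0 ∧ b = b0 then 1 else 0
  unit : ∃ w, IsUnit (ev w) ∧ T = ev (w * (x + y))
  Sx : ∀ v, S (ev x v) = ev y (S v)
  Sy : ∀ v, S (ev y v) = ev x (S v)
  Sw : S w0 = w0
  ex : ∀ e v, τ e (ev x v) = (α e : k) • ev x (τ e v)
  ey : ∀ e v, τ e (ev y v) = (α e : k) • ev y (τ e v)
  ew : w0 ∈ Eig τ μ

variable {ev : A →ₐ[k] End k V} {x y : A} {d : ℕ} {w0 : V} {τ : Representation k E V}
  {α μ : E →* kˣ} {T S : End k V}

theorem ev_mul (ev : A →ₐ[k] End k V) (a b : A) (v : V) : ev (a * b) v = ev a (ev b v) := by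
  rw [map_mul]; rfl

theorem hom_pow_add (α : E →* kˣ) (m n : ℕ) : α ^ (m + n) = α ^ m * α ^ n :=
  MonoidHom.ext fun e => pow_add (α e) m n

theorem hom_one_mul (α : E →* kˣ) : 1 * α = α := MonoidHom.ext fun e => one_mul (α e)

/-- homogeneous operators -/
def Hg (ev : A →ₐ[k] End k V) (τ : Representation k E V) (α : E →* kˣ) (q : A) (D : ℕ) : Prop :=
  ∀ e v, τ e (ev q v) = (α e : k) ^ D • ev q (τ e v)

theorem Hg.mul {a b : A} {m n : ℕ} (ha : Hg ev τ α a m) (hb : Hg ev τ α b n) :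
    Hg ev τ α (a * b) (m + n) := fun e v => by
  rw [ev_mul, ev_mul, ha, hb, map_smul, smul_smul, pow_add]

theorem Hg.pow {a : A} (ha : Hg ev τ α a 1) (n : ℕ) : Hg ev τ α (a ^ n) n := by
  induction n with
  | zero => exact fun e v => by simp
  | succ n ih => rw [pow_succ]; exact ih.mul ha

theorem Hg.add {a b : A} {m : ℕ} (ha : Hg ev τ α a m) (hb : Hg ev τ α b m) :
    Hg ev τ α (a + b) m := fun e v => by
  simp only [map_add, LinearMap.add_apply, ha e, hb e, smul_add]

theorem Hg.sub {a b : A} {m : ℕ} (ha : Hg ev τ α a m) (hb : Hg ev τ α b m) :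
    Hg ev τ α (a - b) m := fun e v => by
  simp only [map_sub, LinearMap.sub_apply, ha e, hb e, smul_sub]

theorem Hg.eig {a : A} {m : ℕ} (ha : Hg ev τ α a m) {v : V} (hv : v ∈ Eig τ μ) :
    ev a v ∈ Eig τ (μ * α ^ m) := fun e => by
  rw [ha, hv e, map_smul, smul_smul, MonoidHom.mul_apply, MonoidHom.pow_apply, Units.val_mul,
    Units.val_pow_eq_pow_val, mul_comm]

/-- `S a = b S` -/
def Sg (ev : A →ₐ[k] End k V) (S : End k V) (a b : A) : Prop := ∀ v, S (ev a v) = ev b (S v)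

theorem Sg.mul {a b a' b' : A} (ha : Sg ev S a a') (hb : Sg ev S b b') :
    Sg ev S (a * b) (a' * b') := fun v => by rw [ev_mul, ev_mul, ha, hb]

theorem Sg.pow {a a' : A} (ha : Sg ev S a a') (n : ℕ) : Sg ev S (a ^ n) (a' ^ n) := by
  induction n with
  | zero => exact fun v => by simp
  | succ n ih => rw [pow_succ, pow_succ]; exact ih.mul ha

namespace Sq
variable (h : Sq ev x y d w0 τ α μ T S)
include h

theorem hx : Hg ev τ α x 1 := fun e v => by rw [pow_one, h.ex]

theorem hy : Hg ev τ α y 1 := fun e v => by rw [pow_one, h.ey]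

theorem sg_add : Sg ev S (x + y) (x + y) := fun v => by
  simp only [map_add, LinearMap.add_apply, h.Sx, h.Sy, add_comm]

theorem sg_sub : Sg ev S (x - y) (-(x - y)) := fun v => by
  simp only [neg_sub, map_sub, LinearMap.sub_apply, h.Sx, h.Sy]

theorem S_mon (a b : ℕ) : S (ev (x ^ a * y ^ b) w0) = ev (x ^ b * y ^ a) w0 := by
  rw [((show Sg ev S x y from h.Sx).pow a).mul ((show Sg ev S y x from h.Sy).pow b), h.Sw,
    mul_comm]

theorem SS (v : V) : S (S v) = v := by
  refine sub_eq_zero.1 ((Submodule.mem_bot k).1 (map_mem_of_span (S ∘ₗ S - LinearMap.id)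
    (fun ab => ?_) (h.span.ge (Submodule.mem_top (x := v)))))
  simp [-map_mul, h.S_mon]

theorem mon_zero {a b : ℕ} (hab : d ≤ a ∨ d ≤ b) (q : A) : ev (q * (x ^ a * y ^ b)) = 0 := by
  rcases hab with h1 | h1
  · obtain ⟨c, rfl⟩ := Nat.exists_eq_add_of_le h1
    rw [show q * (x ^ (d + c) * y ^ b) = q * x ^ c * y ^ b * x ^ d by ring, map_mul, h.xd, mul_zero]
  · obtain ⟨c, rfl⟩ := Nat.exists_eq_add_of_le h1
    rw [show q * (x ^ a * y ^ (d + c)) = q * x ^ a * y ^ c * y ^ d by ring, map_mul, h.yd, mul_zero]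

theorem range_T (j : ℕ) : LinearMap.range (T ^ j) = LinearMap.range (ev ((x + y) ^ j)) := by
  obtain ⟨w, h1, rfl⟩ := h.unit
  rw [← map_pow, mul_pow, mul_comm, map_mul]
  exact LinearMap.range_comp_of_range_eq_top _ (LinearMap.range_eq_top.2
    ((End.isUnit_iff _).1 (by rw [map_pow]; exact h1.pow j)).2)

theorem mem_of_gen {q : A} {B : Submodule k V} (hB : ∀ a b, ev (q * (x ^ a * y ^ b)) w0 ∈ B) :
    LinearMap.range (ev q) ≤ B := by
  rintro _ ⟨v, rfl⟩
  exact map_mem_of_span (ev q) (fun ab => by rw [← ev_mul]; exact hB _ _) (h.span.ge trivial)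

omit h in
theorem mem_of_add_pow {B : Submodule k V} (n a b : ℕ)
    (hB : ∀ m ≤ n, ev (x ^ (m + a) * y ^ (n - m + b)) w0 ∈ B) :
    ev ((x + y) ^ n * (x ^ a * y ^ b)) w0 ∈ B := by
  rw [add_pow, Finset.sum_mul, map_sum, LinearMap.sum_apply]
  refine B.sum_mem fun m hm => ?_
  rw [show x ^ m * y ^ (n - m) * n.choose m * (x ^ a * y ^ b) =
    n.choose m • (x ^ (m + a) * y ^ (n - m + b)) by rw [nsmul_eq_mul]; ring, map_nsmul,
    LinearMap.smul_apply]
  exact B.nsmul_mem (hB m (Nat.lt_succ_iff.1 (Finset.mem_range.1 hm))) _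

variable [Fintype E] [FiniteDimensional k V]

theorem minus_bound (hE : (Fintype.card E : k) ≠ 0) {e : ℕ} (he : 0 < e) (hα : α ^ e = 1)
    {D ν : ℕ} (h1 : d ≤ D + ν + 1) (h2 : D + 1 ≤ d + ν) :
    finrank k (LinearMap.range (T ^ e) ⊓ Eig τ (μ * α ^ D) : Submodule k V) + (d - ν) ≤
      finrank k (Eig τ (μ * α ^ D)) := by
  classical
  let I := (Finset.range d ×ˢ Finset.range d).filter fun ab => μ * α ^ (ab.1 + ab.2) = μ * α ^ D
  let I0 := I.filter fun ab => ab.1 + ab.2 = D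
  have hI : ∀ ab, ab ∈ I ↔ (ab.1 < d ∧ ab.2 < d) ∧ μ * α ^ (ab.1 + ab.2) = μ * α ^ D := by
    simp [I]
  have k1 : I.card ≤ finrank k (Eig τ (μ * α ^ D)) := by
    have hli : LinearIndependent k fun ab : I => (⟨ev (x ^ ab.1.1 * y ^ ab.1.2) w0,
        ((hI _).1 ab.2).2 ▸ ((h.hx.pow _).mul (h.hy.pow _)).eig h.ew⟩ : Eig τ (μ * α ^ D)) := by
      refine LinearIndependent.of_comp (Eig τ (μ * α ^ D)).subtype
        (Fintype.linearIndependent_iff.2 fun c hc i => ?_)
      obtain ⟨l, hl⟩ := h.coord _ ((hI _).1 i.2).1.1 _ ((hI _).1 i.2).1.2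
      have := congrArg l hc
      simp only [Function.comp_apply, Submodule.subtype_apply, map_sum, map_smul, hl, map_zero,
        smul_eq_mul, mul_ite, mul_one, mul_zero] at this
      rwa [Finset.sum_eq_single i (fun j _ hj => if_neg fun h3 =>
        hj (Subtype.ext (Prod.ext h3.1 h3.2))) (by simp), if_pos ⟨rfl, rfl⟩] at this
    simpa using hli.fintype_card_le_finrank
  have k2 : d - ν ≤ I0.card := by
    rw [← Finset.card_range (d - ν)]
    refine Finset.card_le_card_of_injOn (fun i => (min D (d - 1) - i, D - min D (d - 1) + i))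
      (fun i hi => ?_) fun i _ j _ hij => ?_
    · have hi := Finset.mem_range.1 hi
      have h3 : min D (d - 1) - i + (D - min D (d - 1) + i) = D := by omega
      exact Finset.mem_filter.2 ⟨(hI _).2 ⟨⟨by dsimp only; omega, by dsimp only; omega⟩,
        by rw [h3]⟩, h3⟩
    · have := congrArg Prod.snd hij
      dsimp only at this
      omega
  let f : ℕ × ℕ → V := fun ab => if ab.1 + ab.2 < D then
    ev ((x + y) ^ e * (x ^ ab.1 * y ^ ab.2)) w0 else ev (x ^ ab.1 * y ^ ab.2) w0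
  have hf : ∀ ab ∈ I, ab.1 + ab.2 ≠ D → f ab ∈ Submodule.span k (((I \ I0).image f : Finset V) : Set V) :=
    fun ab h3 h4 => Submodule.subset_span (Finset.mem_coe.2 (Finset.mem_image_of_mem f
      (Finset.mem_sdiff.2 ⟨h3, fun h5 => h4 (Finset.mem_filter.1 h5).2⟩)))
  have k3 : LinearMap.range (T ^ e) ⊓ Eig τ (μ * α ^ D) ≤
      Submodule.span k (((I \ I0).image f : Finset V) : Set V) := by
    rintro z ⟨hz1, hz2⟩
    rw [h.range_T] at hz1
    refine (Submodule.smul_mem_iff _ hE).1 ?_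
    rw [← pj_of_eig hz2]
    refine Submodule.mem_comap.1 (h.mem_of_gen (fun a b => Submodule.mem_comap.2 ?_) hz1)
    refine pj_mem_of_eig ((((h.hx.add h.hy).pow e).mul ((h.hx.pow a).mul (h.hy.pow b))).eig h.ew)
      fun h3 => ?_
    rw [hom_pow_add, hα, hom_one_mul] at h3
    by_cases h4 : d ≤ a ∨ d ≤ b
    · rw [h.mon_zero h4]; exact zero_mem _
    by_cases h5 : a + b < D
    · have := hf (a, b) ((hI _).2 ⟨⟨by omega, by omega⟩, h3⟩) h5.ne
      rwa [show f (a, b) = _ from if_pos h5] at this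
    refine mem_of_add_pow e a b fun m hm => ?_
    by_cases h6 : d ≤ m + a ∨ d ≤ e - m + b
    · rw [← one_mul (x ^ _ * _), h.mon_zero h6]; exact zero_mem _
    have h7 : m + a + (e - m + b) = e + (a + b) := by omega
    have := hf (m + a, e - m + b) ((hI _).2 ⟨⟨by omega, by omega⟩, by
      rw [h7, hom_pow_add, hα, hom_one_mul, h3]⟩) (by omega)
    rwa [show f (m + a, e - m + b) = _ from if_neg (by omega)] at this
  have k4 := (Submodule.finrank_mono k3).trans
    ((finrank_span_finset_le_card _).trans Finset.card_image_le)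
  have k5 : (I \ I0).card + I0.card = I.card :=
    Finset.card_sdiff_add_card_eq_card (Finset.filter_subset _ _)
  omega

variable {p : ℕ} [hp : Fact p.Prime] [CharP k p] [CharP A p]

omit h in
theorem mon_mod (h2 : (2 : k) ≠ 0) (x y : A) (a b : ℕ) : ∃ (c : k) (Q : A),
    x ^ a * y ^ b = c • (x - y) ^ (a + b) + (x + y) * Q := by
  have h3 : algebraMap k A 2⁻¹ * 2 = 1 := by
    rw [← map_ofNat (algebraMap k A), ← map_mul, inv_mul_cancel₀ h2, map_one]
  induction a with
  | zero =>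
    induction b with
    | zero => exact ⟨1, 0, by simp⟩
    | succ b ih =>
      obtain ⟨c, Q, ih⟩ := ih
      refine ⟨-(2⁻¹ * c), y * Q + (2⁻¹ * c) • (x - y) ^ (0 + b), ?_⟩
      simp only [Algebra.smul_def, map_mul, map_neg, zero_add] at ih ⊢
      linear_combination y * ih - y * algebraMap k A c * (x - y) ^ b * h3
  | succ a ih =>
    obtain ⟨c, Q, ih⟩ := ih
    refine ⟨2⁻¹ * c, x * Q + (2⁻¹ * c) • (x - y) ^ (a + b), ?_⟩
    simp only [Algebra.smul_def, map_mul] at ih ⊢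
    linear_combination x * ih - x * algebraMap k A c * (x - y) ^ (a + b) * h3

omit h in
theorem syz_of_cop {x y : A} (cop : ∀ (a b : ℕ) (z : A), y ^ b ∣ x ^ a * z → y ^ b ∣ z) {e : ℕ}
    (hde : d + e = p) (h2 : 2 * e ≤ d) :
    ∃ r c b, (x + y) ^ d * x ^ (d - e) = (x + y) ^ (d + 1) * r + c * y ^ d + b * x ^ d := by
  obtain ⟨r, b, hrb⟩ : ∃ r b, r * ((x + y) * (-x) ^ e) + b * (x + y) ^ e = y ^ d - (-x) ^ d := by
    rw [← Ideal.mem_span_pair, show y ^ d = (x + y + -x) ^ d by ring, add_pow (x + y),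
      Finset.sum_range_succ', pow_zero, one_mul, Nat.sub_zero, Nat.choose_zero_right, Nat.cast_one,
      mul_one, add_sub_cancel_right]
    refine Ideal.sum_mem _ fun m _ => Ideal.mul_mem_right _ _ ?_
    by_cases hm : e ≤ m + 1
    · obtain ⟨c, hc⟩ := Nat.exists_eq_add_of_le hm
      exact Ideal.mem_span_pair.2 ⟨0, (x + y) ^ c * (-x) ^ (d - (m + 1)), by rw [hc]; ring⟩
    · obtain ⟨c, hc⟩ := Nat.exists_eq_add_of_le (show e ≤ d - (m + 1) by omega)
      exact Ideal.mem_span_pair.2 ⟨(x + y) ^ m * (-x) ^ c, 0, by rw [hc]; ring⟩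
  obtain ⟨n, hn⟩ := Nat.exists_eq_add_of_le (show e ≤ d by omega)
  have h3 := add_pow_char x y p
  rw [← hde] at h3
  obtain ⟨c, hc⟩ := cop e d ((-1) ^ e * (x + y) ^ d * ((-x) ^ n + (x + y) * r) + x ^ d * b)
    ⟨(x + y) ^ d - y ^ e * b, by
      have h4 : (-x) ^ d = (-1) ^ e * x ^ e * (-x) ^ n := by rw [hn, pow_add, neg_pow x e]
      rw [neg_pow x e, h4] at hrb
      linear_combination (x + y) ^ d * hrb - b * h3⟩
  refine ⟨-((-1) ^ n * r), (-1) ^ (e + n) * c, -((-1) ^ (e + n) * b), ?_⟩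
  have h5 : ((-1 : A) ^ e) ^ 2 = 1 := by rw [← pow_mul, mul_comm, pow_mul, neg_one_sq, one_pow]
  have h6 : ((-1 : A) ^ n) ^ 2 = 1 := by rw [← pow_mul, mul_comm, pow_mul, neg_one_sq, one_pow]
  rw [neg_pow x n] at hc
  rw [pow_add (-1 : A), show d - e = n by omega]
  linear_combination ((-1) ^ e * (-1) ^ n) * hc -
    ((x + y) ^ d * ((-1) ^ n * ((-1) ^ n * x ^ n + (x + y) * r))) * h5 - (x + y) ^ d * x ^ n * h6

open Polynomial in
theorem syzygy {e : ℕ} (hde : d + e = p) (h2 : 2 * e ≤ d) :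
    ∃ r, ev ((x + y) ^ d * x ^ (d - e)) = ev ((x + y) ^ (d + 1) * r) := by
  obtain ⟨r, c, b, hr⟩ := syz_of_cop (A := k[X][X]) (x := C X) (y := X) (fun a b z hz => by
    rw [X_pow_dvd_iff] at hz ⊢
    intro i hi
    have := hz i hi
    rw [← map_pow, coeff_C_mul] at this
    exact (mul_eq_zero.1 this).resolve_left (pow_ne_zero _ X_ne_zero)) hde h2
  have h3 := congrArg (aevalAeval x y) hr
  simp only [map_mul, map_add, map_pow, aevalAeval_X, aevalAeval_Y] at h3
  exact ⟨_, by rw [h3, map_add, map_add, map_mul _ _ (y ^ d), map_mul _ _ (x ^ d), h.xd,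
    h.yd, mul_zero, mul_zero, add_zero, add_zero]⟩

theorem plus_span (hp2 : (2 : k) ≠ 0) {e : ℕ} (hde : d + e = p) (h2 : 2 * e ≤ d) :
    LinearMap.range (ev ((x + y) ^ d)) ≤ Submodule.span k (Set.range
      fun ij : Fin e × Fin (d - e) => ev ((x + y) ^ (d + ij.1) * (x - y) ^ (ij.2 : ℕ)) w0) := by
  obtain ⟨r, hr⟩ := h.syzygy hde h2
  suffices key : ∀ m i, i + m = e → LinearMap.range (ev ((x + y) ^ (d + i))) ≤ _ from
    key e 0 (zero_add e)
  intro m
  induction m with
  | zero =>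
    intro i hi
    rw [show d + i = p by omega, add_pow_char, ← hde, pow_add, pow_add, map_add, map_mul, map_mul,
      h.xd, h.yd, zero_mul, zero_mul, add_zero, LinearMap.range_zero]
    exact bot_le
  | succ m ih =>
    intro i hi
    have k1 : ∀ Q, ev ((x + y) ^ (d + i) * ((x + y) * Q)) w0 ∈ _ := fun Q =>
      ih (i + 1) (by omega) ⟨ev Q w0, by rw [← ev_mul]; congr 2; ring⟩
    refine h.mem_of_gen fun a b => ?_
    obtain ⟨c, Q, hQ⟩ := mon_mod hp2 x y a b
    rw [hQ, mul_add, map_add, LinearMap.add_apply, mul_smul_comm, map_smul, LinearMap.smul_apply]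
    refine add_mem (Submodule.smul_mem _ _ ?_) (k1 Q)
    by_cases h3 : a + b < d - e
    · exact Submodule.subset_span ⟨(⟨i, by omega⟩, ⟨a + b, h3⟩), rfl⟩
    obtain ⟨j, hj⟩ := Nat.exists_eq_add_of_le (not_lt.1 h3)
    obtain ⟨Q', hQ'⟩ := sub_dvd_pow_sub_pow (2 * x) (x - y) (a + b)
    have k2 : (x + y) ^ (d + i) * (x - y) ^ (a + b) = (x + y) ^ i * (2 ^ (a + b) * x ^ j) *
        ((x + y) ^ d * x ^ (d - e)) - (x + y) ^ (d + i) * ((x + y) * Q') := by
      rw [mul_pow, hj, pow_add x, ← hj] at hQ'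
      linear_combination -(x + y) ^ (d + i) * hQ'
    rw [k2, map_sub, map_mul, hr, ← map_mul, LinearMap.sub_apply]
    refine sub_mem ?_ (k1 Q')
    convert k1 (2 ^ (a + b) * x ^ j * r) using 3
    ring

theorem plus_bound (hE : (Fintype.card E : k) ≠ 0) (hp2 : (2 : k) ≠ 0) {e : ℕ}
    (hde : d + e = p) (h2 : 2 * e ≤ d) (hα : ∀ i < e, ∀ j < e, α ^ i = α ^ j → i = j)
    (γ : E →* kˣ) {r : ℕ} (hr : r < 2) :
    finrank k (LinearMap.range (T ^ d) ⊓ Eig τ γ ⊓ S.eigenspace ((-1) ^ r) : Submodule k V) ≤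
      (d - e + 1 - r) / 2 := by
  classical
  let f : Fin e × Fin (d - e) → V := fun ij => ev ((x + y) ^ (d + ij.1) * (x - y) ^ (ij.2 : ℕ)) w0
  let F : Finset (Fin e × Fin (d - e)) := Finset.univ.filter fun ij =>
    μ * α ^ (d + ij.1 + ij.2) = γ ∧ ij.2 % 2 = r
  have k1 : F.card ≤ (d - e + 1 - r) / 2 := by
    rw [← Finset.card_range ((d - e + 1 - r) / 2)]
    refine Finset.card_le_card_of_injOn (fun ij => ij.2 / 2) (fun ij hij => ?_)
      fun ij h3 ij' h4 h5 => ?_
    · have := (Finset.mem_filter.1 hij).2.2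
      have := ij.2.2
      exact Finset.mem_coe.2 (Finset.mem_range.2 (by dsimp only; omega))
    · obtain ⟨h6, h7⟩ := (Finset.mem_filter.1 h3).2
      obtain ⟨h8, h9⟩ := (Finset.mem_filter.1 h4).2
      have h10 : ij.2 = ij'.2 := Fin.ext (by dsimp only at h5; omega)
      rw [← h8, h10] at h6
      refine Prod.ext (Fin.ext (hα _ ij.1.2 _ ij'.1.2 (MonoidHom.ext fun g => ?_))) h10
      have h11 : μ g * α g ^ (d + ij.1 + ij'.2) = μ g * α g ^ (d + ij'.1 + ij'.2) :=
        DFunLike.congr_fun h6 g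
      rw [pow_add, pow_add, pow_add, pow_add] at h11
      exact mul_left_cancel (mul_right_cancel (mul_left_cancel h11))
  refine le_trans (Submodule.finrank_mono (t := Submodule.span k ((F.image f : Finset V) : Set V))
    ?_) ((finrank_span_finset_le_card _).trans (Finset.card_image_le.trans k1))
  rintro z ⟨⟨hz1, hz2⟩, hz3⟩
  rw [h.range_T] at hz1
  have hz4 : S z = (-1 : k) ^ r • z := End.mem_eigenspace_iff.1 hz3
  have hs : ∀ n : ℕ, (-1 : k) ^ n * (-1) ^ n = 1 := fun n => by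
    rw [← mul_pow, neg_mul_neg, one_mul, one_pow]
  have k2 := map_mem_of_span (pj τ γ * (1 + (-1 : k) ^ r • S))
    (B := Submodule.span k ((F.image f : Finset V) : Set V)) (fun ij => by
      have k2 : S (f ij) = (-1 : k) ^ (ij.2 : ℕ) • f ij := by
        rw [(h.sg_add.pow _).mul (h.sg_sub.pow _), h.Sw, neg_pow (x - y), mul_left_comm, ev_mul,
          map_pow, map_neg, map_one, ← map_one (algebraMap k (End k V)), ← map_neg, ← map_pow]
        rfl
      change pj τ γ (f ij + (-1 : k) ^ r • S (f ij)) ∈ _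
      rw [k2, smul_smul]
      by_cases k3 : (ij.2 : ℕ) % 2 = r
      · rw [neg_one_pow_eq_pow_mod_two (ij.2 : ℕ), k3, hs, one_smul, map_add]
        have := pj_mem_of_eig (γ := γ) (B := Submodule.span k ((F.image f : Finset V) : Set V))
          ((((h.hx.add h.hy).pow (d + ij.1)).mul ((h.hx.sub h.hy).pow ij.2)).eig h.ew)
          fun k4 => Submodule.subset_span (Finset.mem_coe.2 (Finset.mem_image_of_mem f
            (Finset.mem_filter.2 ⟨Finset.mem_univ _, k4, k3⟩)))
        exact add_mem this this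
      · rw [← pow_add, Odd.neg_one_pow (Nat.odd_iff.2 (by omega)), neg_one_smul, add_neg_cancel,
          map_zero]
        exact zero_mem _) (h.plus_span hp2 hde h2 hz1)
  change pj τ γ (z + (-1 : k) ^ r • S z) ∈ _ at k2
  rw [hz4, smul_smul, hs, one_smul, ← two_smul k, map_smul, pj_of_eig hz2, smul_smul] at k2
  exact (Submodule.smul_mem_iff _ (mul_ne_zero hp2 hE)).1 k2

end Sq

end H33.Bl
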