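import Mathlib
import Cfsg.Agent.Lib.Blau.Alg

/-! A small block in the exterior square when `2 d = p + 1`. -/

set_option autoImplicit false
set_option linter.unusedSectionVars false
set_option linter.style.haveILetI false

open Module H88.Mod

namespace H33.Bl

variable {k : Type*} [Field k] {V : Type*} [AddCommGroup V] [Module k V] {A : Type*} [CommRing A]
  [Algebra k A] {E : Type*} [Group E]

/-- the filtration by degree -/
def Fil (ev : A →ₐ[k] End k V) (x y : A) (w0 : V) (j : ℕ) : Submodule k V :=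
  Submodule.span k (Set.range fun ab : {ab : ℕ × ℕ // j ≤ ab.1 + ab.2} =>
    ev (x ^ ab.1.1 * y ^ ab.1.2) w0)

variable {ev : A →ₐ[k] End k V} {x y : A} {d : ℕ} {w0 : V} {τ : Representation k E V}
  {α μ : E →* kˣ} {T S : End k V}

theorem mon_mem {j a b : ℕ} (h : j ≤ a + b) : ev (x ^ a * y ^ b) w0 ∈ Fil ev x y w0 j :=
  Submodule.subset_span ⟨⟨(a, b), h⟩, rfl⟩

theorem pow_mem_Fil (i : ℕ) {j m : ℕ} (hm : m ≤ i + j) {v : V} (hv : v ∈ Fil ev x y w0 j) :
    ev ((x + y) ^ i) v ∈ Fil ev x y w0 m :=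
  map_mem_of_span (ev ((x + y) ^ i)) (fun ab => by
    rw [← ev_mul]
    exact Sq.mem_of_add_pow _ _ _ fun n hn => mon_mem (by have := ab.2; omega)) hv

theorem coord_Fil {l : V →ₗ[k] k} {a0 b0 : ℕ}
    (hl : ∀ a b, l (ev (x ^ a * y ^ b) w0) = if a = a0 ∧ b = b0 then 1 else 0) {j : ℕ}
    (hj : a0 + b0 < j) {v : V} (hv : v ∈ Fil ev x y w0 j) : l v = 0 :=
  (Submodule.mem_bot k).1 (map_mem_of_span l (fun ab => by
    rw [hl, if_neg fun h => by have := ab.2; omega]; exact zero_mem _) hv)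

theorem coord_add_pow {l : V →ₗ[k] k} {a0 b0 : ℕ}
    (hl : ∀ a b, l (ev (x ^ a * y ^ b) w0) = if a = a0 ∧ b = b0 then 1 else 0) {n m a b : ℕ}
    (hm : m ≤ n) (h1 : m + a = a0) (h2 : n - m + b = b0) :
    l (ev ((x + y) ^ n * (x ^ a * y ^ b)) w0) = n.choose m := by
  rw [add_pow, Finset.sum_mul, map_sum, LinearMap.sum_apply, map_sum, Finset.sum_congr rfl
    (g := fun i => if i = m then (n.choose m : k) else 0) fun i hi => ?_, Finset.sum_ite_eq',
    if_pos (Finset.mem_range.2 (by omega))]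
  rw [show x ^ i * y ^ (n - i) * n.choose i * (x ^ a * y ^ b) =
    n.choose i • (x ^ (i + a) * y ^ (n - i + b)) by rw [nsmul_eq_mul]; ring, map_nsmul,
    LinearMap.smul_apply, map_nsmul, hl]
  by_cases h : i = m
  · rw [if_pos h, if_pos ⟨by omega, by omega⟩, h, nsmul_one]
  · rw [if_neg h, if_neg fun h3 => h (by omega), nsmul_zero]

namespace Sq
variable (h : Sq ev x y d w0 τ α μ T S)
include h

theorem Fil_top {v : V} (hv : v ∈ Fil ev x y w0 (2 * d - 1)) : v = 0 :=
  (Submodule.mem_bot k).1 (map_mem_of_span LinearMap.id (fun ab => by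
    rw [← one_mul (x ^ _ * _), h.mon_zero (by have := ab.2; omega)]; exact zero_mem _) hv)

theorem anti (hp2 : (2 : k) ≠ 0) {v : V} (hv : S v = -v) : ∃ c1 c2 : k, ∃ f ∈ Fil ev x y w0 3,
    v = c1 • ev (x - y) w0 + c2 • ev ((x + y) * (x - y)) w0 + f := by
  have h1 := map_mem_of_span (1 - S) (B := (k ∙ ev (x - y) w0) ⊔ (k ∙ ev ((x + y) * (x - y)) w0) ⊔
    Fil ev x y w0 3) (fun ab => ?_) (h.span.ge (Submodule.mem_top (x := v)))
  · rw [LinearMap.sub_apply, hv, End.one_apply, sub_neg_eq_add, ← two_smul k,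
      Submodule.smul_mem_iff _ hp2] at h1
    obtain ⟨_, h2, f, hf, rfl⟩ := Submodule.mem_sup.1 h1
    obtain ⟨_, h3, _, h4, rfl⟩ := Submodule.mem_sup.1 h2
    obtain ⟨c1, rfl⟩ := Submodule.mem_span_singleton.1 h3
    obtain ⟨c2, rfl⟩ := Submodule.mem_span_singleton.1 h4
    exact ⟨c1, c2, f, hf, rfl⟩
  obtain ⟨a, b⟩ := ab
  rw [LinearMap.sub_apply, h.S_mon, End.one_apply]
  by_cases h1 : 3 ≤ a + b
  · exact Submodule.mem_sup_right (sub_mem (mon_mem h1) (mon_mem (by omega)))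
  refine Submodule.mem_sup_left ?_
  have k1 := Submodule.mem_sup_left (T := k ∙ ev ((x + y) * (x - y)) w0)
    (Submodule.mem_span_singleton_self (R := k) (ev (x - y) w0))
  have k2 := Submodule.mem_sup_right (S := k ∙ ev (x - y) w0)
    (Submodule.mem_span_singleton_self (R := k) (ev ((x + y) * (x - y)) w0))
  rw [← LinearMap.sub_apply, ← map_sub]
  have h2 : a ≤ 2 := by omega
  have h3 : b ≤ 2 := by omega
  interval_cases a <;> interval_cases b
  · simp
  · convert neg_mem k1 using 1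
    rw [← LinearMap.neg_apply, ← map_neg]; congr 2; ring
  · convert neg_mem k2 using 1
    rw [← LinearMap.neg_apply, ← map_neg]; congr 2; ring
  · convert k1 using 3; ring
  · simp
  · omega
  · convert k2 using 3; ring
  all_goals omega

variable {p : ℕ} [hp : Fact p.Prime] [CharP k p]

theorem anti_top (hp2 : (2 : k) ≠ 0) (hd : 2 * d = p + 1) {v : V} (hv : S v = -v) :
    (T ^ (p - 1)) v = 0 := by
  obtain ⟨c1, c2, f, hf, rfl⟩ := h.anti hp2 hv
  obtain ⟨w, -, rfl⟩ := h.unit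
  have h1 : ev (x - y) w0 ∈ Fil ev x y w0 1 := by
    rw [map_sub, LinearMap.sub_apply]
    exact sub_mem (by simpa using mon_mem (a := 1) (b := 0) le_rfl)
      (by simpa using mon_mem (a := 0) (b := 1) le_rfl)
  have hp1 := hp.out.one_lt
  rw [← map_pow, mul_pow, ev_mul, h.Fil_top (pow_mem_Fil (p - 1) (j := 1) (by omega) ?_), map_zero]
  refine add_mem (add_mem (Submodule.smul_mem _ _ h1) (Submodule.smul_mem _ _ ?_)) ?_
  · rw [ev_mul, ← pow_one (x + y)]
    exact pow_mem_Fil 1 (by omega) h1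
  · simpa using pow_mem_Fil 0 (m := 1) (by omega) hf

theorem anti_ker (hp2 : (2 : k) ≠ 0) (hd : d + 1 < p) (hd5 : 5 ≤ d) {v : V} (hv : S v = -v)
    (h0 : ev ((x + y) ^ d) v = 0) : v ∈ Fil ev x y w0 3 := by
  obtain ⟨c1, c2, f, hf, rfl⟩ := h.anti hp2 hv
  obtain ⟨l, hl⟩ := h.coord (d - 1) (by omega) 3 (by omega)
  have h1 : l (ev ((x + y) ^ (d + 1) * (x - y)) w0) ≠ 0 := by
    have k1 := coord_add_pow hl (n := d + 1) (m := d - 2) (a := 1) (b := 0) (by omega) (by omega)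
      (by omega)
    have k2 := coord_add_pow hl (n := d + 1) (m := d - 2 + 1) (a := 0) (b := 1) (by omega)
      (by omega) (by omega)
    have k3 := congrArg (Nat.cast : ℕ → k) (Nat.choose_succ_right_eq (d + 1) (d - 2))
    simp only [pow_one, pow_zero, mul_one, one_mul] at k1 k2
    rw [mul_sub, map_sub, LinearMap.sub_apply, map_sub, k1, k2, sub_ne_zero]
    intro k4
    rw [Nat.cast_mul, Nat.cast_mul, ← k4, show d + 1 - (d - 2) = 3 by omega,
      show d - 2 + 1 = d - 4 + 3 by omega, Nat.cast_add, mul_add, add_eq_right, mul_eq_zero,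
      CharP.cast_eq_zero_iff k p, CharP.cast_eq_zero_iff k p] at k3
    rcases k3 with k3 | k3
    · exact hp.out.coprime_iff_not_dvd.1 (hp.out.coprime_choose_of_lt hd (by omega)) k3
    · exact absurd (Nat.le_of_dvd (by omega) k3) (by omega)
  have h2 : ev (x - y) w0 ∈ Fil ev x y w0 1 := by
    rw [map_sub, LinearMap.sub_apply]
    exact sub_mem (by simpa using mon_mem (a := 1) (b := 0) le_rfl)
      (by simpa using mon_mem (a := 0) (b := 1) le_rfl)
  have h3 : c1 = 0 := by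
    have k1 := congrArg (fun z => l (ev (x + y) z)) h0
    simp only [← ev_mul, ← pow_succ', map_zero] at k1
    rw [map_add, map_add, map_add, map_add, map_smul, map_smul, map_smul, map_smul, ← ev_mul,
      ← ev_mul, ← mul_assoc, ← pow_succ, ev_mul _ _ (x - y) w0, ev_mul _ _ (x - y) w0,
      coord_Fil hl (by omega) (pow_mem_Fil (d + 1 + 1) le_rfl h2),
      coord_Fil hl (by omega) (pow_mem_Fil (d + 1) le_rfl hf), smul_zero, add_zero, add_zero,
      ← ev_mul] at k1
    exact (smul_eq_zero.1 k1).resolve_right h1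
  have h4 : c2 = 0 := by
    have k1 := congrArg l h0
    rw [h3, zero_smul, zero_add, map_add, map_add, map_smul, map_smul, ← ev_mul, ← mul_assoc,
      ← pow_succ, coord_Fil hl (by omega) (pow_mem_Fil d le_rfl hf), add_zero, map_zero] at k1
    exact (smul_eq_zero.1 k1).resolve_right h1
  rwa [h3, h4, zero_smul, zero_smul, zero_add, zero_add]

theorem exists_small (hp2 : (2 : k) ≠ 0) (hd : d + 1 < p) (hd5 : 5 ≤ d) :
    ∃ s v, 1 ≤ s ∧ s + 2 ≤ d ∧ S v = -v ∧ (T ^ (s + 1)) v = 0 ∧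
      (T ^ s) v ∉ LinearMap.range (T ^ (s + 1)) := by
  classical
  obtain ⟨j, hj1, hj2, hj3⟩ : ∃ j, 1 ≤ j ∧ j ≤ 2 ∧ Odd (d - 1 + j) := by
    by_cases h1 : d % 2 = 0
    · exact ⟨2, by omega, le_rfl, Nat.odd_iff.2 (by omega)⟩
    · exact ⟨1, le_rfl, by omega, Nat.odd_iff.2 (by omega)⟩
  set D := d - 1 + j with hD
  let z0 := ev (∑ i ∈ Finset.range (D + 1), x ^ i * (-y) ^ (D + 1 - 1 - i)) w0
  have e0 : z0 = ∑ i ∈ Finset.range (D + 1), (-1 : k) ^ (D - i) • ev (x ^ i * y ^ (D - i)) w0 := by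
    simp only [z0, map_sum, LinearMap.sum_apply]
    refine Finset.sum_congr rfl fun i _ => ?_
    rw [← LinearMap.smul_apply, ← map_smul, Algebra.smul_def, map_pow, map_neg, map_one,
      neg_pow y, mul_left_comm, Nat.add_sub_cancel]
  have e1 : ev (x + y) z0 = 0 := by
    have := geom_sum₂_mul x (-y) (D + 1)
    rw [← ev_mul, mul_comm, ← sub_neg_eq_add, this, show x ^ (D + 1) - (-y) ^ (D + 1) =
      1 * (x ^ (D + 1) * y ^ 0) - (-1) ^ (D + 1) * (x ^ 0 * y ^ (D + 1)) by rw [neg_pow y]; ring,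
      map_sub, h.mon_zero (by omega), h.mon_zero (by omega), sub_self, LinearMap.zero_apply]
  obtain ⟨l, hl⟩ := h.coord (d - 1) (by omega) j (by omega)
  have e2 : l (z0 - S z0) ≠ 0 := by
    rw [e0, map_sub, map_sum S, map_sum, map_sum]
    simp only [map_smul, h.S_mon, hl]
    rw [Finset.sum_eq_single (d - 1) (fun i _ hi => by rw [if_neg fun h1 => hi h1.1, smul_zero])
      (fun h1 => absurd (Finset.mem_range.2 (by omega)) h1),
      Finset.sum_eq_single j (fun i _ hi => by rw [if_neg fun h1 => hi h1.2, smul_zero])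
      (fun h1 => absurd (Finset.mem_range.2 (by omega)) h1), if_pos ⟨rfl, by omega⟩,
      if_pos ⟨by omega, rfl⟩, show D - (d - 1) = j by omega, show D - j = d - 1 by omega,
      smul_eq_mul, smul_eq_mul, mul_one, mul_one, sub_ne_zero]
    intro h1
    have h2 := hj3.neg_one_pow (α := k)
    rw [hD, pow_add, ← h1, ← mul_pow, neg_mul_neg, one_mul, one_pow] at h2
    exact hp2 (by linear_combination h2)
  have e3 : z0 - S z0 ∈ LinearMap.range (ev (x + y)) := by
    have k1 : ∀ a b, d ≤ a + b → ev (x ^ a * y ^ b) w0 ∈ LinearMap.range (ev (x + y)) := by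
      intro a b hab
      obtain ⟨Q, hQ⟩ := sub_dvd_pow_sub_pow y (-x) b
      refine ⟨ev (x ^ a * Q) w0, ?_⟩
      rw [← ev_mul, show x ^ a * y ^ b = (x + y) * (x ^ a * Q) + (-1) ^ b * (x ^ (a + b) * y ^ 0) by
        rw [neg_pow x] at hQ; linear_combination x ^ a * hQ, map_add ev,
        h.mon_zero (Or.inl hab), add_zero]
    rw [e0, map_sum S]
    refine sub_mem (Submodule.sum_mem _ fun i hi => Submodule.smul_mem _ _ (k1 _ _ (by omega)))
      (Submodule.sum_mem _ fun i hi => ?_)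
    rw [map_smul, h.S_mon]
    exact Submodule.smul_mem _ _ (k1 _ _ (by omega))
  set z := z0 - S z0 with hz
  have e4 : S z = -z := by rw [hz, map_sub, h.SS, neg_sub]
  have e5 : ev (x + y) z = 0 := by rw [hz, map_sub, ← h.sg_add, e1, map_zero, sub_zero]
  have e6 : ∀ s, z ∈ LinearMap.range (ev ((x + y) ^ s)) →
      ∃ v, S v = -v ∧ ev ((x + y) ^ s) v = z := by
    rintro s ⟨v, hv⟩
    refine ⟨(2 : k)⁻¹ • (v - S v), by rw [map_smul, map_sub, h.SS, ← smul_neg, neg_sub], ?_⟩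
    rw [map_smul, map_sub, ← h.sg_add.pow, hv, e4, sub_neg_eq_add, ← two_smul k, smul_smul,
      inv_mul_cancel₀ hp2, one_smul]
  have e7 : z ∉ LinearMap.range (ev ((x + y) ^ (d - 1))) := fun h1 => by
    obtain ⟨v, k1, k2⟩ := e6 _ h1
    have k3 := h.anti_ker hp2 hd hd5 k1 (by
      rw [show d = d - 1 + 1 by omega, pow_succ', ev_mul, k2, e5])
    exact e2 (k2 ▸ coord_Fil hl (by omega) (pow_mem_Fil (d - 1) le_rfl k3))
  have hex : ∃ s, z ∉ LinearMap.range (ev ((x + y) ^ s)) := ⟨_, e7⟩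
  have k1 := Nat.find_spec hex
  have k2 := Nat.find_min' hex e7
  have k3 : 2 ≤ Nat.find hex := by
    by_contra k3
    obtain k4 | k4 : Nat.find hex = 0 ∨ Nat.find hex = 1 := by omega
    · exact k1 ⟨z, by rw [k4]; simp⟩
    · exact k1 (by rwa [k4, pow_one])
  obtain ⟨s, hs⟩ : ∃ s, Nat.find hex = s + 1 := ⟨Nat.find hex - 1, by omega⟩
  obtain ⟨v, k4, k5⟩ := e6 s (not_not.1 (Nat.find_min hex (by omega)))
  obtain ⟨w, hw, rfl⟩ := h.unit
  refine ⟨s, v, by omega, by omega, k4, ?_, fun ⟨a, ha⟩ => k1 ⟨ev w a, ?_⟩⟩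
  · rw [← map_pow, mul_pow, ev_mul, pow_succ' (x + y), ev_mul, k5, e5, map_zero]
  · refine ((End.isUnit_iff _).1 (hw.pow s)).1 ?_
    rw [← map_pow, ← map_pow, mul_pow, mul_pow, ev_mul _ _ _ v, k5] at ha
    rw [← map_pow, ← ha, ← ev_mul, ← ev_mul, hs]
    congr 2
    ring

end Sq

end H33.Bl
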