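import Mathlib
import Cfsg.Agent.Lib.Mod88.Brauer
import Cfsg.Agent.Lib.Lin35.Ito
import Cfsg.Agent.Lib.Block.SelfCen
import Cfsg.Agent.Lib.Blau.Res

/-! Passing from a homomorphism to `PGL₂` to the structure of the group. -/

set_option autoImplicit false
set_option linter.unusedSectionVars false
set_option linter.style.haveILetI false

open Matrix H88.Mod Cfsg
open scoped MatrixGroups

namespace H33.Bl

universe v

variable {G : Type*} [Group G] [Finite G] {p : ℕ} [hp : Fact p.Prime]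

section
variable {k : Type*} [Field k] [CharP k p]

theorem exists_pgl' [IsAlgClosed k] {u : G} (hu : orderOf u = p) (hsq : ¬ p ^ 2 ∣ Nat.card G)
    {m0 : ℕ} (hm0 : 2 * m0 < p) (n : ℕ) :
    ∀ (V : Type v) [AddCommGroup V] [Module k V] [FiniteDimensional k V]
      (ρ : Representation k G V), Module.finrank k V = n → n < p → (ρ u - 1) ^ m0 = 0 → ρ u ≠ 1 →
      ∃ σ : G →* PGL(2, k), σ u ≠ 1 := by
  classical
  induction n using Nat.strong_induction_on with
  | _ n ih =>
  intro V _ _ _ ρ hn hnp hxn hu1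
  have hup : u ^ p = 1 := by rw [← hu, pow_orderOf_eq_one]
  have hx0 : ρ u - 1 ≠ 0 := sub_ne_zero.2 hu1
  have hex : ∃ j, (ρ u - 1) ^ j = 0 := ⟨m0, hxn⟩
  have h1 := Nat.find_spec hex
  have h2 : Nat.find hex ≤ m0 := Nat.find_min' hex hxn
  have h3 : 2 ≤ Nat.find hex := by
    by_contra h
    exact hx0 (by simpa using pow_eq_zero_of_le (show Nat.find hex ≤ 1 by omega) h1)
  obtain ⟨m, hm⟩ : ∃ m, Nat.find hex = m + 1 := ⟨Nat.find hex - 1, by omega⟩
  have h4 : (ρ u - 1) ^ m ≠ 0 := Nat.find_min hex (by omega)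
  rw [hm] at h1 h2 h3
  have hn0 : 0 < Module.finrank k V := Nat.pos_of_ne_zero fun h => by
    haveI := Module.finrank_zero_iff.1 h
    exact hu1 (LinearMap.ext fun _ => Subsingleton.elim _ _)
  by_cases hmin : ∀ φ : Module.End k V, (∀ g, ρ g * φ = φ * ρ g) → (ρ u - 1) ^ m * φ ≠ 0 →
      Function.Surjective φ
  · obtain ⟨E, hEN, hE, hNE⟩ := exists_compl hu hsq
    obtain ⟨U, hUE, hb⟩ := exists_free hu hsq ρ hEN hE hNE h1 h4 (by omega) hmin
    obtain ⟨e, h, f, k1, k2, k3, k4, k5⟩ := exists_triple hu ρ hEN (by omega) h1 (by omega)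
      hn0 (by omega) hUE hb
    let B : LinearMap.BilinForm k (Module.End k V) :=
      (LinearMap.mul k (Module.End k V)).compr₂ (LinearMap.trace k V)
    have hBa : ∀ a b, B a b = LinearMap.trace k V (a * b) := fun _ _ => rfl
    have hB : ∀ a b, B a b = B b a := fun a b => LinearMap.trace_mul_comm k a b
    have hinv : ∀ g a b, B (ρ.linHom ρ g a) (ρ.linHom ρ g b) = B a b := by
      intro g a b
      rw [hBa, hBa, linHom_self_apply, linHom_self_apply]
      simp only [mul_assoc]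
      rw [← mul_assoc (ρ g⁻¹), rho_inv_mul, one_mul, LinearMap.trace_mul_comm]
      simp only [mul_assoc, rho_inv_mul, mul_one]
    have hc : ∀ (g : G) (a b : Module.End k V), ρ g * a = b * ρ g → ρ.linHom ρ g a = b := by
      intro g a b hab
      rw [linHom_self_apply, hab, mul_assoc, rho_mul_inv, mul_one]
    obtain ⟨S, s1, s2, s3, s4⟩ := exists_three_of_triple hu hsq (by omega) (ρ.linHom ρ)
      (linHom_nilp ρ u h1 (by omega)) B hB (fun a ha => eq_zero_of_trace_mul a ha) hinv hNE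
      (hc _ _ _ k1) (hc _ _ _ k2) (hc _ _ _ k3) k4 (fun g hg => by
        obtain ⟨a, a0, a1, a2, a3⟩ := k5 g hg
        refine ⟨a, a⁻¹, hc _ _ _ (by rw [a1, smul_mul_assoc]), hc _ _ _ a2, hc _ _ _ ?_⟩
        rw [smul_mul_assoc, a3, smul_smul, inv_mul_cancel₀ a0, one_smul])
    exact exists_pgl_of_three (by omega) (ρ.linHom ρ) B hB hinv S s1 s2 s3 hup s4
  · push Not at hmin
    obtain ⟨φ, k1, k2, k3⟩ := hmin
    have hlt : Module.finrank k (LinearMap.range φ) < n :=
      hn ▸ Submodule.finrank_lt (fun h => k3 (LinearMap.range_eq_top.1 h))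
    have hst : ∀ g, LinearMap.range φ ≤ (LinearMap.range φ).comap (ρ g) := by
      rintro g _ ⟨w, rfl⟩
      exact ⟨ρ g w, (LinearMap.congr_fun (k1 g) w).symm⟩
    refine ih _ hlt (LinearMap.range φ) (ρ.subrepresentation (LinearMap.range φ) hst) rfl
      (by omega) (LinearMap.ext fun w => Subtype.ext ?_) fun h => k2 ?_
    · have h5 : ∀ (j : ℕ) (w : LinearMap.range φ),
          (((ρ.subrepresentation (LinearMap.range φ) hst u - 1) ^ j) w : V) = ((ρ u - 1) ^ j) w := by
        intro j w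
        induction j with
        | zero => rfl
        | succ j ih => rw [pow_succ', pow_succ', Module.End.mul_apply, Module.End.mul_apply, ← ih]; rfl
      rw [h5, hxn]; rfl
    · have h5 : (ρ u - 1) * φ = 0 := LinearMap.ext fun w => by
        have := congrArg Subtype.val (LinearMap.congr_fun h ⟨φ w, w, rfl⟩)
        exact sub_eq_zero.2 this
      obtain ⟨j, rfl⟩ : ∃ j, m = j + 1 := ⟨m - 1, by omega⟩
      rw [pow_succ, mul_assoc, h5, mul_zero]

theorem red_ne_one {O : ValuationSubring ℂ} (φ : O →+* k) (hφ : ∀ x, φ x ≠ 0 → IsUnit x)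
    {n : Type*} [Fintype n] [DecidableEq n] (σ : G →* Matrix n n O)
    (hf : ∀ g, mrep O.subtype σ g = 1 → g = 1) {u : G} (hu : orderOf u = p)
    (hsq : ¬ p ^ 2 ∣ Nat.card G) (hnn : ¬ (Subgroup.zpowers u).Normal) : mrep φ σ u ≠ 1 := by
  intro h
  set K := MonoidHom.ker (mrep φ σ) with hK
  have h1 : ∀ {r : ℕ}, r.Prime → r ∣ Nat.card K → r = p := by
    intro r hr h
    by_contra hrp
    have := Fact.mk hr
    obtain ⟨y, hy⟩ := exists_prime_orderOf_dvd_card' r h
    have h2 : (y : G) ^ r = 1 := by rw [← hy, ← Subgroup.coe_pow, pow_orderOf_eq_one]; rfl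
    have h3 := eq_one_of_redRep_eq_one φ hφ σ
      (fun h => hrp ((Nat.prime_dvd_prime_iff_eq hp.out hr).1 h).symm) h2 y.2
    have h5 : y = 1 := Subtype.ext (hf _ (by
      rw [mrep_eq, h3, Matrix.map_one _ (map_zero _) (map_one _), Matrix.toLin'_one]; rfl))
    rw [h5, orderOf_one] at hy
    exact hr.one_lt.ne hy
  have h2 := Nat.eq_prime_pow_of_unique_prime_dvd Nat.card_pos.ne' h1
  generalize (Nat.card K).primeFactorsList.length = n at h2
  have h3 : n ≤ 1 := by
    by_contra h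
    exact hsq ((pow_dvd_pow p (by omega)).trans (h2 ▸ Subgroup.card_subgroup_dvd_card K))
  have h4 : Subgroup.zpowers u = K := Subgroup.eq_of_le_of_card_ge
    (Subgroup.zpowers_le_of_mem h) (by
      rw [h2, Nat.card_zpowers, hu]
      exact (Nat.pow_le_pow_right hp.out.pos h3).trans (pow_one p).le)
  exact hnn (h4 ▸ inferInstance)

end

theorem commute_of_ito {χ : G → ℂ} (hχ : IsCharacter G χ) (hf : ∀ g, χ g = χ 1 → g = 1) {n : ℕ}
    (hn : χ 1 = n) (hnp : n + 1 < p) {u : G} (hu : orderOf u = p) (hsq : ¬ p ^ 2 ∣ Nat.card G)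
    (K : Subgroup G) [K.Normal] (huK : u ∉ K) : ∀ y ∈ K, Commute y u := by
  have hK : ¬ p ∣ Nat.card K := fun h => by
    have hP : Nat.card (Subgroup.zpowers u) = p := by rw [Nat.card_zpowers, hu]
    refine huK (H84.le_of_dvd_card hP (fun h1 => hsq ?_) h (Subgroup.mem_zpowers u))
    rw [← (Subgroup.zpowers u).card_mul_index, hP, sq]
    exact mul_dvd_mul_left p h1
  let H : Subgroup G := K ⊔ Subgroup.zpowers u
  have h1 : H35L.PCl p H := by
    by_contra h
    refine absurd (H35L.ito hp.out (H6.isCharacter_restrict H hχ) (fun g hg => Subtype.ext (hf g hg))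
      hn ((H3.isPSolvable_iff_isPiSeparable hp.out).2 ?_) (by omega) h).1 hnp.ne
    refine H3.IsPiSeparable.extension (K.subgroupOf H) ?_ (H3.isPiSeparable_of_piNum ?_)
    · have := (H3.isPiSeparable_of_piNum (G := K.subgroupOf H)
        ((H3.piNum_compl_singleton_iff hp.out).2 (hp.out.coprime_iff_not_dvd.2 (by
          rwa [Nat.card_congr (Subgroup.subgroupOfEquivOfLe le_sup_left).toEquiv])).symm)).compl
      rwa [compl_compl] at this
    · have h2 : Nat.card (H ⧸ K.subgroupOf H) ∣ p := by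
        rw [← Subgroup.index_eq_card, ← hu, ← Nat.card_zpowers]
        change K.relIndex (K ⊔ _) ∣ _
        rw [Subgroup.relIndex_sup_left]
        exact Subgroup.relIndex_dvd_card _ _
      rcases (Nat.dvd_prime hp.out).1 h2 with h3 | h3
      · rw [h3, ← pow_zero p]; exact H3.piNum_prime_pow hp.out (Set.mem_singleton p) 0
      · rw [h3, ← pow_one p]; simpa using H3.piNum_prime_pow hp.out (Set.mem_singleton p) 1
  exact fun y hy => h1.comm_of_normalizes (hp.out.coprime_iff_not_dvd.2 hK).symm le_sup_left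
    (Subgroup.mem_sup_right (Subgroup.mem_zpowers u)) ⟨1, by rw [pow_one, ← hu, pow_orderOf_eq_one]⟩
    (by rw [Subgroup.normalizer_eq_top]; trivial) hy

theorem pgl_end {k : Type*} [Field k] [CharP k p] [IsAlgClosed k] (hp3 : 3 < p) {u : G}
    (hu : orderOf u = p) (hsq : ¬ p ^ 2 ∣ Nat.card G) (hnn : ¬ (Subgroup.zpowers u).Normal)
    (σ : G →* PGL(2, k)) (hσ : σ u ≠ 1) (hK : ∀ y ∈ σ.ker, Commute y u) :
    ((∃ φ : G →* PSL(2, ZMod p), Function.Surjective φ ∧ φ u ≠ 1 ∧
        ∀ y ∈ φ.ker, Commute y u) ∧ ∀ a : ℕ, ¬ p ∣ a → IsConj u (u ^ a ^ 2)) ∨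
      ∀ a : ℕ, ¬ p ∣ a → IsConj u (u ^ a) := by
  have hup : u ^ p = 1 := by rw [← hu, pow_orderOf_eq_one]
  have key : ∀ {L : Type} [Group L] (φ : G →* L), Function.Surjective φ → φ.ker = σ.ker →
      ∀ (t : L) (b : ℕ), orderOf t = p → IsConj t (t ^ b) → IsConj u (u ^ b) := by
    intro L _ φ h1 h2 t b ht hb
    haveI : Finite L := Finite.of_surjective φ h1
    have h3 := isConj_pow_transfer (fun h => hsq (h.trans (Subgroup.card_dvd_of_surjective φ h1)))
      ht (s := φ u) (by rw [← map_pow, hup, map_one]) hb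
    obtain ⟨c, hc⟩ := isConj_iff.1 h3
    obtain ⟨g, rfl⟩ := h1 c
    exact isConj_iff.2 ⟨g, isConj_lift hu hsq φ h1 (h2 ▸ hσ) (h2 ▸ hK) (by simpa using hc)⟩
  rcases of_pgl hp3 hu hsq σ hσ with h | ⟨φ, h1, h2⟩ | ⟨φ, h1, h2⟩
  · exfalso
    apply hnn
    rw [← Subgroup.normalizer_eq_top_iff, eq_top_iff]
    intro g _
    apply mem_normalizer_zpowers_of
    obtain ⟨j, hj⟩ := h g
    have h3 : σ (g * u * g⁻¹) = σ (u ^ (j % p).toNat) := by
      have h4 : (0 : ℤ) ≤ j % p := Int.emod_nonneg _ (by exact_mod_cast hp.out.ne_zero)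
      rw [← hj, ← zpow_natCast, Int.toNat_of_nonneg h4, ← zpow_eq_zpow_emod' j hup, map_zpow]
    rw [isConj_lift hu hsq σ.rangeRestrict σ.rangeRestrict_surjective
      (by rwa [MonoidHom.ker_rangeRestrict]) (by rwa [MonoidHom.ker_rangeRestrict])
      (Subtype.ext h3)]
    exact pow_mem (Subgroup.mem_zpowers u) _
  · obtain ⟨t, ht, ht'⟩ := exists_psl_conj (p := p)
    exact Or.inl ⟨⟨φ, h1, fun h => hσ (show u ∈ σ.ker from h2 ▸ h), h2 ▸ hK⟩,
      fun a ha => key φ h1 h2 t _ ht (ht' a ha)⟩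
  · obtain ⟨t, ht, ht'⟩ := exists_pgl_conj (p := p)
    exact Or.inr fun a ha => key φ h1 h2 t _ ht (ht' a ha)

theorem quot_equiv (hp3 : 3 < p) (φ : G →* PSL(2, ZMod p)) (h1 : Function.Surjective φ)
    (h2 : φ.ker ≤ Subgroup.center G) : Nonempty (G ⧸ Subgroup.center G ≃* PSL(2, ZMod p)) := by
  have hs : IsSimpleGroup PSL(2, ZMod p) :=
    Matrix.ProjectiveSpecialLinearGroup.rank_two_simple (by rw [Nat.card_zmod]; omega)
  have h7 : (Subgroup.center G).map φ = ⊥ := by
    refine ((Subgroup.Normal.map inferInstance φ h1).eq_bot_or_eq_top).resolve_right fun h => ?_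
    have h8 : ∀ a b : PSL(2, ZMod p), a * b = b * a := by
      intro a b
      obtain ⟨z, hz, rfl⟩ : a ∈ (Subgroup.center G).map φ := h ▸ trivial
      obtain ⟨g, rfl⟩ := h1 b
      rw [← map_mul, ← map_mul, Subgroup.mem_center_iff.1 hz g]
    obtain ⟨t, ht, ht'⟩ := exists_psl_conj (p := p)
    obtain ⟨c, hc⟩ := isConj_iff.1 (ht' 2 fun h => absurd (Nat.le_of_dvd two_pos h) (by omega))
    rw [h8 c, mul_inv_cancel_right] at hc
    have h9 : t ^ 3 = 1 := by
      have : t * t ^ 3 = t * 1 := by rw [mul_one, ← pow_succ']; exact hc.symm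
      exact mul_left_cancel this
    exact absurd (Nat.le_of_dvd three_pos (ht ▸ orderOf_dvd_of_pow_eq_one h9)) (by omega)
  exact ⟨(QuotientGroup.quotientMulEquivOfEq
    (le_antisymm h2 ((Subgroup.map_eq_bot_iff _).1 h7)).symm).trans
      (QuotientGroup.quotientKerEquivOfSurjective φ h1)⟩

end H33.Bl
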