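import Mathlib
import Cfsg.Agent.Lib.Blau.Lat

/-! The key inequality comparing eigenspaces with multiplicities of an irreducible character. -/

set_option autoImplicit false
set_option linter.unusedSectionVars false
set_option linter.style.haveILetI false

open Polynomial Module H88.Mod

namespace H33.Bl

variable {G : Type*} [Group G] {O : ValuationSubring ℂ} {k : Type*} [Field k] (φ : O →+* k)
  {n : Type*} [Fintype n] [DecidableEq n]

theorem red_aeval (σ : G →* Matrix n n O) (u : G) (g : O[X]) {x : n → O}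
    (h : aeval (mrep O.subtype σ u - 1) (g.map O.subtype) (vm O.subtype n x) = 0) :
    aeval (mrep φ σ u - 1) (g.map φ) (vm φ n x) = 0 := by
  rw [← map_aeval_apply _ (map_sub_one _ (vm_mrep _ σ u))] at h ⊢
  rw [vm_injective O.subtype_injective n (h.trans (map_zero _).symm), map_zero]

theorem red_eig (σ : G →* Matrix n n O) {E : Subgroup G} {γ : E →* Oˣ} {x : n → O}
    (h : vm O.subtype n x ∈ Eig ((mrep O.subtype σ).comp E.subtype) (cm O.subtype γ)) :
    vm φ n x ∈ Eig ((mrep φ σ).comp E.subtype) (cm φ γ) := fun e => by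
  have h1 : mrep O.subtype σ e (vm O.subtype n x) = O.subtype (γ e) • vm O.subtype n x := h e
  rw [← vm_mrep, ← map_smulₛₗ] at h1
  change mrep φ σ e (vm φ n x) = φ (γ e) • vm φ n x
  rw [← vm_mrep, vm_injective O.subtype_injective n h1, map_smulₛₗ]

/-- a generator of the nonprojective block and a dual vector, both integral -/
structure Pair (σ : G →* Matrix n n O) (u : G) (E : Subgroup G) (s : ℕ) (g : O[X])
    (γ : E →* Oˣ) (v l : n → O) : Prop where
  red : g.map φ = X ^ (s + 1)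
  eig : vm O.subtype n v ∈ Eig ((mrep O.subtype σ).comp E.subtype) (cm O.subtype γ)
  ker : aeval (mrep O.subtype σ u - 1) (g.map O.subtype) (vm O.subtype n v) = 0
  ann : ∀ y, dotProductEquiv ℂ n (vm O.subtype n l)
    (aeval (mrep O.subtype σ u - 1) (g.map O.subtype) y) = 0
  ne : dotProductEquiv k n (vm φ n l) (((mrep φ σ u - 1) ^ s) (vm φ n v)) ≠ 0

variable {φ}

theorem red_ann (hφs : Function.Surjective φ) (σ : G →* Matrix n n O) (u : G) (g : O[X])
    {l : n → O} (h : ∀ y, dotProductEquiv ℂ n (vm O.subtype n l)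
      (aeval (mrep O.subtype σ u - 1) (g.map O.subtype) y) = 0) (y : n → k) :
    dotProductEquiv k n (vm φ n l) (aeval (mrep φ σ u - 1) (g.map φ) y) = 0 := by
  obtain ⟨y, rfl⟩ := vm_surjective hφs n y
  have h1 := h (vm O.subtype n y)
  rw [← map_aeval_apply _ (map_sub_one _ (vm_mrep _ σ u)), ← vm_dot] at h1 ⊢
  rw [O.subtype_injective (h1.trans (map_zero _).symm), map_zero]

variable [Finite G] {p : ℕ} [hp : Fact p.Prime] [CharP k p] {u : G} {E : Subgroup G} [Fintype E]

theorem exists_pair (hφs : Function.Surjective φ) (h : Loc p u E) (σ : G →* Matrix n n O)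
    (hloc : ∀ Θ : End k (n → k), (∀ g, mrep φ σ g * Θ = Θ * mrep φ σ g) →
      IsNilpotent Θ ∨ IsUnit Θ) (hd : ¬ p ∣ Fintype.card n) :
    ∃ s m, s + 1 < p ∧ Fintype.card n = p * m + (s + 1) ∧
      ∀ (g : O[X]) (U : Submodule ℂ (n → ℂ)), g.map φ = X ^ (s + 1) →
        (∀ e : E, ∀ x ∈ U, mrep O.subtype σ e x ∈ U) →
        U ≤ LinearMap.ker (aeval (mrep O.subtype σ u - 1) (g.map O.subtype)) →
        (s + 1) * (m + 1) ≤ finrank ℂ U → ∃ γ v l, Pair φ σ u E s g γ v l := by
  obtain ⟨ι, _, β, hβ⟩ := exists_chars O h.comm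
  have hβ' : Full β := hβ
  obtain ⟨s, m, h1, h2, h3, v0, h4, h5⟩ := single_block h (hβ'.map φ) (mrep φ σ) hloc
    (by rwa [finrank_fintype_fun_eq_card])
  rw [finrank_fintype_fun_eq_card] at h2
  refine ⟨s, m, h1, h2, fun g U hg hU1 hU2 hU3 => ?_⟩
  set T := mrep φ σ u - 1 with hT
  obtain ⟨v, hv1, hv2⟩ : ∃ v, vm O.subtype n v ∈ U ∧
      (T ^ s) (vm φ n v) ∉ LinearMap.range (T ^ (s + 1)) := by
    by_contra h6
    push Not at h6
    have h7 := red_le φ (U := U) (W := LinearMap.ker (T ^ (s + 1)) ⊓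
      (LinearMap.range (T ^ (s + 1))).comap (T ^ s)) fun x hx =>
        ⟨by have := red_aeval φ σ u g (hU2 hx); rwa [hg, aeval_X_pow] at this, h6 x hx⟩
    have h8 := Submodule.finrank_lt_finrank_of_lt (lt_of_le_of_ne (inf_le_left
      (a := LinearMap.ker (T ^ (s + 1))) (b := (LinearMap.range (T ^ (s + 1))).comap (T ^ s)))
      fun h8 => h5 (h8.ge h4).2)
    omega
  obtain ⟨i, hi⟩ : ∃ i, (T ^ s) (vm φ n (pj ((mrep (RingHom.id O) σ).comp E.subtype) (β i) v)) ∉
      LinearMap.range (T ^ (s + 1)) := by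
    by_contra h6
    push Not at h6
    refine hv2 ((Submodule.smul_mem_iff _ (h.card_ne (k := k))).1 ?_)
    rw [← map_smul, ← map_natCast φ, ← map_smulₛₗ,
      ← hβ'.sum_pj ((mrep (RingHom.id O) σ).comp E.subtype), map_sum, map_sum]
    exact Submodule.sum_mem _ fun i _ => h6 i
  set w := pj ((mrep (RingHom.id O) σ).comp E.subtype) (β i) v with hw
  have hw1 : vm O.subtype n w = _ := map_pj (vm O.subtype n)
    (τ' := (mrep O.subtype σ).comp E.subtype) (fun e x => vm_mrep _ σ e x) _ v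
  obtain ⟨l, hl1, hl2⟩ : ∃ l, vm O.subtype n l ∈
      ann (LinearMap.range (aeval (mrep O.subtype σ u - 1) (g.map O.subtype))) ∧
      dotProductEquiv k n (vm φ n l) ((T ^ s) (vm φ n w)) ≠ 0 := by
    by_contra h6
    push Not at h6
    have h7 := red_le φ (U := ann (LinearMap.range _))
      (W := ann (LinearMap.range (T ^ (s + 1)) ⊔ k ∙ (T ^ s) (vm φ n w))) fun l hl =>
        mem_ann.2 fun y hy => by
          obtain ⟨_, ⟨a, rfl⟩, b, hb, rfl⟩ := Submodule.mem_sup.1 hy
          obtain ⟨c, rfl⟩ := Submodule.mem_span_singleton.1 hb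
          have := red_ann hφs σ u g (fun y => mem_ann.1 hl _ ⟨y, rfl⟩) a
          rw [hg, aeval_X_pow] at this
          rw [map_add, map_smul, h6 l hl, this, smul_zero, add_zero]
    have k1 := finrank_ann (LinearMap.range (T ^ (s + 1)) ⊔ k ∙ (T ^ s) (vm φ n w))
    have k2 := finrank_ann (LinearMap.range (aeval (mrep O.subtype σ u - 1) (g.map O.subtype)))
    have k3 := (T ^ (s + 1)).finrank_range_add_finrank_ker
    have k4 := (aeval (mrep O.subtype σ u - 1) (g.map O.subtype)).finrank_range_add_finrank_ker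
    have k5 := Submodule.finrank_mono hU2
    rw [Submodule.finrank_sup_span_singleton hi] at k1
    rw [finrank_fintype_fun_eq_card] at k3 k4
    omega
  exact ⟨β i, w, l, hg, fun e => by rw [hw1]; exact pj_eig _ _ _ e,
    hU2 (by rw [hw1]; exact pj_mem _ hU1 hv1), fun y => mem_ann.1 hl1 _ ⟨y, rfl⟩, hl2⟩

theorem key_ineq (hφs : Function.Surjective φ) (h : Loc p u E) {σ : G →* Matrix n n O} {s : ℕ}
    {g : O[X]} {γ : E →* Oˣ} {v l : n → O} (hP : Pair φ σ u E s g γ v l) (hg : g.natDegree ≤ p)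
    (hs : s + 1 ≤ p) {n' : Type*} [Fintype n'] [DecidableEq n'] (σ' : G →* Matrix n' n' O)
    (U : Subrepresentation (mrep O.subtype σ')) {H : Submodule ℂ (n' → ℂ)}
    (hH1 : H ≤ U.toSubmodule)
    (hH2 : H ≤ Eig ((mrep O.subtype σ').comp E.subtype) (cm O.subtype γ))
    (hH3 : H ≤ LinearMap.ker (aeval (mrep O.subtype σ' u - 1) (g.map O.subtype)))
    {W : Submodule k (n' → k)} (hW : ∀ x, vm O.subtype n' x ∈ H →
      vm φ n' x ∈ LinearMap.range ((mrep φ σ' u - 1) ^ (p - (s + 1))) → vm φ n' x ∈ W) :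
    finrank ℂ H ≤ finrank ℂ (Representation.IntertwiningMap (mrep O.subtype σ) U.toRepresentation)
      + finrank k W := by
  set N := Subgroup.normalizer (Subgroup.zpowers u : Set G) with hN
  letI := Fintype.ofFinite (G ⧸ N)
  have hU : ∀ g (x : U.toSubmodule), U.toSubmodule.subtype (U.toRepresentation g x) =
    mrep O.subtype σ' g (U.toSubmodule.subtype x) := fun _ _ => rfl
  have h1 := finrank_le_ker_add (Phi (mrep O.subtype σ) U.toRepresentation N E u p
    (g.map O.subtype) (dotProductEquiv ℂ n (vm O.subtype n l))) (H.comap U.toSubmodule.subtype) _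
    fun x hx => Phi_mem _ _ h.ord hN h.le h.dec (natDegree_map_le.trans hg) hP.ann
      (Subtype.ext ((map_aeval_apply U.toSubmodule.subtype (map_sub_one _ (hU u)) _ x).trans
        (by rw [Polynomial.map_id]; exact hH3 hx)))
  rw [(Submodule.comapSubtypeEquivOfLe hH1).finrank_eq,
    (Representation.invariantsEquivIntertwiningMap _ _).finrank_eq,
    ← Submodule.finrank_map_subtype_eq, add_comm] at h1
  refine h1.trans (Nat.add_le_add_left (red_le φ fun x hx => ?_) _)
  obtain ⟨x', ⟨k1, k2⟩, k3⟩ := hx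
  have k4 : vm O.subtype n' x ∈ H := k3 ▸ k1
  refine hW x k4 ?_
  have k5 := Phi_nat U.toSubmodule.subtype LinearMap.id hU (ρY := mrep O.subtype σ)
    (ρY' := mrep O.subtype σ) (fun _ _ => rfl) N E u p (g.map O.subtype) (l := dotProductEquiv ℂ n (vm O.subtype n l))
    (l' := dotProductEquiv ℂ n (vm O.subtype n l)) (fun _ => rfl) x' (vm O.subtype n v)
  rw [LinearMap.mem_ker.1 k2, Polynomial.map_id, k3, LinearMap.zero_apply, map_zero] at k5
  have k6 := Phi_nat (vm O.subtype n') (vm O.subtype n) (vm_mrep _ σ') (vm_mrep _ σ) N E u p g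
    (vm_dot _ l) x v
  have k7 := Phi_nat (vm φ n') (vm φ n) (vm_mrep _ σ') (vm_mrep _ σ) N E u p g (vm_dot _ l) x v
  rw [vm_injective O.subtype_injective _ (k6.trans (k5.symm.trans (map_zero _).symm)), map_zero,
    hP.red] at k7
  have k8 := red_ann hφs σ u g hP.ann
  have k9 := red_aeval φ σ' u g (hH3 k4)
  have k10 := red_aeval φ σ u g hP.ker
  rw [hP.red, aeval_X_pow] at k8 k9 k10
  obtain ⟨c, z, w, j1, j2, j3⟩ := Phi_spec (mrep φ σ) (mrep φ σ') h.ord h.sq hN h.le h.dec hs k8 k9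
    (red_eig φ σ' (hH2 k4)) k10
  refine j1.mem_range ?_ ⟨-w, ?_⟩
  · rw [j3 (red_eig φ σ hP.eig), ← Nat.card_eq_fintype_card]
    exact mul_ne_zero h.card_ne hP.ne
  · rw [map_neg, neg_eq_iff_add_eq_zero, add_comm, ← j2, k7]

end H33.Bl
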