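import Mathlib
import Cfsg.Agent.Lib.Blau.Key
import Cfsg.Agent.Lib.Blau.Alg
import Cfsg.Agent.Lib.Block.D2pC

/-! Eigenspaces of a Sylow subgroup of prime order. -/

set_option autoImplicit false
set_option linter.unusedSectionVars false
set_option linter.style.haveILetI false

open Polynomial Module Cfsg H84
open H88.Mod
open H86 (Cen Nor)
open scoped ComplexConjugate

namespace H33.Bl

theorem finrank_Eig_eq {H : Type*} [Group H] [Fintype H] {V : Type*} [AddCommGroup V] [Module ℂ V]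
    [FiniteDimensional ℂ V] (τ : Representation ℂ H V) (β : H →* ℂˣ) :
    (finrank ℂ (Eig τ β) : ℂ) = classInner τ.character fun h => β h := by
  refine mul_left_cancel₀ (H6.card_ne_zero (G := H)) ?_
  rw [H6.card_mul_classInner, Nat.card_eq_fintype_card, finrank_Eig_cast (by simp)]
  refine Finset.sum_congr rfl fun h _ => ?_
  rw [H6.conj_hom, mul_comm, map_inv]
  rfl

variable {G : Type*} [Group G] [Fintype G] {p : ℕ} [hp : Fact p.Prime] {P : Subgroup G}
  (L : Log p P)

/-- the linear characters of `P` -/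
noncomputable def bt (j : ZMod p) : P →* ℂˣ := (L.hom j).comp (Subgroup.inclusion L.le_Cen)

theorem bt_apply (j : ZMod p) (x : P) : (bt L j x : ℂ) = eps p (j * L.l x) := rfl

theorem l_eq_zero {x : G} (hx : x ∈ P) : L.l x = 0 ↔ x = 1 :=
  ⟨fun h => congrArg Subtype.val (L.bij.1 (a₁ := ⟨x, hx⟩) (a₂ := 1) (h.trans L.l_one.symm)),
    fun h => h ▸ L.l_one⟩

theorem bt_inj {i j : ZMod p} (h : bt L i = bt L j) : i = j := by
  obtain ⟨x, hx, h1⟩ := L.exists_l 1
  have := congrArg (fun β : P →* ℂˣ => (β ⟨x, hx⟩ : ℂ)) h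
  simp only [bt_apply, h1, mul_one] at this
  exact eps_injective this

/-- an orbit of the automizer -/
noncomputable def orb (i : ZMod p) : Finset (ZMod p) := L.Hs.image fun h : (ZMod p)ˣ => i * h

theorem mem_orb {i j : ZMod p} : j ∈ orb L i ↔ ∃ n, i * L.r n = j := by
  simp [orb, Log.mem_Hs]

theorem card_orb {i : ZMod p} (hi : i ≠ 0) : (orb L i).card = (Cen P).relIndex (Nor P) := by
  rw [orb, Finset.card_image_of_injective _ fun a b h => Units.ext (mul_left_cancel₀ hi h),
    L.card_Hs]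

theorem self_mem_orb (i : ZMod p) : i ∈ orb L i := (mem_orb L).2 ⟨1, by simp⟩

theorem mul_mem_orb {i j : ZMod p} (n : Nor P) : j * L.r n ∈ orb L i ↔ j ∈ orb L i := by
  simp only [mem_orb]
  exact ⟨fun ⟨m, hm⟩ => ⟨m * n⁻¹, by
      rw [map_mul, Units.val_mul, ← mul_assoc, hm, map_inv, Units.mul_inv_cancel_right]⟩,
    fun ⟨m, hm⟩ => ⟨m * n, by rw [map_mul, Units.val_mul, ← mul_assoc, hm]⟩⟩

theorem zero_notMem_orb {i : ZMod p} (hi : i ≠ 0) : 0 ∉ orb L i := fun h => by
  obtain ⟨n, hn⟩ := (mem_orb L).1 h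
  exact mul_ne_zero hi (Units.ne_zero _) hn

variable [Fintype P]

theorem full_bt : Full (bt L) := fun x => by
  simp only [bt_apply, sum_eps, L.card]
  by_cases h : x = 1
  · simp [h, L.l_one]
  · rw [if_neg h, if_neg fun h1 => h (Subtype.ext ((l_eq_zero L x.2).1 h1))]

/-- multiplicity of an eigenvalue -/
noncomputable def mlt (χ : G → ℂ) (j : ZMod p) : ℂ :=
  classInner (fun x : P => χ x) fun x => bt L j x

theorem mul_mlt (χ : G → ℂ) (j : ZMod p) :
    p * mlt L χ j = ∑ x : P, χ x * conj (eps p (j * L.l x)) := by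
  have := H6.card_mul_classInner (fun x : P => χ x) fun x => bt L j x
  rw [L.card] at this
  exact this

theorem sum_mlt (χ : G → ℂ) : ∑ j, mlt L χ j = χ 1 := by
  classical
  refine mul_left_cancel₀ (Nat.cast_ne_zero.2 hp.out.ne_zero : (p : ℂ) ≠ 0) ?_
  simp only [Finset.mul_sum, mul_mlt]
  rw [Finset.sum_comm]
  simp only [← Finset.mul_sum, ← map_sum, sum_eps, l_eq_zero L (Subtype.property _),
    OneMemClass.coe_eq_one]
  rw [Finset.sum_eq_single 1 (fun x _ hx => by rw [if_neg hx, map_zero, mul_zero]) (by simp),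
    if_pos rfl, map_natCast, mul_comm]
  rfl

theorem mlt_nat {χ : G → ℂ} (h : IsCharacter G χ) (j : ZMod p) : ∃ n : ℕ, mlt L χ j = n :=
  H6.char_inner_nat (H6.isCharacter_restrict P h) (H6.isCharacter_hom _)

theorem mlt_eta {χ : G → ℂ} {c : ℂ} {i : ZMod p} (hi : i ≠ 0)
    (h : ∀ x ∈ P, x ≠ 1 → χ x = c * L.eta (i * L.l x)) (j : ZMod p) :
    p * mlt L χ j = χ 1 - c * (Cen P).relIndex (Nor P) + if j ∈ orb L i then c * p else 0 := by
  rw [mul_mlt, sum_P_of_val L (φ := fun x => χ x * conj (eps p (j * L.l x)))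
    (F := fun a => c * L.eta (i * a) * conj (eps p (j * a))) fun x hx h1 => by rw [h x hx h1]]
  simp only [L.l_one, mul_zero, eps_zero, map_one, mul_one, L.eta_zero]
  congr 1
  simp only [Log.eta, Finset.mul_sum, Finset.sum_mul, conj_eps, mul_assoc, ← eps_add]
  rw [Finset.sum_comm, Finset.sum_congr rfl (g := fun h : (ZMod p)ˣ =>
    if i * h = j then c * p else 0) fun h _ => ?_]
  · rw [← Finset.sum_image (g := fun h : (ZMod p)ˣ => i * h) (f := fun a => if a = j then c * p else 0)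
      fun a _ b _ h => Units.ext (mul_left_cancel₀ hi h), Finset.sum_ite_eq']
    rfl
  · rw [← Finset.mul_sum, Finset.sum_congr rfl (g := fun a => eps p (a * (i * h - j)))
      fun a _ => by congr 1; ring, sum_eps]
    simp only [sub_eq_zero, mul_ite, mul_zero]

section rep
variable {V : Type*} [AddCommGroup V] [Module ℂ V] (ρ : Representation ℂ G V)

/-- the projector on an eigenspace of `P` -/
noncomputable def pr (j : ZMod p) : End ℂ V := pj (ρ.comp P.subtype) (bt L j)

/-- an eigenspace of `P` -/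
noncomputable def Ei (j : ZMod p) : Submodule ℂ V := Eig (ρ.comp P.subtype) (bt L j)

theorem pr_mem (j : ZMod p) (v : V) : pr L ρ j v ∈ Ei L ρ j := pj_eig _ _ v

theorem pr_of_mem {i j : ZMod p} {v : V} (hv : v ∈ Ei L ρ i) :
    pr L ρ j v = if i = j then (p : ℂ) • v else 0 := by
  split_ifs with h
  · rw [pr, ← h, pj_of_eig hv, ← Nat.card_eq_fintype_card, L.card]
  · exact (Submodule.mem_bot ℂ).1 (pj_mem_of_eig hv fun h1 => absurd (bt_inj L h1) h)

theorem sum_pr (v : V) : ∑ j, pr L ρ j v = (p : ℂ) • v := by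
  have := (full_bt L).sum_pj (ρ.comp P.subtype) v
  rw [L.card] at this
  exact this

theorem pr_rho (n : Nor P) (j : ZMod p) (v : V) :
    pr L ρ j (ρ n v) = ρ n (pr L ρ (j * L.r n) v) := by
  rw [pr, pr, pj_apply, pj_apply, map_sum]
  refine (Fintype.sum_equiv (P.normalizerMonoidHom n).toEquiv _ _ fun x => ?_).symm
  have h1 : (((P.normalizerMonoidHom n).toEquiv x : P) : G) = n * x * (n : G)⁻¹ := rfl
  have h2 : bt L j ((P.normalizerMonoidHom n).toEquiv x) = bt L (j * L.r n) x := Units.ext (by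
    rw [bt_apply, bt_apply, h1, L.l_conj n _ (L.le_Cen x.2), mul_assoc])
  rw [map_smul, map_inv, map_inv, h2]
  congr 1
  change ρ n (ρ x v) = ρ _ (ρ n v)
  rw [Subgroup.coe_subtype, h1, ← End.mul_apply, ← End.mul_apply, ← map_mul, ← map_mul,
    inv_mul_cancel_right]

theorem finrank_Ei [FiniteDimensional ℂ V] (j : ZMod p) :
    (finrank ℂ (Ei L ρ j) : ℂ) = mlt L ρ.character j := finrank_Eig_eq _ _

/-- a sum of eigenspaces -/
noncomputable def US (S : Finset (ZMod p)) : Submodule ℂ V := ⨅ j ∉ S, LinearMap.ker (pr L ρ j)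

theorem mem_US {S : Finset (ZMod p)} {v : V} : v ∈ US L ρ S ↔ ∀ j ∉ S, pr L ρ j v = 0 := by
  simp [US]

theorem US_stable {S : Finset (ZMod p)} (hS : ∀ (n : Nor P) (j : ZMod p), j * L.r n ∈ S ↔ j ∈ S)
     (n : Nor P)
    {v : V} (hv : v ∈ US L ρ S) : ρ n v ∈ US L ρ S := (mem_US L ρ).2 fun j hj => by
  rw [pr_rho, (mem_US L ρ).1 hv _ (mt (hS n j).1 hj), map_zero]

theorem finrank_US [FiniteDimensional ℂ V] (S : Finset (ZMod p)) :
    finrank ℂ V ≤ finrank ℂ (US L ρ S) + ∑ j ∈ Sᶜ, finrank ℂ (Ei L ρ j) := by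
  let F : V →ₗ[ℂ] (j : (Sᶜ : Finset (ZMod p))) → Ei L ρ j :=
    LinearMap.pi fun j => (pr L ρ j).codRestrict _ (pr_mem L ρ j)
  have h1 := F.finrank_range_add_finrank_ker
  have h2 := (LinearMap.range F).finrank_le
  have h3 : finrank ℂ (LinearMap.ker F) ≤ finrank ℂ (US L ρ S) :=
    Submodule.finrank_mono fun v hv => (mem_US L ρ).2 fun j hj =>
      congrArg Subtype.val (congrFun (LinearMap.mem_ker.1 hv) ⟨j, Finset.mem_compl.2 hj⟩)
  rw [finrank_pi_fintype, Finset.sum_coe_sort Sᶜ fun j => finrank ℂ (Ei L ρ j)] at h2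
  omega

end rep

/-- `p`-th roots of unity in the valuation ring -/
noncomputable def om (O : ValuationSubring ℂ) (j : ZMod p) : O :=
  ⟨eps p j, mem_of_pow_eq_one O hp.out.ne_zero (eps_pow_p j)⟩

/-- the polynomial with roots `ω - 1` -/
noncomputable def gS (O : ValuationSubring ℂ) (S : Finset (ZMod p)) : O[X] :=
  ∏ j ∈ S, (X - C (om O j - 1))

theorem natDegree_gS (O : ValuationSubring ℂ) (S : Finset (ZMod p)) : (gS O S).natDegree ≤ p := by
  rw [gS, natDegree_finsetProd_X_sub_C_eq_card]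
  simpa using S.card_le_univ

theorem map_gS {O : ValuationSubring ℂ} {k : Type*} [Field k] [CharP k p] (φ : O →+* k)
    (S : Finset (ZMod p)) : (gS O S).map φ = X ^ S.card := by
  rw [gS, Polynomial.map_prod, ← Finset.prod_const]
  refine Finset.prod_congr rfl fun j _ => ?_
  have : φ (om O j - 1) ^ p = 0 := by
    rw [map_sub, map_one, sub_pow_char, ← map_pow, show om O j ^ p = 1 from Subtype.ext (eps_pow_p j),
      map_one, one_pow, sub_self]
  rw [Polynomial.map_sub, map_X, map_C, pow_eq_zero_iff hp.out.ne_zero |>.1 this, map_zero, sub_zero]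

theorem US_le_ker (O : ValuationSubring ℂ) {V : Type*} [AddCommGroup V] [Module ℂ V]
    (ρ : Representation ℂ G V) {u : G} (hu : u ∈ P) (hu1 : L.l u = 1) (S : Finset (ZMod p)) :
    US L ρ S ≤ LinearMap.ker (aeval (ρ u - 1) ((gS O S).map O.subtype)) := fun v hv => by
  refine (Submodule.smul_mem_iff _ (Nat.cast_ne_zero.2 hp.out.ne_zero : (p : ℂ) ≠ 0)).1 ?_
  rw [← sum_pr L ρ]
  refine Submodule.sum_mem _ fun j _ => ?_
  by_cases hj : j ∈ S
  · have h1 : ρ u (pr L ρ j v) = eps p (j * L.l u) • pr L ρ j v := pr_mem L ρ j v ⟨u, hu⟩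
    obtain ⟨q, hq⟩ := Finset.dvd_prod_of_mem (fun j => X - C (om O j - 1)) hj
    have h2 : aeval (ρ u - 1) ((X - C (om O j - 1)).map O.subtype) (pr L ρ j v) = 0 := by
      rw [Polynomial.map_sub, map_X, map_C, map_sub, aeval_X, aeval_C, LinearMap.sub_apply,
        LinearMap.sub_apply, h1, hu1, mul_one, Module.algebraMap_end_apply, map_sub, map_one,
        _root_.sub_smul, one_smul, End.one_apply]
      exact sub_self _
    rw [LinearMap.mem_ker, gS, hq, mul_comm, Polynomial.map_mul, map_mul, End.mul_apply, h2,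
      map_zero]
  · rw [(mem_US L ρ).1 hv j hj]; exact zero_mem _

end H33.Bl
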