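import Mathlib
import Cfsg.Agent.Lib.Blau.Eigs

/-! Faithful characters of degree below `p - 1`. -/

set_option autoImplicit false
set_option linter.unusedSectionVars false
set_option linter.style.haveILetI false

open Cfsg H84 H17.Ord
open H86 (Cen Nor)
open scoped ComplexConjugate

namespace H33.Bl

variable {G : Type*} [Group G] [Fintype G] {p : ℕ} [hp : Fact p.Prime] {P : Subgroup G}
  (L : Log p P)

theorem exists_defOne (χ : IrrCharacter G) (h : ¬ p ∣ dg χ) :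
    ∃ B θ, Nonempty (DefOne L B θ) ∧ PKer P θ ∧ χ ∈ B := by
  obtain ⟨M, hM⟩ := H33.exists_isPModular p
  haveI := H33.isMaximal_of hM
  obtain ⟨B, hB, hζB⟩ : ∃ B, IsPBlock M B ∧ χ ∈ B :=
    ⟨_, isPBlock_blockOf (M := M) χ, mem_blockOf_self _⟩
  have hD : IsDefectGroup p M _ P := (H33.sylow_isDefectGroup_iff hM hB
    (L.pgrp.toSylow L.ind)).2 ((H33.blockDefect_eq_card_iff hB).2 ⟨_, hζB, h⟩)
  obtain ⟨b, θ, hb, hθ, hk⟩ := L.exists_root hM hB hD
  exact ⟨B, θ, L.nonempty_defOne hM hD hb hθ hk, hk, hζB⟩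

variable {L} in
theorem psi_val {B : Set (IrrCharacter G)} {θ : IrrCharacter (Cen P)} (D : DefOne L B θ)
    (hk : PKer P θ) (i : (ZMod p)ˣ) : ∀ x ∈ P, x ≠ 1 →
      (D.ψ i : G → ℂ) x = (D.ε * dg θ) * L.eta (i * L.l x) := fun x hx h1 => by
  have hs := L.dvd_orderOf_of_mem hx h1
  rw [D.sing_ψ i x hs, L.indc_of_inv i (c := ⟨x, L.le_Cen hx⟩) (fun n =>
    (hk _ (conj_mem_of_Nor n.2 hx)).trans (hk _ hx).symm) (by rwa [← Subgroup.orderOf_coe]),
    hk _ hx, dg_cast, mul_assoc]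

include L in
theorem e_dvd : (Cen P).relIndex (Nor P) ∣ p - 1 := L.card_H_one ▸ L.card_H_dvd (irrOne _)

include L in
theorem e_pos : 0 < (Cen P).relIndex (Nor P) := L.card_H_one ▸ L.card_H_pos (irrOne _)

theorem exists_gen : ∃ u ∈ P, L.l u = 1 ∧ u ≠ 1 := by
  obtain ⟨x, hx, hx1⟩ := L.exists_l 1
  exact ⟨x, hx, hx1, by rintro rfl; exact zero_ne_one (L.l_one.symm.trans hx1)⟩

variable [Fintype P]

include L in
theorem const_false' {χ : G → ℂ} (hχ : IsCharacter G χ) {d : ℕ} (hd : χ 1 = d) (hdp : d + 1 < p)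
    (hf : ∀ g, χ g = χ 1 → g = 1) {c : ℂ} (h : ∀ x ∈ P, x ≠ 1 → χ x = c) : False := by
  have hp0 : (p : ℂ) ≠ 0 := Nat.cast_ne_zero.2 hp.out.ne_zero
  have h1 : ∀ j ≠ 0, p * mlt L χ j = χ 1 - c := fun j hj => by
    rw [mul_mlt, sum_P_of_val L (φ := fun x => χ x * conj (eps p (j * L.l x)))
      (F := fun a => c * conj (eps p (a * j))) fun x hx h1 => by rw [h x hx h1, mul_comm j]]
    simp only [L.l_one, mul_zero, zero_mul, eps_zero, map_one, mul_one, ← Finset.mul_sum, ← map_sum,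
      sum_eps, if_neg hj, map_zero, add_zero]
  obtain ⟨a, ha⟩ := mlt_nat L hχ 1
  obtain ⟨b, hb⟩ := mlt_nat L hχ 0
  have h2 := sum_mlt L χ
  rw [Log.sum_zmod_eq, Finset.sum_congr rfl (g := fun _ => (a : ℂ)) fun j _ =>
    mul_left_cancel₀ hp0 (by rw [h1 _ j.ne_zero, ← ha, h1 _ one_ne_zero]), hb, hd, Finset.sum_const,
    Finset.card_univ, ZMod.card_units, nsmul_eq_mul] at h2
  have h3 : b + (p - 1) * a = d := by exact_mod_cast h2
  have h4 : a = 0 := by
    by_contra h4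
    have := Nat.mul_le_mul_left (p - 1) (Nat.pos_of_ne_zero h4)
    omega
  obtain ⟨x, hx, -, hx2⟩ := exists_gen L
  have h5 := h1 1 one_ne_zero
  rw [ha, h4, Nat.cast_zero, mul_zero, eq_comm, sub_eq_zero] at h5
  exact hx2 (hf x (by rw [h x hx hx2, h5]))

theorem struct (ζ : IrrCharacter G) {d : ℕ} (hd : (ζ : G → ℂ) 1 = d) (hdp : d + 1 < p)
    (hf : ∀ g, (ζ : G → ℂ) g = (ζ : G → ℂ) 1 → g = 1) :
    2 * (Cen P).relIndex (Nor P) + 1 ≤ p ∧ ∃ B θ, ∃ (D : DefOne L B θ) (i : (ZMod p)ˣ),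
      PKer P θ ∧ D.ψ i = ζ ∧ ((D.ε = 1 ∧ d = (Cen P).relIndex (Nor P) * dg θ) ∨
        (D.ε = -1 ∧ dg θ = 1 ∧ d + (Cen P).relIndex (Nor P) = p ∧
          ∀ y ∈ Cen P, ¬ p ∣ orderOf y → y ∈ Subgroup.center G)) := by
  classical
  have hc := irr_chr ζ
  have hζ := ζ.2
  have hdd : dg ζ = d := H87.deg_of_eq hd
  have hd0 := dg_pos ζ
  obtain ⟨B, θ, ⟨D⟩, hk, hζB⟩ := exists_defOne L ζ fun h => by
    have := Nat.le_of_dvd hd0 h
    omega
  obtain hX | ⟨i, rfl⟩ := (D.mem_iff _).1 hζB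
  · exact (const_false' L hc hd hdp hf fun x hx h1 => D.X_of_mem hk hX hx h1).elim
  have hval := psi_val D hk i
  have hp0 : (p : ℂ) ≠ 0 := Nat.cast_ne_zero.2 hp.out.ne_zero
  have he := e_dvd L
  have he0 := e_pos L
  have h5 : 2 * (Cen P).relIndex (Nor P) + 1 ≤ p := by
    have h4 : (Cen P).relIndex (Nor P) ≠ p - 1 := fun h4 =>
      const_false' L hc hd hdp hf (c := -(D.ε * dg θ)) fun x hx h5 => by
        have h6 := Log.sum_zmod_eq fun k : ZMod p => eps p (k * (i * L.l x))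
        rw [sum_eps, if_neg (mul_ne_zero i.ne_zero (L.l_ne_zero (L.le_Cen hx)
          (L.dvd_orderOf_of_mem hx h5))), zero_mul, eps_zero] at h6
        rw [hval x hx h5, Log.eta,
          Finset.eq_univ_of_card L.Hs (by rw [L.card_Hs, h4, ZMod.card_units])]
        linear_combination -(D.ε * dg θ : ℂ) * h6
    obtain ⟨c, hc⟩ := he
    have : 2 ≤ c := by
      by_contra h5
      obtain rfl | rfl : c = 0 ∨ c = 1 := by omega
      all_goals omega
    have := Nat.mul_le_mul_left ((Cen P).relIndex (Nor P)) this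
    omega
  refine ⟨h5, B, θ, D, i, hk, rfl, ?_⟩
  have h1 := mlt_eta L i.ne_zero hval 0
  have h3 := mlt_eta L i.ne_zero hval i
  obtain ⟨a, ha⟩ := mlt_nat L hc 0
  obtain ⟨a', ha'⟩ := mlt_nat L hc i
  rw [if_neg (zero_notMem_orb L i.ne_zero), ha, hd] at h1
  rw [if_pos (self_mem_orb L _), ha', hd] at h3
  have hN := Log.card_Nor (P := P)
  generalize (Cen P).relIndex (Nor P) = e at *
  have hβ := dg_pos θ
  have heβ : 0 < e * dg θ := Nat.mul_pos he0 hβ
  rcases D.sign with hε | hε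
  · rw [hε] at h1
    have h2 : p * a + e * dg θ = d := by
      have : ((p * a + e * dg θ : ℕ) : ℂ) = d := by push_cast at h1 ⊢; linear_combination h1
      exact_mod_cast this
    have h4 : a = 0 := by
      by_contra h4
      have := Nat.mul_le_mul_left p (Nat.pos_of_ne_zero h4)
      omega
    exact Or.inl ⟨hε, by rw [← h2, h4, mul_zero, zero_add]⟩
  rw [hε] at h1 h3
  have h2 : p * a = d + e * dg θ := by
    have : ((p * a : ℕ) : ℂ) = (d + e * dg θ : ℕ) := by push_cast at h1 ⊢; linear_combination h1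
    exact_mod_cast this
  have h6 : a = a' + dg θ := by
    have : (a : ℂ) = (a' + dg θ : ℕ) :=
      mul_left_cancel₀ hp0 (by push_cast at h1 h3 ⊢; linear_combination h1 - h3)
    exact_mod_cast this
  have h7 : a = 1 := by
    by_contra h7
    have h8 : 2 ≤ a := by omega
    have h9 : e * dg θ ≤ e * a := by gcongr; omega
    nlinarith
  have h8 : dg θ = 1 := by omega
  rw [h7, h8] at h2
  refine Or.inr ⟨hε, h8, by omega, fun y hy h9 => ?_⟩
  have hA := isCharacter_avg hc P (Cen P) le_rfl (lam := fun x => eps p (i * L.l x))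
    (H6.isCharacter_hom (bt L i))
  have h10 := D.fourier hk i i (y := ⟨y, hy⟩) (by rwa [← Subgroup.orderOf_coe])
  rw [Finset.sum_congr (f := fun n => ite _ _ _) rfl (g := fun n =>
    if n ∈ L.r.ker then (θ : Cen P → ℂ) ⟨y, hy⟩ else 0) fun n _ => ?_, sum_ite_mem, L.card_ker_r,
    mul_zero, add_zero] at h10
  swap
  · by_cases h1 : n ∈ L.r.ker
    · rw [if_pos h1, if_pos (by rw [MonoidHom.mem_ker.1 h1]; simp), ← cjc_apply,
        cjc_of_mem ((L.r_eq_one n).1 h1)]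
    · rw [if_neg h1, if_neg fun h3 => h1 (Units.ext (mul_left_cancel₀ i.ne_zero
        (h3.trans (mul_one _).symm)))]
  have h11 := H6.char_norm_le hA ⟨y, hy⟩
  simp only [Subgroup.coe_one, mul_one] at h11
  rw [← mul_mlt, ha', show a' = 0 by omega, Nat.cast_zero, mul_zero, mul_zero, norm_zero,
    norm_le_zero_iff, mul_eq_zero] at h11
  rw [h11.resolve_left (inv_ne_zero (H6.card_ne_zero)), hε] at h10
  have h12 : ∀ c, ‖(θ : Cen P → ℂ) c‖ = 1 :=
    norm_eq_one_of_linear (irr_chr θ) (by rw [dg_cast, h8, Nat.cast_one])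
  refine H87.mem_center_of_norm_eq hζ (eq_bot_iff.2 fun g hg => hf g ((H6.mem_charKer hc).1 hg))
    (le_antisymm (H6.char_norm_le hc y) ?_)
  have h13 := norm_sum_le Finset.univ fun n : Nor P => (θ : Cen P → ℂ) (cE n ⟨y, hy⟩)
  have h14 := norm_add_le ((Nat.card (Cen P) : ℂ) * (D.ψ i : G → ℂ) y)
    (∑ n : Nor P, (θ : Cen P → ℂ) (cE n ⟨y, hy⟩))
  rw [show (Nat.card (Cen P) : ℂ) * (D.ψ i : G → ℂ) y +
    ∑ n : Nor P, (θ : Cen P → ℂ) (cE n ⟨y, hy⟩) = p * (Nat.card (Cen P) *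
      (θ : Cen P → ℂ) ⟨y, hy⟩) by push_cast at h10; linear_combination -h10] at h14
  simp only [h12, Finset.sum_const, Finset.card_univ, ← Nat.card_eq_fintype_card, hN, norm_mul,
    Complex.norm_natCast, nsmul_eq_mul, Nat.cast_mul] at h13 h14
  rw [hd, Complex.norm_natCast]
  refine le_of_mul_le_mul_left ?_ (show (0 : ℝ) < Nat.card (Cen P) from Nat.cast_pos.2 Nat.card_pos)
  have h15 : (p : ℝ) = d + e := by exact_mod_cast (by omega : p = d + e)
  rw [h15] at h14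
  linarith

end H33.Bl
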