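import Mathlib
import Cfsg.Agent.Lib.Blau.Struct
import Cfsg.Agent.Lib.Blau.Pgl
import Cfsg.Agent.Lib.Blau.Lat

/-! Characters whose eigenvalues on the Sylow subgroup form one orbit. -/

set_option autoImplicit false
set_option linter.unusedSectionVars false
set_option linter.style.haveILetI false

open Polynomial Module Cfsg H84 H17.Ord
open H86 (Cen Nor)
open scoped ComplexConjugate MatrixGroups

namespace H33.Bl

variable {G : Type*} [Group G] [Fintype G] {p : ℕ} [hp : Fact p.Prime] {P : Subgroup G}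
  (L : Log p P) {u : G}

theorem ne_one_of (hu : L.l u = 1) : u ≠ 1 := by
  rintro rfl; exact zero_ne_one (L.l_one.symm.trans hu)

theorem eq_zp (h : u ∈ P) (hu : L.l u = 1) : P = Subgroup.zpowers u :=
  eq_zpowers_of_card L.card h (ne_one_of L hu)

theorem ord_of (h : u ∈ P) (hu : L.l u = 1) : orderOf u = p := by
  rw [← Nat.card_zpowers, ← eq_zp L h hu, L.card]

include L in
theorem not_sq : ¬ p ^ 2 ∣ Nat.card G := fun h => by
  rw [← P.card_mul_index, L.card, sq] at h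
  exact L.ind (Nat.dvd_of_mul_dvd_mul_left hp.out.pos h)

theorem mem_range_of_conj (h : u ∈ P) (hu : L.l u = 1) (a : (ZMod p)ˣ) {b : ℕ}
    (hb : (b : ZMod p) = a) (hc : IsConj u (u ^ b)) : a ∈ L.r.range := by
  obtain ⟨g, hg⟩ := isConj_iff.1 hc
  have h1 := mem_Nor_of_conj L.card h (ne_one_of L hu) (hg ▸ pow_mem h b)
  have h2 := L.l_conj ⟨g, h1⟩ u (L.le_Cen h)
  rw [hg, L.l_pow (L.le_Cen h), hu, mul_one, mul_one, hb] at h2
  exact ⟨_, Units.ext h2.symm⟩

theorem pgl_case {k : Type*} [Field k] [CharP k p] [IsAlgClosed k] (hp3 : 3 < p) (h : u ∈ P)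
    (hu : L.l u = 1) (hn : ¬ P.Normal) (he : 2 * (Cen P).relIndex (Nor P) + 1 ≤ p) {χ : G → ℂ}
    (hχ : IsCharacter G χ) (hf : ∀ g, χ g = χ 1 → g = 1) {n : ℕ} (hd : χ 1 = n) (hnp : n + 1 < p)
    (σ : G →* PGL(2, k)) (hσ : σ u ≠ 1) : 2 * (Cen P).relIndex (Nor P) + 1 = p ∧
      ∃ φ : G →* PSL(2, ZMod p), Function.Surjective φ ∧ φ u ≠ 1 ∧ ∀ y ∈ φ.ker, Commute y u := by
  have hv : ∀ a : (ZMod p)ˣ, ¬ p ∣ (a : ZMod p).val := fun a h1 =>
    a.ne_zero (by rw [← ZMod.natCast_zmod_val (a : ZMod p), (ZMod.natCast_eq_zero_iff _ _).2 h1])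
  rw [← L.card_range] at he ⊢
  rcases pgl_end hp3 (ord_of L h hu) (not_sq L) (eq_zp L h hu ▸ hn) σ hσ
    (commute_of_ito hχ hf hd hnp (ord_of L h hu) (not_sq L) _ hσ) with ⟨h1, h2⟩ | h2
  · refine ⟨?_, h1⟩
    have h3 : (powMonoidHom 2 : (ZMod p)ˣ →* _).range ≤ L.r.range := by
      rintro _ ⟨a, rfl⟩
      exact mem_range_of_conj L h hu _ (by simp) (h2 _ (hv a))
    have h4 := Subgroup.card_le_of_le h3
    obtain ⟨m, hm⟩ := hp.out.odd_of_ne_two (by omega)
    rw [IsCyclic.card_powMonoidHom_range, Nat.card_eq_fintype_card, ZMod.card_units,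
      show p - 1 = 2 * m by omega, Nat.gcd_eq_right (dvd_mul_right 2 m)] at h4
    omega
  · have h3 : L.r.range = ⊤ := eq_top_iff.2 fun a _ =>
      mem_range_of_conj L h hu _ (by simp) (h2 _ (hv a))
    rw [h3, Subgroup.card_top, Nat.card_eq_fintype_card, ZMod.card_units] at he
    omega

variable [Fintype P]

theorem red_pow_eq_zero {O : ValuationSubring ℂ} {k : Type*} [Field k] [CharP k p] {φ : O →+* k}
    (hφs : Function.Surjective φ) {n : Type*} [Fintype n] [DecidableEq n] (σ : G →* Matrix n n O)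
    (h : u ∈ P) (hu : L.l u = 1) (S : Finset (ZMod p))
    (hS : ∀ j ∉ S, mlt L (mrep O.subtype σ).character j = 0) :
    (mrep φ σ u - 1) ^ S.card = 0 := LinearMap.ext fun y => by
  obtain ⟨x, rfl⟩ := vm_surjective hφs n y
  have h1 := red_aeval φ σ u (gS O S) (x := x) (US_le_ker L O _ h hu S ((mem_US L _).2 fun j hj => by
    have h2 := finrank_Ei L (mrep O.subtype σ) j
    rw [hS j hj, Nat.cast_eq_zero, Submodule.finrank_eq_zero] at h2
    exact (Submodule.mem_bot ℂ).1 (h2 ▸ pr_mem L _ j _)))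
  rwa [map_gS, map_pow, aeval_X] at h1

theorem caseA (hp3 : 3 < p) (hn : ¬ P.Normal) (he : 2 * (Cen P).relIndex (Nor P) + 1 ≤ p)
    {ζ : G → ℂ} (hζ : IsIrrCharacter G ζ) (hf : ∀ g, ζ g = ζ 1 → g = 1) {d : ℕ} (hd : ζ 1 = d)
    (hdp : d + 1 < p) {i : ZMod p} (hi : i ≠ 0) {c : ℂ}
    (hv : ∀ x ∈ P, x ≠ 1 → ζ x = c * L.eta (i * L.l x))
    (hc : ζ 1 = c * (Cen P).relIndex (Nor P)) : 2 * (Cen P).relIndex (Nor P) + 1 = p := by
  obtain ⟨u, h, hu, -⟩ := exists_gen L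
  obtain ⟨O, k, _, _, _, φ, hφs, hφ⟩ := exists_residue hp.out
  obtain ⟨n, σ, rfl, -⟩ := exists_local φ hφs hφ hζ
  have h1 := red_pow_eq_zero L hφs σ h hu (orb L i) fun j hj => by
    have := mlt_eta L hi hv j
    rw [if_neg hj, hc, sub_self, add_zero] at this
    exact (mul_eq_zero.1 this).resolve_left (Nat.cast_ne_zero.2 hp.out.ne_zero)
  rw [card_orb L hi] at h1
  have h2 : finrank ℂ (Fin n → ℂ) = d := by
    rw [Representation.char_one] at hd; exact_mod_cast hd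
  obtain ⟨τ, hτ⟩ := exists_pgl' (ord_of L h hu) (not_sq L) he d _ (mrep φ σ) (by simpa using h2)
    (by omega) h1 (red_ne_one φ hφ σ (fun g hg => hf g (by
      simp only [Representation.character, hg, map_one])) (ord_of L h hu) (not_sq L)
      (eq_zp L h hu ▸ hn))
  exact (pgl_case L hp3 h hu hn he (H6.irr_isCharacter hζ) hf hd hdp τ hτ).1

end H33.Bl
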