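import Mathlib
import Cfsg.Agent.Lib.Blau.Alg
import Cfsg.Agent.Lib.Mod88.Heart

/-! The tensor square of a lattice and of its reduction. -/

set_option autoImplicit false
set_option linter.unusedSectionVars false
set_option linter.style.haveILetI false

open Module H88.Mod Polynomial
open scoped Kronecker

namespace H33.Bl

section ring
variable {O R : Type*} [CommRing O] [CommRing R] {G : Type*} [Group G] {n : Type*} [Fintype n]
  [DecidableEq n]

/-- Kronecker square -/
def sqm (σ : G →* Matrix n n O) : G →* Matrix (n × n) (n × n) O where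
  toFun g := σ g ⊗ₖ σ g
  map_one' := by rw [map_one, Matrix.one_kronecker_one]
  map_mul' g h := by rw [map_mul, Matrix.mul_kronecker_mul]

/-- pure tensors -/
def tens : (n → R) →ₗ[R] (n → R) →ₗ[R] (n × n → R) :=
  LinearMap.mk₂ R (fun v w ij => v ij.1 * w ij.2) (fun _ _ _ => funext fun _ => add_mul _ _ _)
    (fun _ _ _ => funext fun _ => mul_assoc _ _ _) (fun _ _ _ => funext fun _ => mul_add _ _ _)
    fun _ _ _ => funext fun _ => mul_left_comm _ _ _

theorem tens_apply (v w : n → R) (ij : n × n) : tens (R := R) v w ij = v ij.1 * w ij.2 := rfl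

theorem mrep_tens (f : O →+* R) (σ : G →* Matrix n n O) (g : G) (v w : n → R) :
    mrep f (sqm σ) g (tens (R := R) v w) = tens (R := R) (mrep f σ g v) (mrep f σ g w) := by
  funext ij
  simp only [mrep_apply, tens_apply, Matrix.mulVec, dotProduct, Finset.sum_mul_sum,
    Fintype.sum_prod_type, Matrix.map_apply]
  refine Finset.sum_congr rfl fun i _ => Finset.sum_congr rfl fun j _ => ?_
  change f (σ g ij.1 i * σ g ij.2 j) * _ = _
  rw [map_mul]; ring

theorem eq_sum_tens (z : n × n → R) :
    z = ∑ ij : n × n, z ij • tens (R := R) (Pi.single ij.1 1) (Pi.single ij.2 1) := by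
  funext ab
  rw [Finset.sum_apply, Finset.sum_eq_single ab (fun ij _ hij => ?_) (by simp)]
  · simp [tens_apply]
  · rw [Pi.smul_apply, tens_apply]
    by_cases h : ab.1 = ij.1
    · rw [Pi.single_eq_of_ne fun h1 : ab.2 = ij.2 => hij (Prod.ext h h1).symm]; simp
    · rw [Pi.single_eq_of_ne h]; simp

theorem ext_tens {W : Type*} [AddCommGroup W] [Module R W] {f g : (n × n → R) →ₗ[R] W}
    (h : ∀ v w, f (tens (R := R) v w) = g (tens (R := R) v w)) : f = g := LinearMap.ext fun z => by
  rw [eq_sum_tens z]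
  simp only [map_sum, map_smul, h]

/-- interchange of the factors -/
def swp (R n : Type*) [CommRing R] : End R (n × n → R) := LinearMap.funLeft R R Prod.swap

theorem swp_tens (v w : n → R) : swp R n (tens (R := R) v w) = tens (R := R) w v :=
  funext fun _ => mul_comm _ _

theorem vm_swp (f : O →+* R) (x : n × n → O) : vm f _ (swp O n x) = swp R n (vm f _ x) := rfl

theorem swp_mul_swp : swp R n * swp R n = 1 := rfl

theorem swp_comm (f : O →+* R) (σ : G →* Matrix n n O) (g : G) :
    mrep f (sqm σ) g * swp R n = swp R n * mrep f (sqm σ) g := ext_tens fun v w => by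
  simp only [End.mul_apply, swp_tens, mrep_tens]

theorem trace_sqm (f : O →+* R) (σ : G →* Matrix n n O) (g : G) :
    LinearMap.trace R _ (mrep f (sqm σ) g) = LinearMap.trace R _ (mrep f σ g) ^ 2 := by
  rw [mrep_eq, mrep_eq, Matrix.trace_toLin'_eq, Matrix.trace_toLin'_eq, sq,
    ← Matrix.trace_kronecker]
  congr 1
  ext ij ab
  exact map_mul f _ _

theorem trace_swp (f : O →+* R) (σ : G →* Matrix n n O) (g : G) :
    LinearMap.trace R _ (mrep f (sqm σ) g * swp R n) = LinearMap.trace R _ (mrep f σ (g ^ 2)) := by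
  rw [mrep_eq f σ, Matrix.trace_toLin'_eq, LinearMap.trace_eq_matrix_trace R (Pi.basisFun R _),
    sq, map_mul σ, Matrix.map_mul]
  simp only [Matrix.trace, Matrix.diag, Matrix.mul_apply, Fintype.sum_prod_type]
  refine Finset.sum_congr rfl fun i _ => Finset.sum_congr rfl fun j _ => ?_
  have : swp R n (Pi.single (i, j) 1) = Pi.single (j, i) 1 := by
    funext ab
    simp [swp, LinearMap.funLeft_apply, Pi.single_apply, Prod.ext_iff, and_comm]
  rw [LinearMap.toMatrix_apply, Pi.basisFun_apply, Pi.basisFun_repr, End.mul_apply, this,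
    mrep_apply, Matrix.mulVec_single_one]
  exact map_mul f _ _

theorem exists_left (B : End R (n → R)) : ∃ L : End R (n × n → R),
    ∀ v w, L (tens (R := R) v w) = tens (R := R) (B v) w :=
  ⟨LinearMap.pi fun ij => LinearMap.proj ij.1 ∘ₗ B ∘ₗ LinearMap.funLeft R R fun i => (i, ij.2),
    fun v w => funext fun ij => by
      have : LinearMap.funLeft R R (fun i => (i, ij.2)) (tens (R := R) v w) = w ij.2 • v :=
        funext fun i => mul_comm _ _
      simp only [LinearMap.pi_apply, LinearMap.comp_apply, this, map_smul, tens_apply]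
      exact mul_comm _ _⟩

theorem exists_fun (a b : (n → R) →ₗ[R] R) : ∃ l : (n × n → R) →ₗ[R] R,
    ∀ v w, l (tens (R := R) v w) = a v * b w := by
  obtain ⟨L, hL⟩ := exists_left (a.smulRight fun _ => 1)
  by_cases h : Nonempty n
  · obtain ⟨i⟩ := h
    refine ⟨b ∘ₗ LinearMap.funLeft R R (fun j => (i, j)) ∘ₗ L, fun v w => ?_⟩
    have : LinearMap.funLeft R R (fun j => (i, j)) (tens (R := R) (a.smulRight (fun _ => 1) v) w) =
      a v • w := funext fun j => by simp [LinearMap.funLeft_apply, tens_apply]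
    rw [LinearMap.comp_apply, LinearMap.comp_apply, hL, this, map_smul, smul_eq_mul]
  · haveI := not_nonempty_iff.1 h
    exact ⟨0, fun v w => by rw [Subsingleton.elim v 0]; simp⟩

end ring

variable {k : Type*} [Field k]

theorem li_pow {V : Type*} [AddCommGroup V] [Module k V] {B : End k V} {s : ℕ}
    (h0 : B ^ (s + 1) = 0) {v : V} (hv : (B ^ s) v ≠ 0) :
    LinearIndependent k fun i : Fin (s + 1) => (B ^ (i : ℕ)) v := by
  refine Fintype.linearIndependent_iff.2 fun c hc i => ?_
  induction i using WellFoundedLT.induction with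
  | _ i ih =>
  have h1 := congrArg (B ^ (s - i)) hc
  rw [map_sum, map_zero, Finset.sum_eq_single i (fun j _ hj => ?_) (by simp), map_smul,
    ← End.mul_apply, ← pow_add, Nat.sub_add_cancel (Nat.lt_succ_iff.1 i.2)] at h1
  · exact (smul_eq_zero.1 h1).resolve_right hv
  · rcases lt_or_gt_of_ne hj with h | h
    · rw [ih j h, zero_smul, map_zero]
    · rw [map_smul, ← End.mul_apply, ← pow_add, pow_eq_zero_of_le (by
        have := Fin.lt_def.1 h; have := i.2; omega) h0, LinearMap.zero_apply, smul_zero]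

variable {G : Type*} [Group G] {p : ℕ} [hp : Fact p.Prime] [CharP k p] {n : Type*} [Fintype n]
  [DecidableEq n]

theorem exists_sq (hp2 : 2 < p) {O : Type*} [CommRing O] (φ : O →+* k) (σ : G →* Matrix n n O)
    {u : G} (hu : u ^ p = 1) {E : Subgroup G} (a : E →* (ZMod p)ˣ)
    (hconj : ∀ g : E, g * u * (g : G)⁻¹ = u ^ (a g : ZMod p).val) {s : ℕ}
    (hs : Fintype.card n = s + 1) {γ : E →* kˣ} {v : n → k}
    (hv : v ∈ Eig ((mrep φ σ).comp E.subtype) γ) (hv1 : ((mrep φ σ u - 1) ^ s) v ≠ 0) :
    ∃ (ev : k[X][X] →ₐ[k] End k (n × n → k)) (x y : k[X][X]), Sq ev x y (s + 1) (tens (R := k) v v)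
      ((mrep φ (sqm σ)).comp E.subtype) (slope k a) (γ * γ) (mrep φ (sqm σ) u - 1) (swp k n) := by
  set ρ := mrep φ σ with hρ
  set ε := eps p ρ u with hε
  have hT : (ρ u - 1) ^ (s + 1) = 0 := by
    have := sub_one_pow_finrank (p := p) ρ hu
    rwa [finrank_fintype_fun_eq_card, hs] at this
  obtain ⟨w, hw, hw1, hw2⟩ := exists_eps_eq hp2 ρ hu
  have hw3 : Commute w (ρ u - 1) := hw2.symm.trans hw1
  have hε0 : ε ^ (s + 1) = 0 := by rw [hε, hw2, hw3.mul_pow, hT, mul_zero]
  have hε1 : (ε ^ s) v ≠ 0 := fun h => hv1 (((End.isUnit_iff _).1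
    (((End.isUnit_iff _).2 hw).pow s)).1 (by
      rw [map_zero, ← h, hε, hw2, hw3.mul_pow, End.mul_apply]))
  let b := basisOfLinearIndependentOfCardEqFinrank (li_pow hε0 hε1) (by
    rw [finrank_fintype_fun_eq_card, hs, Fintype.card_fin])
  have hb : ∀ i, b i = (ε ^ (i : ℕ)) v := fun i => by simp [b]
  obtain ⟨L, hL⟩ := exists_left (ρ u - 1)
  let R := swp k n * L * swp k n
  have hR : ∀ v w, R (tens (R := k) v w) = tens (R := k) v ((ρ u - 1) w) := fun v w => by
    simp only [R, End.mul_apply, swp_tens, hL]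
  have hLq : ∀ q v w, aeval L q (tens (R := k) v w) = tens (R := k) (aeval (ρ u - 1) q v) w :=
    fun q v w => by
      have := map_aeval_apply ((tens (R := k)).flip w) (A' := L) (fun x => (hL x w).symm) q v
      rw [Polynomial.map_id] at this
      exact this.symm
  have hRq : ∀ q v w, aeval R q (tens (R := k) v w) = tens (R := k) v (aeval (ρ u - 1) q w) :=
    fun q v w => by
      have := map_aeval_apply (tens (R := k) v) (A' := R) (fun x => (hR v x).symm) q w
      rw [Polynomial.map_id] at this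
      exact this.symm
  let ev : k[X][X] →ₐ[k] End k (n × n → k) := eval₂AlgHom (aeval L) R fun q =>
    ext_tens fun v w => by simp only [End.mul_apply, hLq, hR]
  have e1 : ev (C X) = L := (eval₂_C _ _).trans (aeval_X L)
  have e2 : ev X = R := eval₂_X _ _
  set x : k[X][X] := aeval (C X : k[X][X]) (EE k p) with hx
  set y : k[X][X] := aeval (X : k[X][X]) (EE k p) with hy
  have ex : ∀ v w, ev x (tens (R := k) v w) = tens (R := k) (ε v) w := fun v w => by
    rw [hx, ← aeval_algHom_apply, e1, hLq]; rfl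
  have ey : ∀ v w, ev y (tens (R := k) v w) = tens (R := k) v (ε w) := fun v w => by
    rw [hy, ← aeval_algHom_apply, e2, hRq]; rfl
  have exy : ∀ (i j : ℕ) v w, ev (x ^ i * y ^ j) (tens (R := k) v w) =
      tens (R := k) ((ε ^ i) v) ((ε ^ j) w) := fun i j v w => by
    rw [ev_mul, map_pow, map_pow,
      ← map_pow_apply (tens (R := k) v) (A' := ev y) (fun z => (ey v z).symm)]
    exact (map_pow_apply ((tens (R := k)).flip _) (A' := ev x) (fun z => (ex z _).symm) i v).symm
  have hε2 : ∀ (g : E) z, ρ g (ε z) = (slope k a g : k) • ε (ρ g z) := fun g z => by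
    rw [slope_val]
    exact LinearMap.congr_fun (rho_mul_eps ρ hu (not_dvd_val (a g)) (hconj g)) z
  refine ⟨ev, x, y, ext_tens fun v w => ?_, ext_tens fun v w => ?_, ?_, fun i hi j hj => ?_, ?_,
    fun z => LinearMap.congr_fun (ext_tens (f := swp k n * ev x) (g := ev y * swp k n)
      fun v w => ?_) z,
    fun z => LinearMap.congr_fun (ext_tens (f := swp k n * ev y) (g := ev x * swp k n)
      fun v w => ?_) z, swp_tens v v,
    fun g z => LinearMap.congr_fun (ext_tens (f := mrep φ (sqm σ) g * ev x)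
      (g := (slope k a g : k) • (ev x * mrep φ (sqm σ) g)) fun v w => ?_) z,
    fun g z => LinearMap.congr_fun (ext_tens (f := mrep φ (sqm σ) g * ev y)
      (g := (slope k a g : k) • (ev y * mrep φ (sqm σ) g)) fun v w => ?_) z, fun g => ?_⟩
  · simpa [hε0] using exy (s + 1) 0 v w
  · simpa [hε0] using exy 0 (s + 1) v w
  · rw [eq_top_iff]
    intro z _
    rw [eq_sum_tens z]
    refine Submodule.sum_mem _ fun ij _ => Submodule.smul_mem _ _ ?_
    rw [← b.sum_repr (Pi.single ij.1 1), ← b.sum_repr (Pi.single ij.2 1)]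
    simp only [map_sum, map_smul, LinearMap.sum_apply, LinearMap.smul_apply, hb]
    exact Submodule.sum_mem _ fun i _ => Submodule.smul_mem _ _ (Submodule.sum_mem _ fun j _ =>
      Submodule.smul_mem _ _ (Submodule.subset_span ⟨(j, i), exy _ _ _ _⟩))
  · have key : ∀ (i : ℕ) (hi : i < s + 1) (m : ℕ),
        b.coord ⟨i, hi⟩ ((ε ^ m) v) = if m = i then 1 else 0 := fun i hi m => by
      by_cases hm : m < s + 1
      · rw [← hb ⟨m, hm⟩, Basis.coord_apply, b.repr_self, Finsupp.single_apply]
        simp only [Fin.ext_iff]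
      · rw [pow_eq_zero_of_le (not_lt.1 hm) hε0, if_neg (by omega)]; simp
    obtain ⟨l, hl⟩ := exists_fun (b.coord ⟨i, hi⟩) (b.coord ⟨j, hj⟩)
    exact ⟨l, fun i' j' => by rw [exy, hl, key, key, ite_zero_mul_ite_zero, mul_one]⟩
  · obtain ⟨r, hr⟩ := exists_EE k p hp2
    obtain ⟨t, ht⟩ : ∃ t : k[X][X], t = (1 + X) ^ (p - 1) - 1 := ⟨_, rfl⟩
    obtain ⟨q, hq⟩ : C X - t ∣ aeval (C X : k[X][X]) r - aeval t r := by
      simpa only [eval_map_algebraMap] using sub_dvd_eval_sub (C X) t (r.map (algebraMap k _))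
    have hU : ev (1 + X) ^ p = 1 := ext_tens fun v w => by
      rw [← map_pow_apply (tens (R := k) v) (A := ρ u) (fun z => by
        rw [map_add, map_one, e2, LinearMap.add_apply, hR, End.one_apply, ← map_add]
        congr 1; simp), ← map_pow, hu, map_one]
      rfl
    have k1 : ev (aeval t (EE k p)) = -ev y := by
      have := aeval_EE_pow (k := k) hU (a := p - 1) fun h =>
        absurd (Nat.le_of_dvd (by omega) h) (by omega)
      rw [Nat.cast_sub hp.out.one_le, CharP.cast_eq_zero, zero_sub, Nat.cast_one, neg_one_smul,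
        map_add, map_one, add_sub_cancel_left] at this
      rw [hy, ← aeval_algHom_apply, ← aeval_algHom_apply, ← this, ht, map_sub, map_pow, map_add,
        map_one]
    obtain ⟨ν, hν⟩ : ∃ ν, ν = -((C X + t) * aeval (C X : k[X][X]) r + t ^ 2 * q) := ⟨_, rfl⟩
    have k2 : x - aeval t (EE k p) = (C X - t) * (1 - ν) := by
      rw [hx, hr, hν]
      simp only [map_mul, map_add, aeval_X, map_one]
      linear_combination t ^ 2 * hq
    obtain ⟨N, hN⟩ : ν ∈ (RingHom.ker ev).radical := by
      have k3 : (C X : k[X][X]) ∈ (RingHom.ker ev).radical := ⟨s + 1, ext_tens fun v w => by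
        rw [map_pow, e1, ← aeval_X_pow (R := k), hLq, aeval_X_pow, hT]; simp⟩
      have k4 : (X : k[X][X]) ∈ (RingHom.ker ev).radical := ⟨s + 1, ext_tens fun v w => by
        rw [map_pow, e2, ← aeval_X_pow (R := k), hRq, aeval_X_pow, hT]; simp⟩
      have k5 : t ∈ (RingHom.ker ev).radical := by
        obtain ⟨c, hc⟩ := sub_dvd_pow_sub_pow (1 + X : k[X][X]) 1 (p - 1)
        rw [one_pow] at hc
        rw [ht, hc, add_sub_cancel_left]
        exact Ideal.mul_mem_right _ _ k4
      rw [hν]
      exact neg_mem (add_mem (Ideal.mul_mem_right _ _ (add_mem k3 k5))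
        (Ideal.mul_mem_right _ _ (Ideal.pow_mem_of_mem _ k5 2 two_pos)))
    have k3 : ev ((1 - ν) * ∑ i ∈ Finset.range N, ν ^ i) = 1 := by
      rw [mul_neg_geom_sum, map_sub, map_one, (RingHom.mem_ker).1 hN, sub_zero]
    refine ⟨(1 + X) * ∑ i ∈ Finset.range N, ν ^ i, ?_, ?_⟩
    · rw [map_mul]
      refine (IsUnit.of_pow_eq_one hU hp.out.ne_zero).mul ?_
      rw [map_mul] at k3
      exact IsUnit.of_mul_eq_one_right _ k3
    · rw [map_mul, map_add ev x, ← sub_neg_eq_add (ev x), ← k1, ← map_sub, k2, ← map_mul,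
        show (1 + X) * (∑ i ∈ Finset.range N, ν ^ i) * ((C X - t) * (1 - ν)) =
          ((1 + C X) * (1 + X) - (1 + X) ^ p) * ((1 - ν) * ∑ i ∈ Finset.range N, ν ^ i) by
            rw [ht, show (1 + X : k[X][X]) ^ p = (1 + X) ^ (p - 1) * (1 + X) by
              rw [← pow_succ, Nat.sub_add_cancel hp.out.one_le]]; ring,
        map_mul, k3, mul_one, map_sub, map_pow, hU, map_mul, map_add, map_add, map_one, e1, e2]
      congr 1
      refine ext_tens fun v w => ?_
      rw [mrep_tens, End.mul_apply, LinearMap.add_apply 1 R, hR, End.one_apply, ← map_add,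
        LinearMap.add_apply, hL, End.one_apply, ← LinearMap.add_apply, ← map_add]
      congr 2 <;> simp [hρ]
  · simp only [End.mul_apply, swp_tens, ex, ey]
  · simp only [End.mul_apply, swp_tens, ex, ey]
  · simp only [End.mul_apply, LinearMap.smul_apply, mrep_tens, ex, ← hρ, hε2, map_smul]
  · simp only [End.mul_apply, LinearMap.smul_apply, mrep_tens, ey, ← hρ, hε2, map_smul]
  · have h1 : ρ g v = (γ g : k) • v := hv g
    change mrep φ (sqm σ) g _ = _
    rw [mrep_tens, ← hρ, h1, map_smul, map_smul, LinearMap.smul_apply, smul_smul]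
    rfl

end H33.Bl
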