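import Mathlib
import Cfsg.Agent.Lib.Blau.CaseA
import Cfsg.Agent.Lib.Blau.Tens

/-! The normaliser of a Sylow subgroup `P` of prime order with `C(P) = P Z(G)`. -/

set_option autoImplicit false
set_option linter.unusedSectionVars false
set_option linter.style.haveILetI false

open Module Cfsg H84 H17.Ord
open H86 (Cen Nor)
open scoped ComplexConjugate

namespace H33.Bl

variable {G : Type*} [Group G] [Fintype G] {p : ℕ} [hp : Fact p.Prime] {P : Subgroup G}

/-- local data -/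
structure Ctx (L : Log p P) (u : G) (E : Subgroup G) (π : Nor P →* E) : Prop where
  mem : u ∈ P
  lu : L.l u = 1
  reg : ∀ y ∈ Cen P, ¬ p ∣ orderOf y → y ∈ Subgroup.center G
  le : E ≤ Nor P
  nd : ¬ p ∣ Nat.card E
  dec : ∀ n : Nor P, (n : G) * (π n : G)⁻¹ ∈ P

theorem exists_ctx (L : Log p P)
    (reg : ∀ y ∈ Cen P, ¬ p ∣ orderOf y → y ∈ Subgroup.center G) : ∃ u E π, Ctx L u E π := by
  obtain ⟨u, h, hu, -⟩ := exists_gen L
  have hle : P ≤ Nor P := Subgroup.le_normalizer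
  have h1 : Nat.card (P.subgroupOf (Nor P)) = p :=
    (Nat.card_congr (Subgroup.subgroupOfEquivOfLe hle).toEquiv).trans L.card
  have h2 : ¬ p ∣ (P.subgroupOf (Nor P)).index := fun h =>
    L.ind (h.trans (Subgroup.relIndex_dvd_index_of_le hle))
  obtain ⟨K, hK⟩ := Subgroup.exists_right_complement'_of_coprime (N := P.subgroupOf (Nor P))
    (h1 ▸ (hp.out.coprime_iff_not_dvd).2 h2)
  let e := K.equivMapOfInjective (Nor P).subtype (Nor P).subtype_injective
  refine ⟨u, K.map (Nor P).subtype, e.toMonoidHom.comp (hK.symm.QuotientMulEquiv.toMonoidHom.comp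
    (QuotientGroup.mk' _)), h, hu, reg, Subgroup.map_subtype_le K, ?_, fun n => ?_⟩
  · rwa [← Nat.card_congr e.toEquiv, ← hK.symm.index_eq_card]
  · have h3 := hK.symm.QuotientMulEquiv.symm_apply_apply (n : Nor P ⧸ P.subgroupOf (Nor P))
    have h4 : n * ((hK.symm.QuotientMulEquiv n : K) : Nor P)⁻¹ ∈ P.subgroupOf (Nor P) := by
      rw [← div_eq_mul_inv, ← QuotientGroup.eq_iff_div_mem]
      exact h3.symm
    exact h4

namespace Ctx

variable {L : Log p P} {u : G} {E : Subgroup G} {π : Nor P →* E} (h : Ctx L u E π)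

/-- the action of `E` on `P` -/
def a : E →* (ZMod p)ˣ := L.r.comp (Subgroup.inclusion h.le)

/-- inclusion -/
def ι (y : E) : Nor P := ⟨y, h.le y.2⟩

theorem r_ι (y : E) : L.r (h.ι y) = h.a y := rfl

include h

theorem reg_E (y : E) : ¬ p ∣ orderOf (y : G) := fun h1 =>
  h.nd (h1.trans (by rw [Subgroup.orderOf_coe]; exact orderOf_dvd_natCard y))

theorem eq_one {y : E} (hy : (y : G) ∈ P) : y = 1 := by
  by_contra h1
  exact h.reg_E y (L.dvd_orderOf_of_mem hy fun h2 => h1 (Subtype.ext h2))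

theorem pi_ι (y : E) : π (h.ι y) = y :=
  (mul_inv_eq_one.1 (h.eq_one (y := y * (π (h.ι y))⁻¹) (h.dec (h.ι y)))).symm

theorem pi_P {n : Nor P} (hn : (n : G) ∈ P) : π n = 1 :=
  h.eq_one (by simpa using mul_mem (inv_mem (h.dec n)) hn)

theorem a_pi (n : Nor P) : h.a (π n) = L.r n := by
  have := (L.r_eq_one (n * (h.ι (π n))⁻¹)).2 (L.le_Cen (h.dec n))
  rw [map_mul, map_inv, mul_inv_eq_one] at this
  exact this.symm

theorem cen {y : E} (hy : h.a y = 1) : (y : G) ∈ Subgroup.center G :=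
  h.reg _ ((L.r_eq_one (h.ι y)).1 hy) (h.reg_E y)

theorem range_a : h.a.range = L.r.range :=
  le_antisymm (by rintro _ ⟨y, rfl⟩; exact ⟨h.ι y, rfl⟩)
    (by rintro _ ⟨n, rfl⟩; exact ⟨π n, h.a_pi n⟩)

theorem exists_y0 : ∃ y0 : E, orderOf (h.a y0) = (Cen P).relIndex (Nor P) ∧
    ∀ y : E, ∃ j : ℕ, h.a (y * (y0 ^ j)⁻¹) = 1 := by
  obtain ⟨⟨_, y0, rfl⟩, h1⟩ := IsCyclic.exists_monoid_generator (α := h.a.range)
  refine ⟨y0, ?_, fun y => ?_⟩
  · rw [← L.card_range, ← h.range_a, ← orderOf_eq_card_of_forall_mem_powers h1]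
    exact (Subgroup.orderOf_coe (H := h.a.range) ⟨_, y0, rfl⟩)
  · obtain ⟨j, hj⟩ := h1 ⟨_, y, rfl⟩
    exact ⟨j, by rw [map_mul, map_inv, map_pow, mul_inv_eq_one]; exact (congrArg Subtype.val hj).symm⟩

theorem comm (x y : E) : x * y = y * x := by
  obtain ⟨y0, -, h1⟩ := h.exists_y0
  have h2 : ∀ x y : E, Commute y0 y → Commute x y := fun x y hy => by
    obtain ⟨j, hj⟩ := h1 x
    rw [← inv_mul_cancel_right x (y0 ^ j)]
    exact Commute.mul_left (Subtype.ext (Subgroup.mem_center_iff.1 (h.cen hj) y).symm)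
      (hy.pow_left j)
  exact h2 x y (h2 y y0 (Commute.refl _)).symm

theorem loc : Loc p u E where
  ord := ord_of L h.mem h.lu
  sq := not_sq L
  le := eq_zp L h.mem h.lu ▸ h.le
  nd := h.nd
  dec n hn := by
    rw [← eq_zp L h.mem h.lu] at hn
    obtain ⟨i, hi⟩ := mem_powers_iff_mem_zpowers.2 ((eq_zp L h.mem h.lu).le (h.dec ⟨n, hn⟩))
    exact ⟨i, _, (π ⟨n, hn⟩).2, by rw [show u ^ i = _ from hi, inv_mul_cancel_right]⟩
  comm := h.comm

theorem conj_u (g : E) : g * u * (g : G)⁻¹ = u ^ (h.a g : ZMod p).val :=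
  congrArg Subtype.val (L.bij.1 (a₁ := ⟨_, conj_mem_of_Nor (h.le g.2) h.mem⟩)
    (a₂ := ⟨_, pow_mem h.mem _⟩) ((L.l_conj (h.ι g) u (L.le_Cen h.mem)).trans (by
      change _ = L.l _
      rw [L.l_pow (L.le_Cen h.mem), ZMod.natCast_zmod_val, r_ι])))

section slope
variable (k : Type*) [Field k] [CharP k p]

theorem orderOf_slope (y : E) : orderOf (H88.Mod.slope k h.a y) = orderOf (h.a y) :=
  orderOf_injective (Units.map (ZMod.castHom (dvd_refl p) k : ZMod p →* k))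
    (Units.map_injective (ZMod.castHom (dvd_refl p) k).injective) _

theorem slope_pow : H88.Mod.slope k h.a ^ (Cen P).relIndex (Nor P) = 1 := MonoidHom.ext fun y => by
  rw [MonoidHom.pow_apply, MonoidHom.one_apply, ← orderOf_dvd_iff_pow_eq_one, h.orderOf_slope,
    ← L.card_range]
  exact (Subgroup.orderOf_mk (H := L.r.range) _ ⟨h.ι y, rfl⟩).symm ▸ orderOf_dvd_natCard _

theorem slope_inj : ∀ i < (Cen P).relIndex (Nor P), ∀ j < (Cen P).relIndex (Nor P),
    H88.Mod.slope k h.a ^ i = H88.Mod.slope k h.a ^ j → i = j := fun i hi j hj h1 => by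
  obtain ⟨y0, h2, -⟩ := h.exists_y0
  rw [← h2, ← h.orderOf_slope k] at hi hj
  exact (IsPrimitiveRoot.orderOf _).pow_inj hi hj (DFunLike.congr_fun h1 y0)

variable {k} in
theorem exists_D {γ δ : E →* kˣ} (hγ : ∀ y, h.a y = 1 → γ y = δ y) :
    ∃ D < (Cen P).relIndex (Nor P), γ = δ * H88.Mod.slope k h.a ^ D := by
  obtain ⟨y0, h2, h3⟩ := h.exists_y0
  haveI : NeZero ((Cen P).relIndex (Nor P)) := ⟨(e_pos L).ne'⟩
  have h4 : IsPrimitiveRoot (H88.Mod.slope k h.a y0 : k) ((Cen P).relIndex (Nor P)) := by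
    rw [IsPrimitiveRoot.coe_units_iff, ← h2, ← h.orderOf_slope k]
    exact IsPrimitiveRoot.orderOf _
  obtain ⟨D, hD, h5⟩ := h4.eq_pow_of_pow_eq_one (ξ := ((γ y0 / δ y0 : kˣ) : k)) (by
    rw [← Units.val_pow_eq_pow_val, div_pow, ← map_pow, ← map_pow,
      hγ _ (by rw [map_pow, ← h2, pow_orderOf_eq_one]), div_self', Units.val_one])
  refine ⟨D, hD, MonoidHom.ext fun y => ?_⟩
  obtain ⟨j, hj⟩ := h3 y
  have h6 : H88.Mod.slope k h.a y0 ^ D = γ y0 / δ y0 := Units.ext h5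
  have h7 : H88.Mod.slope k h.a (y * (y0 ^ j)⁻¹) = 1 := by
    rw [H88.Mod.slope, MonoidHom.comp_apply, hj, map_one]
  rw [← inv_mul_cancel_right y (y0 ^ j)]
  generalize y * (y0 ^ j)⁻¹ = z at hj h7
  rw [map_mul, map_mul, hγ _ hj, MonoidHom.mul_apply,
    MonoidHom.pow_apply, h7, one_pow, mul_one, map_pow, map_pow, MonoidHom.mul_apply,
    MonoidHom.pow_apply, h6, mul_div_cancel]

end slope

theorem cf_mul {f : G → ℂ} (hf : IsClassFunction G f) {n : Nor P} (hn : L.r n ≠ 1) {x : G}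
    (hx : x ∈ P) : f (x * n) = f n := by
  have h0 : (1 - L.r n : ZMod p) ≠ 0 := fun h0 => hn (Units.ext (sub_eq_zero.1 h0).symm)
  obtain ⟨w, hw, h1⟩ := L.exists_l (L.l x / (1 - L.r n))
  have h2 := conj_mem_of_Nor n.2 (inv_mem hw)
  have h3 : x = w * (n * w⁻¹ * (n : G)⁻¹) :=
    congrArg Subtype.val (L.bij.1 (a₁ := ⟨x, hx⟩) (a₂ := ⟨_, mul_mem hw h2⟩) (by
      change L.l x = L.l _
      rw [L.l_mul _ (L.le_Cen hw) _ (L.le_Cen h2), L.l_conj n _ (L.le_Cen (inv_mem hw)),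
        L.l_inv (L.le_Cen hw), h1]
      field_simp
      ring))
  rw [h3, ← hf n w]
  congr 1
  group

theorem cf_pi {f : G → ℂ} (hf : IsClassFunction G f) {n : Nor P} (hn : L.r n ≠ 1) :
    f n = f (π n) := by
  rw [← inv_mul_cancel_right (n : G) (π n)]
  exact h.cf_mul hf (n := h.ι (π n)) (by rwa [r_ι, h.a_pi]) (h.dec n)

end Ctx

end H33.Bl
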