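import Mathlib
import Cfsg.Agent.Lib.Blau.Ctx

/-! Central characters and blocks when `C(P) = P Z(G)`. -/

set_option autoImplicit false
set_option linter.unusedSectionVars false
set_option linter.style.haveILetI false

open Module Cfsg H84 H17.Ord
open H86 (Cen Nor)
open scoped ComplexConjugate

namespace H33.Bl

theorem hom_mul_conj {H : Type*} [Group H] [Finite H] (γ : H →* ℂˣ) (x : H) :
    (γ x : ℂ) * conj (γ x : ℂ) = 1 := by
  rw [H6.conj_hom, MonoidHom.inv_apply, Units.mul_inv]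

theorem scalar_of {G V : Type*} [Group G] [Finite G] [AddCommGroup V] [Module ℂ V]
    [FiniteDimensional ℂ V] (ρ : Representation ℂ G V) {z : G} {c : ℂ} (hc : c * conj c = 1)
    (h : ρ.character z = c * ρ.character 1) (v : V) : ρ z v = c • v := by
  have h1 : ‖c‖ = 1 := by
    have := congrArg norm hc
    rw [norm_mul, Complex.norm_conj, norm_one] at this
    nlinarith [norm_nonneg c]
  obtain ⟨ω, hω⟩ := (H6.norm_character_eq_iff ρ z).1 (by
    rw [h, norm_mul, h1, one_mul, Representation.char_one, Complex.norm_natCast])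
  by_cases h0 : finrank ℂ V = 0
  · haveI := finrank_zero_iff.1 h0
    exact Subsingleton.elim _ _
  rw [Representation.char_one, Representation.character, hω, map_smul, LinearMap.trace_id,
    smul_eq_mul] at h
  rw [hω, mul_right_cancel₀ (Nat.cast_ne_zero.2 h0) h]
  rfl

variable {G : Type*} [Group G] [Fintype G] {p : ℕ} [hp : Fact p.Prime] {P : Subgroup G}

/-- multiplicity of a linear character of the normaliser -/
noncomputable def Fn [Fintype (Nor P)] {E : Subgroup G} (π : Nor P →* E) (χ : G → ℂ)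
    (γ : E →* ℂˣ) : ℂ := classInner (fun n : Nor P => χ n) fun n => γ.comp π n

theorem Fn_nat [Fintype (Nor P)] {E : Subgroup G} (π : Nor P →* E) {χ : G → ℂ}
    (hχ : IsCharacter G χ) (γ : E →* ℂˣ) : ∃ n : ℕ, Fn π χ γ = n :=
  H6.char_inner_nat (H6.isCharacter_restrict _ hχ) (H6.isCharacter_hom _)

namespace Ctx

variable {L : Log p P} {u : G} {E : Subgroup G} {π : Nor P →* E} (h : Ctx L u E π)

/-- the central character of `χ` is given by `γ` -/
def Cc (χ : G → ℂ) (γ : E →* ℂˣ) : Prop := ∀ z : E, h.a z = 1 → ∀ g, χ (z * g) = γ z * χ g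

/-- the `p`-regular part -/
def pc (_ : Ctx L u E π) (c : Cen P) : E := π (Subgroup.inclusion (H86.Cen_le_Nor P) c)

theorem a_pc (c : Cen P) : h.a (h.pc c) = 1 := (h.a_pi _).trans ((L.r_eq_one _).2 c.2)

theorem mem_Cen {z : E} (hz : h.a z = 1) : (z : G) ∈ Cen P := (L.r_eq_one (h.ι z)).1 hz

theorem pc_spec (c : Cen P) : ∃ x ∈ P, L.l x = L.l c ∧ (c : G) = h.pc c * x := by
  have h1 : (c : G) * (h.pc c : G)⁻¹ ∈ P := h.dec (Subgroup.inclusion (H86.Cen_le_Nor P) c)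
  have h2 : (c : G) = h.pc c * (c * (h.pc c : G)⁻¹) := by
    rw [← Subgroup.mem_center_iff.1 (h.cen (h.a_pc c)), inv_mul_cancel_right]
  refine ⟨_, h1, ?_, h2⟩
  conv_rhs => rw [h2]
  rw [L.l_mul _ (h.mem_Cen (h.a_pc c)) _ (L.le_Cen h1),
    (L.l_eq_zero _ (h.mem_Cen (h.a_pc c))).2 (h.reg_E _), zero_add]

theorem pc_mul (z : E) {x : G} (hx : x ∈ P) (hc : z * x ∈ Cen P) :
    h.pc ⟨z * x, hc⟩ = z := by
  have : π (h.ι z * ⟨x, Subgroup.le_normalizer hx⟩) = z := by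
    rw [map_mul, h.pi_ι, h.pi_P hx, mul_one]
  exact this

variable {h} in
theorem Cc.congr {χ : G → ℂ} {γ δ : E →* ℂˣ} (hχ : h.Cc χ γ) (hγ : ∀ z, h.a z = 1 → γ z = δ z) :
    h.Cc χ δ := fun z hz g => hγ z hz ▸ hχ z hz g

variable {h} in
theorem Cc.scalar {V : Type*} [AddCommGroup V] [Module ℂ V] [FiniteDimensional ℂ V]
    {ρ : Representation ℂ G V} {γ : E →* ℂˣ} (hχ : h.Cc ρ.character γ) {z : E} (hz : h.a z = 1)
    (v : V) : ρ z v = (γ z : ℂ) • v :=
  scalar_of ρ (hom_mul_conj γ z) (by rw [← hχ z hz, mul_one]) v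

variable {h} in
theorem Cc.eq_of_eig {V : Type*} [AddCommGroup V] [Module ℂ V] [FiniteDimensional ℂ V]
    {ρ : Representation ℂ G V} {γ δ : E →* ℂˣ} (hχ : h.Cc ρ.character γ) {v : V} (h0 : v ≠ 0)
    (hv : v ∈ H88.Mod.Eig (ρ.comp E.subtype) δ) (z : E) (hz : h.a z = 1) : γ z = δ z :=
  Units.ext (smul_left_injective ℂ h0 ((hχ.scalar hz v).symm.trans (hv z)))

variable [Fintype P]

theorem sum_Cen_eq [Fintype (Cen P)] {χ : G → ℂ} {γ : E →* ℂˣ} (hχ : h.Cc χ γ) (i : ZMod p) :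
    ∑ c : Cen P, χ c * conj (γ (h.pc c) * eps p (i * L.l c)) = Nat.card (Cen P) * mlt L χ i := by
  obtain ⟨f, hf⟩ : ∃ f : ZMod p → P, ∀ x : P, f (L.l x) = x :=
    ⟨_, Function.leftInverse_surjInv L.bij⟩
  refine mul_left_cancel₀ (Nat.cast_ne_zero.2 hp.out.ne_zero : (p : ℂ) ≠ 0) ?_
  rw [mul_left_comm, mul_mlt, Finset.sum_congr rfl (g := fun c : Cen P =>
    (fun a => χ (f a) * conj (eps p (i * a))) (L.l c)) fun c _ => ?_,
    L.sum_Cen fun a => χ (f a) * conj (eps p (i * a)), ← L.sum_P]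
  · simp only [hf]
  · obtain ⟨x, hx, h1, h2⟩ := h.pc_spec c
    simp only [← h1, hf ⟨x, hx⟩]
    conv_lhs => rw [h2, hχ _ (h.a_pc c), map_mul]
    linear_combination χ x * conj (eps p (i * L.l x)) * hom_mul_conj γ (h.pc c)

theorem Fn_eq [Fintype (Nor P)] {χ : G → ℂ} {γ : E →* ℂˣ} (hχ : h.Cc χ γ) :
    Nat.card (Nor P) * Fn π χ γ = Nat.card (Cen P) * mlt L χ 0 +
      ∑ n : Nor P, if L.r n = 1 then 0 else χ n * conj (γ (π n) : ℂ) := by
  haveI := Fintype.ofFinite (Cen P)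
  rw [Fn, H6.card_mul_classInner, ← h.sum_Cen_eq hχ,
    Fintype.sum_of_injective (Subgroup.inclusion (H86.Cen_le_Nor P))
      (Subgroup.inclusion_injective _) _ (fun n => if L.r n = 1 then χ n * conj (γ (π n) : ℂ) else 0)
      (fun n hn => if_neg fun h1 => hn ⟨⟨n, (L.r_eq_one n).1 h1⟩, rfl⟩) fun c => by
        rw [if_pos ((L.r_eq_one _).2 c.2), zero_mul, eps_zero, mul_one]; rfl,
    ← Finset.sum_add_distrib]
  refine Finset.sum_congr rfl fun n _ => ?_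
  split_ifs <;> simp

theorem inner_phi {χ : G → ℂ} (hc : IsClassFunction G χ) {γ : E →* ℂˣ} (hχ : h.Cc χ γ)
    {θ : IrrCharacter (Cen P)} (hθ : ∀ c, (θ : Cen P → ℂ) c = γ (h.pc c)) (i : ZMod p) :
    classInner χ (L.phi θ i) = mlt L χ i - mlt L χ 0 := by
  haveI := Fintype.ofFinite (Cen P)
  have h1 : ∀ j, classInner (fun c : Cen P => χ c) (L.th θ j) = mlt L χ j := fun j =>
    mul_left_cancel₀ (H6.card_ne_zero (G := Cen P)) (by
      rw [H6.card_mul_classInner, ← h.sum_Cen_eq hχ]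
      simp only [L.th_apply, hθ])
  rw [L.phi_eq, H7.classInner_indFun_right _ _ hc, H6.classInner_sub_right, h1, h1]

section block
variable {B : Set (IrrCharacter G)} {θ : IrrCharacter (Cen P)} (hk : PKer P θ)
include h hk

omit hk in
theorem theta_one : (θ : Cen P → ℂ) 1 = 1 := H6.irr_one_eq_one_of_comm (fun c d => Subtype.ext (by
  obtain ⟨x, hx, -, h1⟩ := h.pc_spec c
  rw [Subgroup.coe_mul, Subgroup.coe_mul, h1, mul_assoc, commute_of_mem_Cen hx d.2, ← mul_assoc,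
    ← mul_assoc, Subgroup.mem_center_iff.1 (h.cen (h.a_pc c))])) θ.2

theorem theta_pc (c : Cen P) :
    (θ : Cen P → ℂ) c = (θ : Cen P → ℂ) ⟨h.pc c, h.mem_Cen (h.a_pc c)⟩ := by
  obtain ⟨x, hx, -, h1⟩ := h.pc_spec c
  refine Eq.trans (congrArg _ ?_) (H6.char_mul_of_eq_one (irr_chr θ) (hk ⟨x, L.le_Cen hx⟩ hx) _)
  exact Subtype.ext (h1.trans (Subgroup.mem_center_iff.1 (h.cen (h.a_pc c)) x).symm)

theorem theta_inv (n : Nor P) (c : Cen P) : (θ : Cen P → ℂ) (cE n c) = (θ : Cen P → ℂ) c := by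
  have : h.pc (cE n c) = h.pc c := by
    have : π (n * Subgroup.inclusion (H86.Cen_le_Nor P) c * n⁻¹) = h.pc c := by
      rw [map_mul, map_mul, h.comm (π n), map_inv, mul_inv_cancel_right]; rfl
    exact this
  rw [h.theta_pc hk, h.theta_pc hk c]
  simp only [this]

theorem H_eq : L.H θ = L.r.range := by
  rw [Log.H, (eq_top_iff (a := inert θ)).2 fun n _ => mem_inert.2 (Subtype.ext (funext fun c =>
    h.theta_inv hk n c)), ← MonoidHom.range_eq_map]

variable (D : DefOne L B θ)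

theorem psi_val' (i : (ZMod p)ˣ) : ∀ x ∈ P, x ≠ 1 →
    (D.ψ i : G → ℂ) x = D.ε * L.eta (i * L.l x) := fun x hx h1 => by
  rw [psi_val D hk i x hx h1, ← dg_cast, h.theta_one, mul_one]

include D in
theorem central {χ : IrrCharacter G} (hχ : χ ∈ B) {z : E} (hz : h.a z = 1) (g : G) :
    (χ : G → ℂ) (z * g) = (θ : Cen P → ℂ) ⟨z, h.mem_Cen hz⟩ * (χ : G → ℂ) g := by
  obtain ⟨ω, hω⟩ := H87.exists_mul_of_mem_center χ.2 (h.cen hz)
  have h1 : ∀ i : ZMod p, ∀ x ∈ P, x ≠ 1 → p ∣ orderOf (z * x) ∧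
      L.indc θ i (z * x) = (θ : Cen P → ℂ) ⟨z, h.mem_Cen hz⟩ * L.eta (i * L.l x) ∧
      L.indc θ i x = L.eta (i * L.l x) := fun i x hx hx1 => by
    have hs := L.dvd_orderOf_of_mem hx hx1
    have hc := mul_mem (h.mem_Cen hz) (L.le_Cen hx)
    have h2 : L.l (z * x) = L.l x := by
      rw [L.l_mul _ (h.mem_Cen hz) _ (L.le_Cen hx), (L.l_eq_zero _ (h.mem_Cen hz)).2 (h.reg_E _),
        zero_add]
    have h3 : p ∣ orderOf (z * x) := by
      by_contra h3
      exact L.l_ne_zero (L.le_Cen hx) hs (h2.symm.trans ((L.l_eq_zero _ hc).2 h3))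
    refine ⟨h3, ?_, ?_⟩
    · rw [L.indc_of_inv i (c := ⟨_, hc⟩) (h.theta_inv hk · _) (by rwa [← Subgroup.orderOf_coe]),
        h.theta_pc hk, h2]
      simp only [h.pc_mul z hx]
    · rw [L.indc_of_inv i (c := ⟨_, L.le_Cen hx⟩) (h.theta_inv hk · _)
        (by rwa [← Subgroup.orderOf_coe]), hk _ hx, h.theta_one, one_mul]
  have he : ((Cen P).relIndex (Nor P) : ℂ) ≠ 0 := Nat.cast_ne_zero.2 (e_pos L).ne'
  rw [hω]
  congr 1
  obtain hX | ⟨i, rfl⟩ := (D.mem_iff _).1 hχ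
  · obtain ⟨h2, h3, h4⟩ := h1 0 u h.mem (ne_one_of L h.lu)
    have h5 := D.sing_X χ hX _ h2
    rw [hω, mul_left_comm, D.sing_X χ hX u (L.dvd_orderOf_of_mem h.mem (ne_one_of L h.lu)), h3, h4,
      zero_mul, L.eta_zero] at h5
    refine mul_right_cancel₀ he ?_
    linear_combination D.εX χ * h5 - (ω - (θ : Cen P → ℂ) ⟨z, h.mem_Cen hz⟩) *
      (Cen P).relIndex (Nor P) * D.signX_sq hX
  · obtain ⟨a, ha, h2⟩ : ∃ a ≠ 0, L.eta (i * a) ≠ 0 := by
      by_contra! h2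
      have := L.sum_eta i.ne_zero
      rw [Finset.sum_eq_single 0 (fun a _ => h2 a) (by simp), mul_zero, L.eta_zero] at this
      exact he this
    obtain ⟨x, hx, rfl⟩ := L.exists_l a
    have hx1 : x ≠ 1 := by rintro rfl; exact ha L.l_one
    obtain ⟨h3, h4, h5⟩ := h1 i x hx hx1
    have h6 := D.sing_ψ i _ h3
    rw [hω, D.sing_ψ i x (L.dvd_orderOf_of_mem hx hx1), h4, h5] at h6
    refine mul_right_cancel₀ h2 ?_
    linear_combination D.ε * h6 - (ω - (θ : Cen P → ℂ) ⟨z, h.mem_Cen hz⟩) *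
      L.eta (i * L.l x) * D.sign_sq

include D in
theorem theta_eq {χ : IrrCharacter G} (hχ : χ ∈ B) {γ : E →* ℂˣ} (hγ : h.Cc χ γ) (c : Cen P) :
    (θ : Cen P → ℂ) c = γ (h.pc c) := by
  rw [h.theta_pc hk]
  exact mul_right_cancel₀ (H6.irr_one_ne_zero χ.2)
    ((h.central hk D hχ (h.a_pc c) 1).symm.trans (hγ _ (h.a_pc c) 1))

include D in
theorem Cc_of_mem {χ χ' : IrrCharacter G} (hχ : χ ∈ B) (hχ' : χ' ∈ B) {γ : E →* ℂˣ}
    (hγ : h.Cc χ γ) : h.Cc χ' γ := fun z hz g => by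
  rw [h.central hk D hχ' hz, h.theta_eq hk D hχ hγ]
  congr 3
  exact h.pi_ι z

end block

end Ctx

end H33.Bl
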