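import Mathlib
import Cfsg.Agent.Lib.Blau.Cc

/-! Multiplicities of exceptional characters; lattices for them. -/

set_option autoImplicit false
set_option linter.unusedSectionVars false
set_option linter.style.haveILetI false

open Polynomial Module Cfsg H84 H17.Ord
open H88.Mod (Eig)
open H86 (Cen Nor)
open scoped ComplexConjugate

namespace H33.Bl

variable {G : Type*} [Group G] [Fintype G] {p : ℕ} [hp : Fact p.Prime] {P : Subgroup G}
  [Fintype P]

namespace Ctx

variable {L : Log p P} {u : G} {E : Subgroup G} {π : Nor P →* E} (h : Ctx L u E π)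

section block
variable {B : Set (IrrCharacter G)} {θ : IrrCharacter (Cen P)} (hk : PKer P θ) (D : DefOne L B θ)

theorem eps_b {χ : G → ℂ} (hc : IsClassFunction G χ) {γ : E →* ℂˣ} (hχ : h.Cc χ γ)
    (hθ : ∀ c, (θ : Cen P → ℂ) c = γ (h.pc c)) (i j : (ZMod p)ˣ) :
    D.ε * (classInner χ (D.ψ i) - classInner χ (D.ψ j)) = mlt L χ i - mlt L χ j := by
  have h1 : L.phi θ i - L.phi θ j = (D.ε : ℂ) • ((D.ψ i : G → ℂ) - D.ψ j) := funext fun g => by
    simp only [Pi.sub_apply, D.phi_eq, Pi.smul_apply, smul_eq_mul]; ring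
  have h2 := congrArg (classInner χ) h1
  rw [H6.classInner_sub_right, H6.classInner_smul_right, H6.classInner_sub_right,
    h.inner_phi hc hχ hθ, h.inner_phi hc hχ hθ, map_intCast] at h2
  linear_combination -h2

variable [Fintype (Nor P)]
include h hk

theorem sum_b_le {χ : G → ℂ} (hc : IsCharacter G χ) {γ : E →* ℂˣ}
    (hγ : ∀ i, Fn π (D.ψ i) γ ≠ 0) {b : (ZMod p)ˣ → ℕ} (hb : ∀ i, classInner χ (D.ψ i) = b i)
    {F : ℕ} (hF : Fn π χ γ = F) : ∑ i, b i ≤ (Cen P).relIndex (Nor P) * F := by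
  classical
  obtain ⟨m, rfl⟩ := H6.char_eq_sum_irr hc
  choose f hf using fun ψ : IrrCharacter G => Fn_nat π (irr_chr ψ) γ
  have h1 : ∀ i, b i = m (D.ψ i) := fun i => by
    have := hb i
    rw [H6.inner_sum_irr] at this
    exact_mod_cast this.symm
  have h2 : F = ∑ ψ, m ψ * f ψ := by
    have : (fun n : Nor P => (∑ ψ : IrrCharacter G, (m ψ : ℂ) • (ψ : G → ℂ)) n) =
        ∑ ψ : IrrCharacter G, (m ψ : ℂ) • fun n : Nor P => (ψ : G → ℂ) n := by
      ext n; simp
    rw [Fn, this, H6.classInner_sum_left] at hF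
    simp only [H6.classInner_smul_left] at hF
    have h3 := (Finset.sum_congr rfl fun ψ _ => congrArg ((m ψ : ℂ) * ·) (hf ψ)).symm.trans hF
    exact_mod_cast h3.symm
  rw [h2, Finset.mul_sum, ← Finset.sum_fiberwise Finset.univ D.ψ]
  refine Finset.sum_le_sum fun ψ _ => ?_
  rw [Finset.sum_congr rfl (g := fun _ => m ψ) fun i hi => by rw [h1, (Finset.mem_filter.1 hi).2],
    Finset.sum_const, smul_eq_mul]
  obtain h3 | ⟨i, hi⟩ := (Finset.univ.filter fun i => D.ψ i = ψ).eq_empty_or_nonempty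
  · rw [h3, Finset.card_empty, zero_mul]; exact Nat.zero_le _
  obtain rfl := (Finset.mem_filter.1 hi).2
  have h4 : 1 ≤ f (D.ψ i) := Nat.pos_of_ne_zero fun h4 => hγ i (by rw [hf, h4, Nat.cast_zero])
  refine Nat.mul_le_mul ?_ (Nat.le_mul_of_pos_right _ h4)
  rw [← L.card_Hs]
  refine Finset.card_le_card_of_injOn (fun j => i⁻¹ * j) (fun j hj => ?_)
    fun a _ b _ h => mul_left_cancel h
  exact L.mem_Hs.2 (h.H_eq hk ▸ (D.eq_iff i j).1 (Finset.mem_filter.1 hj).2.symm)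

theorem Fn_psi_eq {γ : E →* ℂˣ} (i j : (ZMod p)ˣ) (hγ : h.Cc (D.ψ i) γ) :
    Fn π (D.ψ i) γ = Fn π (D.ψ j) γ := by
  refine mul_left_cancel₀ (H6.card_ne_zero (G := Nor P)) ?_
  rw [h.Fn_eq hγ, h.Fn_eq (h.Cc_of_mem hk D (D.ψ_mem i) (D.ψ_mem j) hγ)]
  congr 1
  · congr 1
    refine mul_left_cancel₀ (Nat.cast_ne_zero.2 hp.out.ne_zero : (p : ℂ) ≠ 0) ?_
    rw [mlt_eta L i.ne_zero (h.psi_val' hk D i), mlt_eta L j.ne_zero (h.psi_val' hk D j),
      if_neg (zero_notMem_orb L i.ne_zero), if_neg (zero_notMem_orb L j.ne_zero),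
      D.reg_eq i j PB.reg_one]
  · refine Finset.sum_congr rfl fun n _ => ?_
    split_ifs with h1
    · rfl
    · rw [h.cf_pi (irr_class _) h1, h.cf_pi (irr_class (D.ψ j)) h1, D.reg_eq i j (h.reg_E _)]

end block

variable {O : ValuationSubring ℂ} {k : Type*} [Field k] [CharP k p] {φ : O →+* k} [Fintype E]
include h

theorem exists_pair' (hφs : Function.Surjective φ) (hφ : ∀ x, φ x ≠ 0 → IsUnit x) {ψ : G → ℂ}
    (hψ : IsIrrCharacter G ψ) {S : Finset (ZMod p)}
    (hS : ∀ (n : Nor P) (j : ZMod p), j * L.r n ∈ S ↔ j ∈ S) {m s : ℕ} (hs : S.card = s + 1)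
    (hsp : s + 1 < p) (hd : ψ 1 = (p * m + (s + 1) : ℕ)) (hm : ∀ j ∉ S, mlt L ψ j = m) :
    ∃ (n : ℕ) (σ : G →* Matrix (Fin n) (Fin n) O), (mrep O.subtype σ).character = ψ ∧
      ∃ γ v l, Pair φ σ u E s (gS O S) γ v l := by
  obtain ⟨n, σ, rfl, hloc⟩ := exists_local φ hφs hφ hψ
  have hn : n = p * m + (s + 1) := by
    rw [Representation.char_one, finrank_fin_fun] at hd
    exact_mod_cast hd
  obtain ⟨s', m', h1, h2, h3⟩ := exists_pair hφs h.loc σ hloc (by
    rw [Fintype.card_fin, hn, Nat.dvd_add_right (dvd_mul_right p m)]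
    exact Nat.not_dvd_of_pos_of_lt s.succ_pos hsp)
  rw [Fintype.card_fin, hn] at h2
  obtain ⟨rfl, rfl⟩ : s = s' ∧ m = m' := by
    have h4 := congrArg (· % p) h2
    simp only [Nat.mul_add_mod, Nat.mod_eq_of_lt h1, Nat.mod_eq_of_lt hsp] at h4
    refine ⟨by omega, Nat.eq_of_mul_eq_mul_left hp.out.pos (by omega)⟩
  refine ⟨n, σ, rfl, h3 _ (US L _ S) (by rw [map_gS, hs])
    (fun e x hx => US_stable L _ hS (h.ι e) hx) (US_le_ker L O _ h.mem h.lu S) ?_⟩
  have h4 := finrank_US L (mrep O.subtype σ) S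
  rw [Finset.sum_congr rfl (g := fun _ => m) fun j hj => by
    exact_mod_cast (finrank_Ei L _ j).trans (hm j (Finset.mem_compl.1 hj)), Finset.sum_const,
    Finset.card_compl, ZMod.card, hs, smul_eq_mul, finrank_fin_fun] at h4
  obtain ⟨c, hc⟩ := Nat.exists_eq_add_of_le hsp.le
  have h5 : p * m = (s + 1 + c) * m := by rw [← hc]
  rw [show p - (s + 1) = c by omega] at h4
  nlinarith

variable {n : Type*} [Fintype n] [DecidableEq n] {σ : G →* Matrix n n O} {s : ℕ} {γ : E →* Oˣ}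
  {v l : n → O}

omit h in
theorem _root_.H33.Bl.Pair.ne' {g : O[X]} (hP : Pair φ σ u E s g γ v l) :
    ((mrep φ σ u - 1) ^ s) (vm φ n v) ≠ 0 := fun h0 => hP.ne (by rw [h0, map_zero])

omit h in
theorem _root_.H33.Bl.Pair.ne_zero {g : O[X]} (hP : Pair φ σ u E s g γ v l) :
    vm O.subtype n v ≠ 0 := fun h0 => hP.ne' (by
  rw [(vm_injective O.subtype_injective n) (h0.trans (map_zero _).symm), map_zero, map_zero])

omit [Fintype E] in
theorem pr_zero_eig {V : Type*} [AddCommGroup V] [Module ℂ V] (ρ : Representation ℂ G V)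
    {δ : E →* ℂˣ} {w : V} (hw : w ∈ Eig (ρ.comp E.subtype) δ) :
    pr L ρ 0 w ∈ Eig (ρ.comp (Nor P).subtype) (δ.comp π) := fun m => by
  have h1 : ρ (π m) (pr L ρ 0 w) = (δ (π m) : ℂ) • pr L ρ 0 w := by
    have := pr_rho L ρ (h.ι (π m)) 0 w
    rw [zero_mul] at this
    exact this.symm.trans ((congrArg _ (hw (π m))).trans (map_smul _ _ _))
  have h2 : ρ (m * (π m : G)⁻¹) (pr L ρ 0 w) = eps p (0 * _) • pr L ρ 0 w :=
    pr_mem L ρ 0 w ⟨_, h.dec m⟩
  rw [zero_mul, eps_zero, one_smul] at h2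
  change ρ m _ = _
  rw [← inv_mul_cancel_right (m : G) (π m), map_mul, End.mul_apply, h1, map_smul, h2]
  rfl

theorem pr_zero_ne {S : Finset (ZMod p)} (h0 : 0 ∈ S) (hs : S.card = s + 1)
    (hP : Pair φ σ u E s (gS O S) γ v l) : pr L (mrep O.subtype σ) 0 (vm O.subtype n v) ≠ 0 :=
  fun h1 => hP.ne' (by
    set ρ := mrep O.subtype σ
    set q := aeval (ρ u - 1) ((gS O (S.erase 0)).map O.subtype) with hq
    have h2 : gS O S = X * gS O (S.erase 0) := by
      rw [gS, gS, ← Finset.mul_prod_erase _ _ h0, show om O (0 : ZMod p) = 1 from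
        Subtype.ext eps_zero, sub_self, map_zero, sub_zero]
    have h3 := hP.ker
    rw [h2, Polynomial.map_mul, map_X, map_mul, aeval_X, End.mul_apply, LinearMap.sub_apply,
      sub_eq_zero] at h3
    have hx : ∀ x : P, ∃ i : ℕ, (x : G) = u ^ i := fun x =>
      (mem_powers_iff_mem_zpowers.2 ((eq_zp L h.mem h.lu).le x.2)).imp fun _ h => h.symm
    have h4 : q (vm O.subtype n v) ∈ Ei L ρ 0 := fun x => by
      obtain ⟨i, hi⟩ := hx x
      change ρ x _ = eps p (0 * _) • _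
      rw [zero_mul, eps_zero, one_smul, hi, map_pow]
      exact (End.pow_apply _ _ _).trans (Function.IsFixedPt.iterate h3 i)
    have h5 : Commute q (pr L ρ 0) := commute_aeval (Commute.sum_right _ _ _ fun x _ => by
      obtain ⟨i, hi⟩ := hx x
      refine Commute.smul_right ?_ _
      change Commute _ (ρ x)
      rw [hi, map_pow]
      exact ((Commute.refl _).pow_right i).sub_left (Commute.one_left _)) _
    have h6 := pr_of_mem L ρ (j := 0) h4
    rw [if_pos rfl, ← End.mul_apply, ← h5.eq, End.mul_apply, h1, map_zero, eq_comm, smul_eq_zero,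
      or_iff_right (Nat.cast_ne_zero.2 hp.out.ne_zero)] at h6
    have h7 := red_aeval φ σ u _ h6
    rwa [map_gS, Finset.card_erase_of_mem h0, hs, Nat.add_sub_cancel, map_pow, aeval_X] at h7)

omit [Fintype E] h in
theorem Fn_ne_zero [Fintype (Nor P)] {V : Type*} [AddCommGroup V] [Module ℂ V]
    [FiniteDimensional ℂ V] (ρ : Representation ℂ G V) {δ : E →* ℂˣ} {w : V}
    (hw : w ∈ Eig (ρ.comp (Nor P).subtype) (δ.comp π)) (h0 : w ≠ 0) : Fn π ρ.character δ ≠ 0 :=
  fun h1 => h0 (by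
    have h2 := (finrank_Eig_eq (ρ.comp (Nor P).subtype) (δ.comp π)).trans h1
    rw [Nat.cast_eq_zero, Submodule.finrank_eq_zero] at h2
    exact (Submodule.mem_bot ℂ).1 (h2 ▸ hw))

omit [Fintype E] in
theorem char_eq_of_mlt {V : Type*} [AddCommGroup V] [Module ℂ V] [FiniteDimensional ℂ V]
    (ρ : Representation ℂ G V) (h1 : mlt L ρ.character 0 = 1) {δ : Nor P →* ℂˣ} {w : V}
    (hw : w ∈ Eig (ρ.comp (Nor P).subtype) δ) (hw' : w ∈ Ei L ρ 0) (h0 : w ≠ 0) {m : Nor P}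
    (hm : L.r m ≠ 1) : ρ.character m = δ m := by
  have hp0 : (p : ℂ) ≠ 0 := Nat.cast_ne_zero.2 hp.out.ne_zero
  have h2 : finrank ℂ (Ei L ρ 0) = 1 := by exact_mod_cast (finrank_Ei L ρ 0).trans h1
  have h3 : pr L ρ 0 * ρ m = (δ m : ℂ) • pr L ρ 0 := LinearMap.ext fun z => by
    obtain ⟨c, hc⟩ := (finrank_eq_one_iff_of_nonzero' (⟨w, hw'⟩ : Ei L ρ 0)
      fun h => h0 (congrArg Subtype.val h)).1 h2 ⟨_, pr_mem L ρ 0 z⟩
    have hc' : c • w = pr L ρ 0 z := congrArg Subtype.val hc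
    rw [End.mul_apply, pr_rho, zero_mul, LinearMap.smul_apply, ← hc', map_smul, smul_comm]
    exact congrArg _ (hw m)
  have h4 : ∀ g, LinearMap.trace ℂ V (pr L ρ 0 * ρ g) = ∑ x : P, ρ.character (x * g) := fun g => by
    simp only [pr, pj, Finset.sum_mul, map_sum, bt_apply, zero_mul, eps_zero, one_smul,
      Representation.character, map_mul]
    rfl
  have h5 := h4 1
  have h6 := mul_mlt L ρ.character 0
  simp only [zero_mul, eps_zero, map_one, mul_one, h1] at h5 h6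
  have h7 := h4 m
  rw [h3, map_smul, h5, ← h6, Finset.sum_congr rfl fun x _ =>
    h.cf_mul (H6.char_isClassFunction (H6.isCharacter_character ρ)) hm x.2, Finset.sum_const,
    Finset.card_univ, ← Nat.card_eq_fintype_card, L.card, smul_eq_mul, nsmul_eq_mul, mul_comm] at h7
  exact (mul_left_cancel₀ hp0 h7).symm

end Ctx

end H33.Bl
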