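import Mathlib
import Cfsg.Agent.Lib.Blau.Cnt

/-! Dimension estimates in the tensor square. -/

set_option autoImplicit false
set_option linter.unusedSectionVars false
set_option linter.style.haveILetI false

open Polynomial Module Cfsg H84 H17.Ord
open H88.Mod (Eig)
open H86 (Cen Nor)
open scoped ComplexConjugate

namespace H33.Bl

theorem red_eig_le {G : Type*} [Group G] {O : ValuationSubring ℂ} {k : Type*} [Field k]
    (φ : O →+* k) {n : Type*} [Fintype n] [DecidableEq n] (σ : G →* Matrix n n O) {E : Subgroup G}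
    [Fintype E] (hE : (Fintype.card E : k) ≠ 0) (γ : E →* Oˣ) :
    finrank k (Eig ((mrep φ σ).comp E.subtype) (cm φ γ)) ≤
      finrank ℂ (Eig ((mrep O.subtype σ).comp E.subtype) (cm O.subtype γ)) := by
  set A := pj ((mrep O.subtype σ).comp E.subtype) (cm O.subtype γ)
  set A' := pj ((mrep φ σ).comp E.subtype) (cm φ γ)
  have h1 : finrank ℂ (LinearMap.ker A) ≤ finrank k (LinearMap.ker A') := red_le φ fun x hx => by
    have k1 := map_pj (vm O.subtype n) (τ := (mrep (RingHom.id O) σ).comp E.subtype)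
      (τ' := (mrep O.subtype σ).comp E.subtype) (fun g => vm_mrep _ σ g) γ x
    have k2 := map_pj (vm φ n) (τ := (mrep (RingHom.id O) σ).comp E.subtype)
      (τ' := (mrep φ σ).comp E.subtype) (fun g => vm_mrep _ σ g) γ x
    rw [vm_injective O.subtype_injective n (k1.trans (hx.trans (map_zero _).symm)), map_zero] at k2
    exact k2.symm
  have h2 := A.finrank_range_add_finrank_ker
  have h3 := A'.finrank_range_add_finrank_ker
  have h4 : finrank ℂ (LinearMap.range A) ≤ _ := Submodule.finrank_mono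
    (t := Eig ((mrep O.subtype σ).comp E.subtype) (cm O.subtype γ))
    (by rintro _ ⟨v, rfl⟩; exact pj_eig _ _ v)
  have h5 : _ ≤ finrank k (LinearMap.range A') := Submodule.finrank_mono
    (s := Eig ((mrep φ σ).comp E.subtype) (cm φ γ)) fun v hv =>
      ⟨(Fintype.card E : k)⁻¹ • v, by rw [map_smul, pj_of_eig hv, inv_smul_smul₀ hE]⟩
  rw [finrank_fintype_fun_eq_card] at h2 h3
  omega

section sq
variable {O R : Type*} [CommRing O] [Field R] {G : Type*} [Group G] {n : Type*} [Fintype n]
  [DecidableEq n]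

/-- the symmetric and the antisymmetric tensors -/
def Us (f : O →+* R) (σ : G →* Matrix n n O) (c : R) : Subrepresentation (mrep f (sqm σ)) where
  toSubmodule := (swp R n).eigenspace c
  apply_mem_toSubmodule g v hv := by
    rw [End.mem_eigenspace_iff] at hv ⊢
    rw [← End.mul_apply, ← swp_comm, End.mul_apply, hv, map_smul]

theorem char_Us (f : O →+* R) (σ : G →* Matrix n n O) {c : R} (hc : c * c = 1) (g : G) :
    2 * (Us f σ c).toRepresentation.character g =
      (mrep f σ).character g ^ 2 + c * (mrep f σ).character (g ^ 2) := by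
  have h1 : ∀ x, (mrep f (sqm σ) g * (1 + c • swp R n)) x ∈ (Us f σ c).toSubmodule := fun x =>
    (Us f σ c).apply_mem_toSubmodule g (End.mem_eigenspace_iff.2 (by
      rw [LinearMap.add_apply, LinearMap.smul_apply, End.one_apply, map_add, map_smul,
        ← End.mul_apply, swp_mul_swp, smul_add, smul_smul, hc, one_smul, add_comm]
      rfl))
  refine Eq.trans ?_ ((LinearMap.trace_restrict_eq_of_forall_mem _ _ h1).trans (by
    rw [mul_add, mul_one, mul_smul_comm, map_add, map_smul, trace_sqm, trace_swp]; rfl))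
  rw [← smul_eq_mul, Representation.character, ← map_smul]
  congr 1
  ext ⟨x, hx⟩ : 2
  change (2 : R) • mrep f (sqm σ) g x = mrep f (sqm σ) g (x + c • swp R n x)
  rw [End.mem_eigenspace_iff.1 hx, smul_smul, hc, one_smul, map_add, two_smul]

theorem char_top {V : Type*} [AddCommGroup V] [Module R V] [FiniteDimensional R V]
    (ρ : Representation R G V) : (⊤ : Subrepresentation ρ).toRepresentation.character =
      ρ.character :=
  funext fun g => LinearMap.trace_restrict_eq_of_forall_mem ⊤ (ρ g) fun _ => Submodule.mem_top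

end sq

variable {G : Type*} [Group G] [Fintype G] {p : ℕ} [hp : Fact p.Prime] {P : Subgroup G}
  [Fintype P] {L : Log p P} {V : Type*} [AddCommGroup V] [Module ℂ V] [FiniteDimensional ℂ V]
  {ρ : Representation ℂ G V}

theorem finrank_inf_Ei (U : Subrepresentation ρ) (j : ZMod p) :
    (finrank ℂ (U.toSubmodule ⊓ Ei L ρ j : Submodule ℂ V) : ℂ) =
      mlt L U.toRepresentation.character j := by
  rw [← finrank_Ei, ← Submodule.map_comap_subtype, Submodule.finrank_map_subtype_eq,
    show (Ei L ρ j).comap U.toSubmodule.subtype = Ei L U.toRepresentation j from Submodule.ext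
      fun x => forall_congr' fun y => ⟨fun h => Subtype.ext h, fun h => congrArg Subtype.val h⟩]

namespace Ctx

variable {u : G} {E : Subgroup G} {π : Nor P →* E} (h : Ctx L u E π) [Fintype E]
include h

theorem finrank_Eig_le (γ : E →* ℂˣ) (j : ZMod p) : finrank ℂ (Eig (ρ.comp E.subtype) γ) ≤
    finrank ℂ (Eig (ρ.comp E.subtype) γ ⊓ US L ρ (orb L j)ᶜ : Submodule ℂ V) +
      finrank ℂ (Ei L ρ j) := by
  refine (finrank_le_ker_add (pr L ρ j) _ (Ei L ρ j) fun x _ => pr_mem L ρ j x).trans
    (Nat.add_le_add_right (Submodule.finrank_mono ?_) _)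
  refine fun x hx => ⟨hx.1, (mem_US L ρ).2 fun i hi => ?_⟩
  obtain ⟨m, rfl⟩ := (mem_orb L).1 (not_not.1 (mt Finset.mem_compl.2 hi))
  have h1 := pr_rho L ρ (h.ι (π m)) j x
  rw [r_ι, h.a_pi, show ρ (h.ι (π m)) x = _ from hx.1 (π m), map_smul, LinearMap.mem_ker.1 hx.2,
    smul_zero] at h1
  have h2 := congrArg (ρ (h.ι (π m) : G)⁻¹) h1
  rwa [map_zero, ← End.mul_apply, ← map_mul, inv_mul_cancel, map_one, End.one_apply, eq_comm] at h2

theorem finrank_Ei_le {γ : E →* ℂˣ} (hγ : h.Cc ρ.character γ) (U : Subrepresentation ρ) {j : ZMod p}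
    (hj : j ≠ 0) : finrank ℂ (U.toSubmodule ⊓ Ei L ρ j : Submodule ℂ V) ≤
      finrank ℂ (U.toSubmodule ⊓ Eig (ρ.comp E.subtype) γ ⊓ US L ρ (orb L j) : Submodule ℂ V) := by
  classical
  have h1 : ∀ v ∈ Ei L ρ j, ∀ i, pr L ρ i (pj (ρ.comp E.subtype) γ v) =
      ∑ y : E, if j = i * h.a y then (p : ℂ) • (γ y⁻¹ : ℂ) • ρ y v else 0 := fun v hv i => by
    rw [pj_apply, map_sum]
    refine Finset.sum_congr rfl fun y _ => ?_
    rw [map_smul, show pr L ρ i ((ρ.comp E.subtype) y v) = _ from pr_rho L ρ (h.ι y) i v,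
      pr_of_mem L ρ hv, r_ι]
    split_ifs
    · rw [map_smul, smul_comm]; rfl
    · rw [map_zero, smul_zero]
  refine LinearMap.finrank_le_finrank_of_injective (f := (pj (ρ.comp E.subtype) γ).restrict
    fun v hv => ⟨⟨pj_mem γ (fun e _ hx => U.apply_mem_toSubmodule e hx) hv.1, pj_eig _ _ v⟩,
      (mem_US L ρ).2 fun i hi => ?_⟩) ((injective_iff_map_eq_zero _).2 fun v hv => ?_)
  · rw [h1 v hv.2, Finset.sum_eq_zero fun y _ => if_neg fun h2 => hi ?_]
    exact (mul_mem_orb L (h.ι y)).1 (h2 ▸ self_mem_orb L j)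
  · have h2 := h1 v v.2.2 j
    rw [show pj (ρ.comp E.subtype) γ v = 0 from congrArg Subtype.val hv, map_zero,
      Finset.sum_congr rfl (g := fun y => if h.a y = 1 then (p : ℂ) • v.1 else 0) fun y _ => ?_,
      ← Finset.sum_filter, Finset.sum_const, ← Nat.cast_smul_eq_nsmul ℂ, smul_smul, eq_comm,
      smul_eq_zero, mul_eq_zero, Nat.cast_eq_zero, Nat.cast_eq_zero] at h2
    · exact Subtype.ext (h2.resolve_left (not_or.2
        ⟨Finset.card_ne_zero.2 ⟨1, by simp⟩, hp.out.ne_zero⟩))
    · by_cases h3 : h.a y = 1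
      · rw [if_pos h3, if_pos (by rw [h3]; simp), hγ.scalar h3, smul_smul (γ y⁻¹ : ℂ),
          ← Units.val_mul, ← map_mul, inv_mul_cancel, map_one, Units.val_one, one_smul]
      · rw [if_neg h3, if_neg fun h4 => h3 (Units.ext (mul_left_cancel₀ hj
          (h4.symm.trans (mul_one _).symm)))]

end Ctx

end H33.Bl
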