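import Mathlib
import Cfsg.Agent.Lib.Blau.CaseA
import Cfsg.Agent.Lib.Lin35.FTB
import Cfsg.Agent.Lib.Lin35.TwoP
import Cfsg.Agent.Lib.Mod88.Brauer

/-! Linear groups of degree below `p - 1`: small constituents, restriction to normal subgroups and
eigenvalues of elements of order `p`. -/

set_option autoImplicit false
set_option linter.unusedSectionVars false
set_option linter.style.haveILetI false

open Module Cfsg H84 H35L H17.Ord
open H86 (Cen Nor)

namespace H33.Bl

variable {G : Type*} [Group G] {p : ℕ}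

theorem exists_quot [Finite G] {χ : G → ℂ} (hχ : IsCharacter G χ) :
    ∃ φ : G ⧸ H6.charKer χ → ℂ, IsCharacter _ φ ∧ (∀ g, φ g = φ 1 → g = 1) ∧
      ∀ g : G, φ g = χ g := by
  obtain ⟨φ, h1, h2⟩ := H6.exists_char_quotient hχ _ fun x hx => (H6.mem_charKer hχ).1 hx
  refine ⟨φ, h1, fun g hg => ?_, h2⟩
  obtain ⟨g, rfl⟩ := QuotientGroup.mk_surjective g
  exact (QuotientGroup.eq_one_iff g).2 ((H6.mem_charKer hχ).2 (((h2 g).symm.trans hg).trans (h2 1)))

theorem exists_quot_irr [Finite G] {χ : G → ℂ} (hχ : IsIrrCharacter G χ) :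
    ∃ φ : G ⧸ H6.charKer χ → ℂ, IsIrrCharacter _ φ ∧ (∀ g, φ g = φ 1 → g = 1) ∧
      ∀ g : G, φ g = χ g := by
  have hχ' := H6.irr_isCharacter hχ
  obtain ⟨φ, h1, h2⟩ := H6.exists_irr_quotient hχ _ fun x hx => (H6.mem_charKer hχ').1 hx
  refine ⟨φ, h1, fun g hg => ?_, h2⟩
  obtain ⟨g, rfl⟩ := QuotientGroup.mk_surjective g
  exact (QuotientGroup.eq_one_iff g).2 ((H6.mem_charKer hχ').2 (((h2 g).symm.trans hg).trans (h2 1)))

theorem le_of_inner [Fintype G] {χ ξ : G → ℂ} (hχ : IsCharacter G χ) (hξ : IsIrrCharacter G ξ)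
    (hne : classInner χ ξ ≠ 0) {n m : ℕ} (hn : χ 1 = n) (hm : ξ 1 = m) : m ≤ n := by
  have := H6.irr_one_le_of_inner_ne_zero hχ hξ hne
  simp only [hm, hn, Complex.natCast_re] at this
  exact_mod_cast this

section
variable [Finite G] [hp : Fact p.Prime]

theorem card_sylow (h : ¬ PCl p G) (h2 : ¬ p ^ 2 ∣ Nat.card G) (P : Sylow p G) :
    Nat.card P = p := by
  obtain ⟨k, hk⟩ := P.isPGroup'.exists_card_eq
  have h3 : k < 2 := lt_of_not_ge fun h3 =>
    h2 ((pow_dvd_pow p h3).trans (hk ▸ (P : Subgroup G).card_subgroup_dvd_card))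
  interval_cases k
  · rw [pow_zero, Subgroup.card_eq_one] at hk
    haveI : (P : Subgroup G).Normal := by rw [hk]; infer_instance
    exact absurd (pcl_of_normal P) h
  · rwa [pow_one] at hk

/-- The Feit–Thompson bound. -/
theorem pcl_small {χ : G → ℂ} (hχ : IsCharacter G χ) (hf : ∀ g, χ g = χ 1 → g = 1) {m : ℕ}
    (hm : χ 1 = m) (h : 2 * m + 1 < p) : PCl p G := by
  refine ftb hχ hf hm (Or.inr ⟨by omega, fun K hK => ?_⟩)
  by_contra hc
  obtain ⟨Q⟩ : Nonempty (Sylow p K) := inferInstance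
  have h1 := card_sylow hc hK Q
  have h2 : charDegree (fun x : K => χ x) = m := H87.deg_of_eq hm
  have := (H88.Mod.brauer_small_char (h1 ▸ (Q : Subgroup K).card_subgroup_dvd_card) hK
    (fun H hH h3 => hc ?_) (H6.isCharacter_restrict K hχ) (fun g hg => Subtype.ext (hf _ hg))
    (by omega)).1
  · omega
  · have h4 := (isPGroup_of_card h3).le_sylow_of_normal Q
    haveI : (Q : Subgroup K).Normal := by
      rwa [← Subgroup.eq_of_le_of_card_ge (K := (Q : Subgroup K)) h4 (by rw [h3, h1])]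
    exact pcl_of_normal Q

/-- the large constituent -/
theorem exists_big [Fintype G] {χ : G → ℂ} (hχ : IsCharacter G χ) (hf : ∀ g, χ g = χ 1 → g = 1)
    (h : ¬ PCl p G) : ∃ (ξ : G → ℂ) (m : ℕ), IsIrrCharacter G ξ ∧ classInner χ ξ ≠ 0 ∧
      ¬ PCl p (G ⧸ H6.charKer ξ) ∧ ξ 1 = m ∧ p ≤ 2 * m + 1 := by
  obtain ⟨ξ, hξ, hne, hc⟩ : ∃ ξ, IsIrrCharacter G ξ ∧ classInner χ ξ ≠ 0 ∧
      ¬ PCl p (G ⧸ H6.charKer ξ) := by
    by_contra hh
    push Not at hh
    exact h (pcl_of_constituents hp.out hχ hf hh)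
  obtain ⟨m, -, hm⟩ := H6.irr_one_pos hξ
  obtain ⟨φ, h1, h2, h3⟩ := exists_quot (H6.irr_isCharacter hξ)
  exact ⟨ξ, m, hξ, hne, hc, hm, le_of_not_gt fun h4 => hc (pcl_small h1 h2 ((h3 1).trans hm) h4)⟩

theorem irr_res {χ : G → ℂ} (hχ : IsIrrCharacter G χ) {n : ℕ} (hn : χ 1 = n) (hnp : n + 1 < p)
    (M : Subgroup G) [M.Normal] (hf : ∀ g ∈ M, χ g = χ 1 → g = 1) (h : ¬ PCl p M) :
    IsIrrCharacter M fun x : M => χ x := by
  haveI := Fintype.ofFinite M
  have hM := H6.isCharacter_restrict M (H6.irr_isCharacter hχ)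
  obtain ⟨ξ, m, hξ, hne, -, hm, hpm⟩ := exists_big hM (fun g hg => Subtype.ext (hf _ g.2 hg)) h
  obtain ⟨k, hk⟩ := deg_dvd_of_constituent hχ hξ hne hn hm
  obtain ⟨n', h0, h1⟩ := H6.irr_one_pos hχ
  obtain rfl : n' = n := by exact_mod_cast h1.symm.trans hn
  have h2 : k < 2 := Nat.lt_of_mul_lt_mul_left (a := m) (by omega)
  have h3 : k ≠ 0 := by rintro rfl; omega
  rw [H7.eq_of_inner_ne_zero_of_one_eq hM hξ hne (by
    rw [hm, show m = n' by rw [hk, show k = 1 by omega, mul_one]]; exact hn)]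
  exact hξ

theorem not_pcl_commutator {χ : G → ℂ} (hχ : IsCharacter G χ) (hf : ∀ g, χ g = χ 1 → g = 1)
    {n : ℕ} (hn : χ 1 = n) (hnp : n + 1 < p) (h : ¬ PCl p G) : ¬ PCl p (commutator G) := fun hc => by
  haveI : Group.IsSolvable (G ⧸ commutator G) :=
    inferInstanceAs (Group.IsSolvable (Abelianization G))
  have := (ito hp.out hχ hf hn (H76.isPSolvable_extension _ hc.isPSolvable
    H76.isPSolvable_of_isSolvable) (by omega) h).1
  omega

theorem mem_zpowers_of_not_sq (h : ¬ p ^ 2 ∣ Nat.card G) {x a : G} (hx : PE p x) (ha : PE p a)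
    (hc : Commute a x) (h1 : x ≠ 1) : a ∈ Subgroup.zpowers x := by
  have h2 : IsPGroup p (Subgroup.zpowers a ⊔ Subgroup.zpowers x : Subgroup G) :=
    IsPGroup.to_sup_of_normal_right' ha.isPGroup hx.isPGroup
      ((Subgroup.zpowers_le_of_mem (Subgroup.mem_centralizer_iff.2 fun y hy => by
        obtain ⟨k, rfl⟩ := hy
        exact (hc.zpow_right k).symm.eq)).trans (Subgroup.centralizer_le_normalizer _))
  obtain ⟨k, hk⟩ := h2.exists_card_eq
  obtain ⟨j, hj⟩ := hx.isPGroup.exists_card_eq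
  have h3 : k < 2 := lt_of_not_ge fun h3 =>
    h ((pow_dvd_pow p h3).trans (hk ▸ Subgroup.card_subgroup_dvd_card _))
  have h4 : j ≠ 0 := by
    rintro rfl
    rw [pow_zero, Subgroup.card_eq_one, Subgroup.zpowers_eq_bot] at hj
    exact h1 hj
  have h5 : Subgroup.zpowers x = Subgroup.zpowers a ⊔ Subgroup.zpowers x :=
    Subgroup.eq_of_le_of_card_ge le_sup_right (by
      rw [hk, hj]; exact Nat.pow_le_pow_right hp.out.pos (by omega))
  rw [h5]
  exact Subgroup.mem_sup_left (Subgroup.mem_zpowers a)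

theorem exists_conj_commute
    (hab : ∀ Q : Sylow p G, ∀ a ∈ (Q : Subgroup G), ∀ b ∈ (Q : Subgroup G), a * b = b * a)
    {a x : G} (ha : PE p a) (hx : PE p x) : ∃ g : G, Commute (g * a * g⁻¹) x := by
  obtain ⟨Q, hQ⟩ := ha.exists_sylow
  obtain ⟨R, hR⟩ := hx.exists_sylow
  obtain ⟨g, rfl⟩ := MulAction.exists_smul_eq G Q R
  exact ⟨g, hab _ _ (H4.mem_smul_sylow_iff.2 (by simpa [mul_assoc] using hQ)) _ hR⟩

end

/-- An element of order `p` has simple eigenvalues, at least `(p - 1) / 2` of them nontrivial. -/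
theorem simple_eig [Finite G] [hp : Fact p.Prime] (hp3 : 3 < p) (h : ¬ PCl p G)
    (h2 : ¬ p ^ 2 ∣ Nat.card G) {ζ : G → ℂ} (hζ : IsIrrCharacter G ζ)
    (hf : ∀ g, ζ g = ζ 1 → g = 1) {d : ℕ} (hd : ζ 1 = d) (hdp : d + 1 < p) :
    ∃ (u : G) (S : Finset ℂ), u ^ p = 1 ∧ (∀ μ ∈ S, μ ^ p = 1) ∧ p ≤ 2 * (S.erase 1).card + 1 ∧
      ∀ k : ℕ, ζ (u ^ k) = ∑ μ ∈ S, μ ^ k := by
  classical
  haveI := Fintype.ofFinite G
  obtain ⟨P⟩ : Nonempty (Sylow p G) := inferInstance
  haveI := Fintype.ofFinite (P : Subgroup G)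
  obtain ⟨L⟩ := nonempty_log (card_sylow h h2 P) P.not_dvd_index
  have hn : ¬ (P : Subgroup G).Normal := fun _ => h (pcl_of_normal P)
  obtain ⟨u, hu, hu1, -⟩ := exists_gen L
  suffices key : ∃ J : Finset (ZMod p), p ≤ 2 * (J.erase 0).card + 1 ∧ J.card = d ∧
      ∀ x ∈ (P : Subgroup G), x ≠ 1 → ζ x = ∑ j ∈ J, eps p (j * L.l x) by
    obtain ⟨J, h3, h4, h5⟩ := key
    refine ⟨u, J.image (eps p), ?_, fun μ hμ => ?_, ?_, fun k => ?_⟩
    · rw [← ord_of L hu hu1, pow_orderOf_eq_one]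
    · obtain ⟨j, -, rfl⟩ := Finset.mem_image.1 hμ
      exact eps_pow_p j
    · rwa [← eps_zero (p := p), ← Finset.image_erase eps_injective,
        Finset.card_image_of_injective _ eps_injective]
    · rw [Finset.sum_image fun a _ b _ e => eps_injective e]
      have h6 : L.l (u ^ k) = k := by rw [L.l_pow (L.le_Cen hu), hu1, mul_one]
      by_cases h7 : u ^ k = 1
      · have : (k : ZMod p) = 0 := by rw [← h6, h7, L.l_one]
        simp [h7, hd, eps_pow, this, h4]
      · simp only [h5 _ (pow_mem hu k) h7, h6, eps_pow, mul_comm]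
  have heta : ∀ (i : (ZMod p)ˣ) (a : ZMod p), L.eta (i * a) = ∑ j ∈ orb L i, eps p (j * a) :=
    fun i a => by
      rw [orb, Finset.sum_image fun a _ b _ h => Units.ext (mul_left_cancel₀ i.ne_zero h), Log.eta]
      exact Finset.sum_congr rfl fun _ _ => by congr 1; ring
  obtain ⟨h1, B, θ, D, i, hk, h3, h4 | h4⟩ := struct L ⟨ζ, hζ⟩ hd hdp hf
  · have hv := psi_val D hk i
    rw [h3] at hv
    have h5 := caseA L hp3 hn h1 hζ hf hd hdp i.ne_zero hv (by rw [hd, h4.1, h4.2]; push_cast; ring)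
    have h6 := dg_pos θ
    have h7 : dg θ < 2 :=
      Nat.lt_of_mul_lt_mul_left (a := (Cen (P : Subgroup G)).relIndex (Nor (P : Subgroup G))) (by omega)
    have h8 : dg θ = 1 := by omega
    refine ⟨orb L i, ?_, ?_, fun x hx hx1 => ?_⟩
    · rw [Finset.erase_eq_of_notMem (zero_notMem_orb L i.ne_zero), card_orb L i.ne_zero, h5]
    · rw [card_orb L i.ne_zero, h4.2, h8, mul_one]
    · rw [← heta]
      simpa [h4.1, h8] using hv x hx hx1
  · have hv := psi_val D hk i
    rw [h3] at hv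
    have h5 : (orb L i)ᶜ.card = d := by
      rw [Finset.card_compl, card_orb L i.ne_zero, ZMod.card]; omega
    refine ⟨(orb L i)ᶜ, ?_, h5, fun x hx hx1 => ?_⟩
    · have := Finset.pred_card_le_card_erase (s := (orb L i)ᶜ) (a := 0)
      omega
    · have h6 := Finset.sum_add_sum_compl (orb L i) fun j => eps p (j * L.l x)
      rw [sum_eps, if_neg fun e => hx1 ((l_eq_zero L hx).1 e), ← heta] at h6
      have h7 := hv x hx hx1
      simp only [h4.1, h4.2.1] at h7
      rw [eq_neg_of_add_eq_zero_right h6]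
      simpa using h7

theorem finrank_eig {V : Type*} [AddCommGroup V] [Module ℂ V] [FiniteDimensional ℂ V]
    (ρ : Representation ℂ G V) {t : G} {N : ℕ} (hN : N ≠ 0) (ht : t ^ N = 1) {μ : ℂ}
    (hμ : μ ^ N = 1) :
    emult ρ.character t N μ = N * finrank ℂ (Module.End.eigenspace (ρ t) μ) := by
  classical
  obtain ⟨b, ω, h1, h2⟩ := H6.exists_eigenbasis ρ hN ht
  rw [emult_eq (χ := ρ.character) (t := t) hN h2 (fun k =>
    H6.trace_of_eigenbasis b _ _ fun i => by
      rw [map_pow]; exact H6.pow_apply_of_eigen _ (h1 i) k) hμ]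
  congr 2
  have : Module.End.eigenspace (ρ t) μ =
      Submodule.span ℂ (Set.range fun i : {i // ω i = μ} => b i) := by
    refine le_antisymm (fun v hv => ?_) (Submodule.span_le.2 ?_)
    · rw [← b.sum_repr v]
      refine Submodule.sum_mem _ fun i _ => ?_
      by_cases h : ω i = μ
      · exact Submodule.smul_mem _ _ (Submodule.subset_span ⟨⟨i, h⟩, rfl⟩)
      · have e := congrArg (fun x => b.repr x i) (Module.End.mem_eigenspace_iff.1 hv)
        conv_lhs at e => rw [← b.sum_repr v, map_sum, map_sum]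
        simp only [map_smul, h1, Module.Basis.repr_self, Finsupp.coe_finsetSum, Finset.sum_apply,
          Finsupp.smul_apply, Finsupp.single_apply, smul_eq_mul, mul_ite, mul_one, mul_zero,
          Finset.sum_ite_eq', Finset.mem_univ, if_true] at e
        rw [(mul_eq_zero.1 (show b.repr v i * (ω i - μ) = 0 by linear_combination e)).resolve_right
          (sub_ne_zero.2 h), zero_smul]
        exact zero_mem _
    · rintro _ ⟨i, rfl⟩
      exact Module.End.mem_eigenspace_iff.2 ((h1 i).trans (by rw [i.2]))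
  rw [this, ← Fintype.card_subtype]
  exact (finrank_span_eq_card (b.linearIndependent.comp _ Subtype.val_injective)).symm

theorem emult_nat {η : G → ℂ} (hη : IsCharacter G η) {r : ℕ} (hr : η 1 = r) {t : G} {N : ℕ}
    (hN : N ≠ 0) (ht : t ^ N = 1) {μ : ℂ} (hμ : μ ^ N = 1) :
    ∃ c : ℕ, emult η t N μ = N * c ∧ c ≤ r ∧ (c = r → ∀ k : ℕ, η (t ^ k) = r * μ ^ k) := by
  classical
  obtain ⟨n, ω, h1, h2, h3⟩ := H6.char_pow_eq_sum hη hN ht
  obtain rfl : n = r := by exact_mod_cast h1.symm.trans hr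
  refine ⟨_, emult_eq hN h2 h3 hμ, (Finset.card_filter_le _ _).trans (by simp), fun h k => ?_⟩
  have := Finset.card_filter_eq_iff.1 (h.trans (by simp))
  simp [h3, this]

theorem emult_add (ξ η : G → ℂ) (t : G) (N : ℕ) (μ : ℂ) :
    emult (ξ + η) t N μ = emult ξ t N μ + emult η t N μ := by
  simp [emult, add_mul, Finset.sum_add_distrib]

end H33.Bl
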