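import Mathlib
import Cfsg.Agent.Lib.Blau.Fa

/-! Linear groups of degree below `p - 1`: twisting and the shape of a subgroup that is not
`p`-closed. -/

set_option autoImplicit false
set_option linter.unusedSectionVars false
set_option linter.style.haveILetI false

open Module Cfsg H84 H35L
open scoped commutatorElement

namespace H33.Bl

universe u

variable {G : Type*} [Group G] [Finite G] {p : ℕ}

theorem detHom_scalar {χ : G → ℂ} (hχ : IsCharacter G χ) {n : ℕ} (hn : χ 1 = n) (h0 : n ≠ 0)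
    {z : G} {ω : ℂ} (hz : ‖χ z‖ = ‖χ 1‖) (h : χ z = ω * χ 1) : (H31.detHom χ z : ℂ) = ω ^ n := by
  obtain ⟨k, ρ, rfl⟩ := hχ
  rw [Representation.char_one, Nat.cast_inj] at hn
  rw [Representation.char_one, Complex.norm_natCast, H6.norm_character_eq_iff] at hz
  obtain ⟨c, hc⟩ := hz
  rw [H31.detHom_character, H31.repDet_apply, hc, LinearMap.det_smul, LinearMap.det_id, mul_one, hn]
  rw [Representation.char_one, Representation.character, hc, map_smul, LinearMap.trace_id,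
    smul_eq_mul, hn] at h
  rw [mul_right_cancel₀ (Nat.cast_ne_zero.2 h0) h]

theorem pow_of_scalar {χ : G → ℂ} {b : G} {β : ℂ} (h : ∀ y, χ (b * y) = β * χ y) (k : ℕ) (y : G) :
    χ (b ^ k * y) = β ^ k * χ y := by
  induction k with
  | zero => simp
  | succ k ih => rw [pow_succ', mul_assoc, h, ih, pow_succ', mul_assoc]

theorem det_two {χ : G → ℂ} (hχ : IsCharacter G χ) (h2 : χ 1 = 2) {y : G} (hy : y ∈ commutator G) :
    χ y ^ 2 - χ (y ^ 2) = 2 := by
  obtain ⟨k, ρ, rfl⟩ := hχ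
  have hn : finrank ℂ (Fin k → ℂ) = 2 := by
    rw [Representation.char_one] at h2; exact_mod_cast h2
  obtain ⟨b, ω, h1, -⟩ := H6.exists_eigenbasis ρ (orderOf_pos y).ne' (pow_orderOf_eq_one y)
  have h3 := H31.repDet_apply ρ y
  have h4 : LinearMap.toMatrix b b (ρ y) = Matrix.diagonal ω := by
    ext i j
    rw [LinearMap.toMatrix_apply, h1]
    by_cases h : i = j
    · simp [h]
    · simp [h]
  rw [MonoidHom.mem_ker.1 (Abelianization.commutator_subset_ker (H31.repDet ρ) hy),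
    ← LinearMap.det_toMatrix b, h4, Matrix.det_diagonal] at h3
  have h5 : ∀ j : ℕ, ρ.character (y ^ j) = ∑ i, ω i ^ j := fun j =>
    H6.trace_of_eigenbasis b _ _ fun i => by rw [map_pow]; exact H6.pow_apply_of_eigen _ (h1 i) j
  have h6 := h5 1
  rw [pow_one] at h6
  rw [h6, h5]
  clear h1 h4 h5 h6 b
  revert ω
  rw [hn]
  intro ω h3
  simp only [Fin.sum_univ_two, Fin.prod_univ_two, Units.val_one] at h3 ⊢
  linear_combination -2 * h3

variable [hp : Fact p.Prime]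

theorem pcl_of_central (K : Subgroup G) [K.Normal] (hK : K ≤ Subgroup.center G)
    (h : PCl p (G ⧸ K)) : PCl p G := fun x y hx hy => by
  let T := (h.subgroup ⊤).sub
  let S := T.comap (QuotientGroup.mk' K)
  haveI := (h.subgroup ⊤).isPGroup_sub.isNilpotent
  haveI : Group.IsNilpotent S := Subgroup.isNilpotent_of_ker_le_center
    ((QuotientGroup.mk' K).subgroupComap T) fun z hz => Subgroup.mem_center_iff.2 fun g =>
      Subtype.ext (Subgroup.mem_center_iff.1 (hK ((QuotientGroup.eq_one_iff _).1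
        (congrArg Subtype.val hz))) g)
  obtain ⟨Q⟩ : Nonempty (Sylow p S) := inferInstance
  haveI := Q.normal_of_normalizerCondition Group.normalizerCondition_of_isNilpotent
  exact (pcl_of_normal Q).mul (H := S) ⟨trivial, hx.map _⟩ ⟨trivial, hy.map _⟩ hx hy

/-- Twisting by a power of the determinant removes the central `p`-elements. -/
theorem exists_twist {χ : G → ℂ} (hχ : IsIrrCharacter G χ) (hf : ∀ g, χ g = χ 1 → g = 1) {n : ℕ}
    (hn : χ 1 = n) (hpn : ¬ p ∣ n) :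
    ∃ (K : Subgroup G) (_ : K.Normal) (φ : G ⧸ K → ℂ), IsIrrCharacter _ φ ∧
      (∀ g, φ g = φ 1 → g = 1) ∧ φ 1 = n ∧ K ≤ Subgroup.center G ∧
      (∀ z ∈ Subgroup.center G, PE p z → z ∈ K) ∧
      Subgroup.center (G ⧸ K) = (Subgroup.center G).map (QuotientGroup.mk' K) ∧
      ∀ z ∈ Subgroup.center (G ⧸ K), PE p z → z = 1 := by
  have hχ' := H6.irr_isCharacter hχ
  have h0 : n ≠ 0 := by rintro rfl; exact hpn (dvd_zero p)
  set N := p ^ (Nat.card G).factorization p with hN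
  obtain ⟨k, hk⟩ : ∃ k, N ∣ n * k + 1 := by
    have hc : n.Coprime N := ((Nat.Prime.coprime_iff_not_dvd hp.out).2 hpn).symm.pow_right _
    refine ⟨n ^ (N.totient - 1) * (N - 1), ?_⟩
    have h1 : 0 < N := pow_pos hp.out.pos _
    rw [← mul_assoc, ← pow_succ', Nat.sub_add_cancel (Nat.totient_pos.2 h1), ← Nat.modEq_zero_iff_dvd]
    refine (((Nat.ModEq.pow_totient hc).mul_right _).add_right _).trans ?_
    rw [one_mul, Nat.sub_add_cancel h1]
    exact Nat.modEq_zero_iff_dvd.2 dvd_rfl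
  have hψ := H6.isIrrCharacter_mul_hom hχ (H31.detHom χ ^ k)
  have hψ' := H6.irr_isCharacter hψ
  have hno : ∀ g, ‖χ g * ((H31.detHom χ ^ k) g : ℂ)‖ = ‖χ g‖ := fun g => by
    rw [norm_mul, Complex.norm_eq_one_of_pow_eq_one (ζ := ((H31.detHom χ ^ k) g : ℂ)) (n := orderOf g)
      (by rw [← Units.val_pow_eq_pow_val, ← map_pow, pow_orderOf_eq_one, map_one, Units.val_one])
      (orderOf_pos g).ne', mul_one]
  obtain ⟨φ, h1, h2, h3⟩ := exists_quot_irr hψ
  have h4 : ∀ z ∈ Subgroup.center G, PE p z → z ∈ H6.charKer _ := fun z hz hz' => by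
    have k1 := H87.norm_eq_of_mem_center hχ hz
    obtain ⟨ω, hω⟩ := H6.char_mul_of_norm_eq hχ' k1
    have k2 := hω 1
    rw [mul_one] at k2
    have k3 := pow_of_scalar hω N 1
    rw [hz'.pow_eq_one hp.out Nat.card_pos.ne' dvd_rfl, mul_one, eq_comm,
      mul_eq_right₀ (H6.irr_one_ne_zero hχ)] at k3
    obtain ⟨c, hc⟩ := hk
    rw [H6.mem_charKer hψ', MonoidHom.pow_apply, Units.val_pow_eq_pow_val,
      detHom_scalar hχ' hn h0 k1 k2, k2, map_one, Units.val_one, mul_one, mul_right_comm, ← pow_mul,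
      ← pow_succ', hc, pow_mul, k3, one_pow, one_mul]
  have h5 : ∀ g : G, (g : G ⧸ H6.charKer _) ∈ Subgroup.center _ → g ∈ Subgroup.center G :=
    fun g hg => mem_center_of_norm_eq hχ' hf (by
      have := H87.norm_eq_of_mem_center h1 hg
      rwa [h3, show φ 1 = _ from h3 1, hno, hno] at this)
  refine ⟨_, inferInstance, φ, h1, h2, by simpa [hn] using h3 1, fun g hg => h5 g ?_, h4,
    le_antisymm (fun g hg => ?_) ?_, fun z hz hz' => ?_⟩
  · rw [(QuotientGroup.eq_one_iff g).2 hg]; exact one_mem _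
  · obtain ⟨g, rfl⟩ := QuotientGroup.mk_surjective g
    exact ⟨g, h5 g hg, rfl⟩
  · rintro _ ⟨g, hg, rfl⟩
    refine Subgroup.mem_center_iff.2 fun y => ?_
    obtain ⟨y, rfl⟩ := QuotientGroup.mk_surjective y
    exact congrArg QuotientGroup.mk (Subgroup.mem_center_iff.1 hg y)
  · obtain ⟨g, rfl⟩ := QuotientGroup.mk_surjective z
    refine hz'.eq_one_of_coprime (Nat.coprime_ordCompl hp.out (Nat.card_pos (α := G)).ne').symm
      ((QuotientGroup.eq_one_iff _).2 (h4 _ (pow_mem (h5 g hz) _) ⟨(Nat.card G).factorization p, ?_⟩))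
    rw [← pow_mul, mul_comm, Nat.ordProj_mul_ordCompl_eq_self, pow_card_eq_one']

/-- Feit's bound for the groups of order below `N`. -/
def TT (p n N : ℕ) : Prop := ∀ (K : Type u) [Group K] [Finite K], Nat.card K < N →
  ∀ φ : K → ℂ, IsIrrCharacter K φ → (∀ g, φ g = φ 1 → g = 1) → ∀ m : ℕ, φ 1 = m → m ≤ n →
    ¬ PCl p K → ¬ p ^ 2 ∣ (Subgroup.center K).index

theorem exists_sk {G : Type u} [Group G] [Finite G] (hp3 : 3 < p)
    (hgen : Subgroup.closure {a : G | PE p a} = ⊤) {χ : G → ℂ} (hχ : IsCharacter G χ)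
    (hf : ∀ g, χ g = χ 1 → g = 1) {n : ℕ} (hn : χ 1 = n) (hnp : n + 1 < p) (h : ¬ PCl p G) {N : ℕ}
    (hN : Nat.card G < N) (hT : TT.{u} p n N) :
    ∃ (ξ η : G → ℂ) (m r : ℕ) (x : G) (S : Finset ℂ), IsIrrCharacter G ξ ∧ IsCharacter G η ∧
      χ = ξ + η ∧ ξ 1 = m ∧ η 1 = r ∧ m + r = n ∧ (∀ d ∈ commutator G, η d = η 1) ∧
      m ∣ Nat.card (commutator G) ∧ x ∈ commutator G ∧ x ≠ 1 ∧ x ^ p = 1 ∧ (∀ μ ∈ S, μ ^ p = 1) ∧
      S.card = m ∧ p ≤ 2 * (S.erase 1).card + 1 ∧ (∀ k : ℕ, ξ (x ^ k) = ∑ μ ∈ S, μ ^ k) ∧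
      ∀ a, PE p a → Commute a x → ∃ i : ℕ, ‖ξ (a * (x ^ i)⁻¹)‖ = ‖ξ 1‖ := by
  classical
  haveI := Fintype.ofFinite G
  obtain ⟨ξ, m, hξ, hne, hc, hm, hpm⟩ := exists_big hχ hf h
  have hξ' := H6.irr_isCharacter hξ
  have hη := H6.isCharacter_sub_of_inner_ne_zero hχ hξ hne
  obtain ⟨r, hr⟩ := H6.char_one_nat hη
  have hmr : m + r = n := by
    rw [Pi.sub_apply, hn, hm, sub_eq_iff_eq_add'] at hr
    exact_mod_cast hr.symm
  have hD : ∀ d ∈ commutator G, (χ - ξ) d = (χ - ξ) 1 := by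
    obtain ⟨φ, h1, h2, h3⟩ := exists_quot hη
    have h4 := (pcl_small (p := p) h1 h2 ((h3 1).trans hr) (by omega)).subgroup ⊤
    have h5 : ∀ g : G, (g : G ⧸ H6.charKer (χ - ξ)) ∈ h4.sub := fun g =>
      (Subgroup.closure_le (h4.sub.comap (QuotientGroup.mk' _))).2
        (fun a ha => ⟨trivial, PE.map _ ha⟩) (hgen ▸ Subgroup.mem_top g)
    intro d hd
    refine (H6.mem_charKer hη).1 ((Subgroup.commutator_le.2 fun a _ b _ => ?_ :
      ⁅(⊤ : Subgroup G), ⊤⁆ ≤ _) hd)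
    rw [← QuotientGroup.eq_one_iff]
    exact (map_commutatorElement (QuotientGroup.mk' _) a b).trans
      (commutatorElement_eq_one_iff_mul_comm.2 (comm_of_degree_lt hp.out h1 h2 ((h3 1).trans hr)
        (by omega) h4.isPGroup_sub (h5 a) (h5 b)))
  have hfD : ∀ g ∈ commutator G, ξ g = ξ 1 → g = 1 := fun g hg e => hf g (by
    have := hD g hg
    rw [Pi.sub_apply, Pi.sub_apply, e] at this
    exact sub_left_injective this)
  have hcD := not_pcl_commutator hχ hf hn hnp h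
  have hζ := irr_res hξ hm (by omega) (commutator G) hfD hcD
  have hsc : ∀ d ∈ commutator G, PE p d → ‖ξ d‖ = ‖ξ 1‖ → d = 1 := fun d hd h1 h2 =>
    h1.eq_one_of_coprime (((Nat.Prime.coprime_iff_not_dvd hp.out).2
      (Nat.not_dvd_of_pos_of_lt (by omega) (by omega : m < p))).symm)
      (hfD _ (pow_mem hd m) (char_pow_of_central hξ' hm h2 hd))
  obtain ⟨φ, h1, h2, h3⟩ := exists_quot_irr hξ
  have h4 := hT _ (lt_of_le_of_lt (Nat.le_of_dvd Nat.card_pos (Subgroup.card_quotient_dvd_card _)) hN)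
    φ h1 h2 m ((h3 1).trans hm) (by omega) hc
  let π := (QuotientGroup.mk' (Subgroup.center (G ⧸ H6.charKer ξ))).comp
    (QuotientGroup.mk' (H6.charKer ξ))
  have hπ : ∀ g, π g = 1 → ‖ξ g‖ = ‖ξ 1‖ := fun g hg => by
    rw [← h3, ← h3]
    exact H87.norm_eq_of_mem_center h1 ((QuotientGroup.eq_one_iff _).1 hg)
  have h5 : ¬ p ^ 2 ∣ Nat.card (commutator G) := fun h5 => by
    obtain ⟨Q, hQ⟩ := Sylow.exists_subgroup_card_pow_prime p h5
    refine h4 (hQ ▸ Subgroup.card_dvd_of_injective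
      (π.comp ((commutator G).subtype.comp Q.subtype)) ((injective_iff_map_eq_one _).2 fun a ha =>
        Subtype.ext (Subtype.ext (hsc _ a.1.2 ⟨2, ?_⟩ (hπ _ ha)))))
    rw [← hQ]
    exact congrArg (fun b : Q => (b.1 : G)) (pow_card_eq_one' (x := a))
  obtain ⟨x, S, k1, k2, k3, k4⟩ := simple_eig hp3 hcD h5 hζ
    (fun g hg => Subtype.ext (hfD _ g.2 hg)) hm (by omega)
  have k5 : S.card = m := by
    have := k4 0
    rw [pow_zero, OneMemClass.coe_one, hm] at this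
    simpa using this.symm
  have k6 : (x : G) ≠ 1 := fun e => by
    obtain ⟨μ, hμ⟩ := Finset.card_pos.1 (show 0 < (S.erase 1).card by omega)
    have := k4 1
    rw [pow_one, e, hm, ← k5, ← Finset.sum_coe_sort, ← Fintype.card_coe] at this
    exact (Finset.mem_erase.1 hμ).1 (by
      simpa using H6.eq_one_of_sum_eq_card _ (fun ν : S => by
        rw [pow_one, Complex.norm_eq_one_of_pow_eq_one (k2 _ ν.2) hp.out.ne_zero]) this.symm
        ⟨μ, Finset.mem_of_mem_erase hμ⟩)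
  have k7 : (x : G) ^ p = 1 := congrArg Subtype.val k1
  have k8 : PE p (x : G) := ⟨1, by rw [pow_one, k7]⟩
  obtain ⟨m', -, k9, k10⟩ := H6.irr_one_dvd_card hζ
  obtain rfl : m' = m := by exact_mod_cast k9.symm.trans hm
  refine ⟨ξ, χ - ξ, m', r, x, S, hξ, hη, by simp, hm, hr, hmr, hD, k10, x.2, k6, k7, k2, k5, k3, k4,
    fun a ha hax => ?_⟩
  obtain ⟨i, hi⟩ := mem_powers_iff_mem_zpowers.2 (mem_zpowers_of_not_sq h4 (k8.map π) (ha.map π)
    (hax.map π) fun e => k6 (hsc _ x.2 k8 (hπ _ e)))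
  exact ⟨i, hπ _ (by rw [map_mul, map_inv, map_pow, ← hi, mul_inv_cancel])⟩

/-- Blichfeldt's theorem in a group without normal `p`-subgroups. -/
theorem blich_false {χ : G → ℂ} (hχ : IsIrrCharacter G χ) (hf : ∀ g, χ g = χ 1 → g = 1) {n : ℕ}
    (hn : χ 1 = n) (hnp : n + 1 < p) (hO : ∀ M : Subgroup G, M.Normal → IsPGroup p M → M = ⊥)
    {t : G} {N : ℕ} (hN : N ≠ 0) (ht : t ^ N = 1) {κ : Type*} [Fintype κ] {a : κ → ℂ}
    (ha : ∀ i, a i ^ N = 1) (h : ∀ j : ℕ, χ (t ^ j) = ∑ i, a i ^ j) (i₀ i₁ : κ)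
    (h1 : ∀ i, ‖a i - a i₀‖ < 1) {j : ℕ} (hj : PE p (t ^ j)) (h2 : a i₁ ^ j ≠ a i₀ ^ j) : False := by
  have h3 : ∀ i, ‖a i‖ = 1 := fun i => Complex.norm_eq_one_of_pow_eq_one (ha i) hN
  have h4 : χ 1 = Fintype.card κ := by simpa using h 0
  have h5 : ¬ PCl p (Subgroup.normalClosure {t}) := fun hc => by
    have h6 : t ^ j ∈ hc.sub :=
      ⟨pow_mem (Subgroup.subset_normalClosure (Set.mem_singleton t)) j, hj⟩
    rw [hO _ inferInstance hc.isPGroup_sub, Subgroup.mem_bot] at h6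
    have h7 := H6.eq_one_of_sum_eq_card (fun i => a i ^ j) (fun i => by rw [norm_pow, h3, one_pow])
      (by rw [← h, h6, h4])
    exact h2 ((h7 i₁).trans (h7 i₀).symm)
  have h6 := scalar_of_homog (H6.irr_isCharacter hχ)
    ⟨_, 1, irr_res hχ hn hnp _ (fun g _ => hf g) h5, by simp⟩ hN ht (ha i₀)
    (fun μ hμ e => by
      obtain ⟨i, rfl⟩ := (emult_ne_zero_iff hN ha h hμ).1 e
      exact h1 i) ((emult_ne_zero_iff hN ha h (ha i₀)).2 ⟨i₀, rfl⟩)
  have h0 : a i₀ ≠ 0 := norm_ne_zero_iff.1 (by rw [h3]; exact one_ne_zero)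
  have h7 := H6.eq_one_of_sum_eq_card (fun i => a i / a i₀) (fun i => by rw [norm_div, h3, h3, div_one])
    (by
      have := h 1
      simp only [pow_one] at this
      rw [← Finset.sum_div, ← this, h6, h4, mul_div_cancel_left₀ _ h0]) i₁
  exact h2 (by rw [(div_eq_one_iff_eq h0).1 h7])

end H33.Bl
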