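import Mathlib
import Cfsg.Agent.Lib.Blau.Fb
import Cfsg.Agent.Lib.Invol.BaerSuzuki

/-! Feit's theorem: in an irreducible linear group of degree below `p - 1` without normal Sylow
`p`-subgroup, `p ^ 2` does not divide the index of the centre. -/

set_option autoImplicit false
set_option linter.unusedSectionVars false
set_option linter.style.haveILetI false

open Module Cfsg H84 H35L
open Module.End (eigenspace mem_eigenspace_iff)
open scoped commutatorElement ComplexConjugate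

namespace H33.Bl

universe u

variable {p : ℕ} [hp : Fact p.Prime]

theorem exists_pow_eq_root {r s : ℂ} (hr : r ^ p = 1) (h1 : r ≠ 1) (hs : s ^ p = 1) :
    ∃ k : ℕ, r ^ k = s := by
  haveI : NeZero p := ⟨hp.out.ne_zero⟩
  have : IsPrimitiveRoot r p := by
    have := IsPrimitiveRoot.orderOf r
    rwa [orderOf_eq_prime hr h1] at this
  obtain ⟨k, -, hk⟩ := this.eq_pow_of_pow_eq_one hs
  exact ⟨k, hk⟩

theorem closure_pe {G : Type*} [Group G] {s : Set G} (hs : ∀ a ∈ s, PE p a) :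
    Subgroup.closure {a : Subgroup.closure s | PE p a} = ⊤ :=
  top_unique (Subgroup.closure_closure_coe_preimage.symm.le.trans
    (Subgroup.closure_mono fun _ ha => pe_coe.1 (hs _ ha)))

theorem card_lt_of_ne {G : Type*} [Group G] [Finite G] {K : Subgroup G} (h : K ≠ ⊤) :
    Nat.card K < Nat.card G :=
  lt_of_le_of_ne (Subgroup.card_le_card_group K) fun e => h (K.eq_top_of_card_eq e)

variable {G : Type u} [Group G] [Finite G] {V : Type*} [AddCommGroup V] [Module ℂ V]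
  [FiniteDimensional ℂ V] {ρ : Representation ℂ G V} {n : ℕ}

/-- The setting of a minimal counterexample. -/
structure Mc (p : ℕ) (ρ : Representation ℂ G V) (n : ℕ) : Prop where
  p3 : 3 < p
  irr : IsIrrCharacter G ρ.character
  f : ∀ g, ρ.character g = ρ.character 1 → g = 1
  deg : ρ.character 1 = n
  lt : n + 1 < p
  O : ∀ M : Subgroup G, M.Normal → IsPGroup p M → M = ⊥
  T : TT.{u} p n (Nat.card G)

theorem Mc.sk (h : Mc p ρ n) {s : Set G} (hs : ∀ a ∈ s, PE p a) (h1 : Subgroup.closure s ≠ ⊤)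
    (h2 : ¬ PCl p (Subgroup.closure s)) :
    ∃ (ξ η : Subgroup.closure s → ℂ) (m r : ℕ) (x : Subgroup.closure s) (S : Finset ℂ),
      IsIrrCharacter _ ξ ∧ IsCharacter _ η ∧ (fun g : Subgroup.closure s => ρ.character g) = ξ + η ∧
      ξ 1 = m ∧ η 1 = r ∧ m + r = n ∧ (∀ d ∈ commutator _, η d = η 1) ∧
      m ∣ Nat.card (commutator (Subgroup.closure s)) ∧ x ∈ commutator _ ∧ x ≠ 1 ∧ x ^ p = 1 ∧
      (∀ μ ∈ S, μ ^ p = 1) ∧ S.card = m ∧ p ≤ 2 * (S.erase 1).card + 1 ∧
      (∀ k : ℕ, ξ (x ^ k) = ∑ μ ∈ S, μ ^ k) ∧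
      ∀ a, PE p a → Commute a x → ∃ i : ℕ, ‖ξ (a * (x ^ i)⁻¹)‖ = ‖ξ 1‖ :=
  exists_sk h.p3 (closure_pe hs) (H6.isCharacter_restrict _ (H6.irr_isCharacter h.irr))
    (fun _ hg => Subtype.ext (h.f _ hg)) h.deg h.lt h2 (card_lt_of_ne h1) h.T

/-- A `p`-element with a large eigenspace is trivial. -/
theorem Mc.big (h : Mc p ρ n) {a : G} (ha : PE p a) {ν : ℂ}
    (hw : p ≤ 2 * finrank ℂ (eigenspace (ρ a) ν) + 1) : a = 1 := by
  classical
  have hp3 := h.p3
  have hnp := h.lt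
  have hχ := H6.irr_isCharacter h.irr
  have hn : finrank ℂ V = n := by
    have := h.deg
    rw [Representation.char_one] at this
    exact_mod_cast this
  by_contra ha1
  obtain ⟨g, hg⟩ : ∃ g, ¬ IsPGroup p (Subgroup.closure ({a, g * a * g⁻¹} : Set G)) := by
    by_contra hh
    push Not at hh
    have := h.O _ inferInstance (H9.isPGroup_normalClosure_of_forall_conj hh)
    exact ha1 (Subgroup.mem_bot.1 (this ▸ Subgroup.subset_normalClosure (Set.mem_singleton a)))
  have hs : ∀ b ∈ ({a, g * a * g⁻¹} : Set G), PE p b := by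
    rintro b (rfl | rfl)
    exacts [ha, ha.conj g]
  have hc : ¬ PCl p (Subgroup.closure ({a, g * a * g⁻¹} : Set G)) := fun hc =>
    hg (hc.isPGroup_sub.to_le ((Subgroup.closure_le _).2 fun b hb =>
      ⟨Subgroup.subset_closure hb, hs b hb⟩))
  obtain ⟨j, hj⟩ := ha
  have hN : p ^ (j + 1) ≠ 0 := (pow_pos hp.out.pos _).ne'
  have haN : a ^ p ^ (j + 1) = 1 := by rw [pow_succ, pow_mul, hj, one_pow]
  have hN' : ((p ^ (j + 1) : ℕ) : ℂ) ≠ 0 := Nat.cast_ne_zero.2 hN
  have hν : ν ^ p ^ (j + 1) = 1 := by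
    obtain ⟨v, hv, hv0⟩ := Submodule.exists_mem_ne_zero_of_ne_bot (p := eigenspace (ρ a) ν)
      fun e => by rw [e, finrank_bot] at hw; omega
    have := H6.pow_apply_of_eigen _ (mem_eigenspace_iff.1 hv) (p ^ (j + 1))
    rw [← map_pow, haN, map_one, Module.End.one_apply] at this
    exact smul_left_injective ℂ hv0 (this.symm.trans (one_smul ℂ v).symm)
  have hcj : ∀ c : G, emult ρ.character (c * a * c⁻¹) (p ^ (j + 1)) ν =
      (p ^ (j + 1) : ℕ) * (finrank ℂ (eigenspace (ρ a) ν) : ℂ) := fun c => by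
    rw [← finrank_eig ρ hN haN hν, emult_congr (ψ := ρ.character) (s := a) (c := 1)
      (fun k => by rw [conj_pow, H6.char_isClassFunction hχ, one_mul]), one_mul]
  have hK : Subgroup.closure ({a, g * a * g⁻¹} : Set G) ≠ ⊤ := fun e => by
    have h1 := (finrank_eig ρ hN (by rw [conj_pow, haN]; simp) hν).symm.trans (hcj g)
    rw [mul_right_inj' hN', Nat.cast_inj] at h1
    have h2 := Submodule.finrank_sup_add_finrank_inf_eq (eigenspace (ρ a) ν)
      (eigenspace (ρ (g * a * g⁻¹)) ν)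
    have h3 := Submodule.finrank_le (eigenspace (ρ a) ν ⊔ eigenspace (ρ (g * a * g⁻¹)) ν)
    obtain ⟨v, hv, hv0⟩ := Submodule.exists_mem_ne_zero_of_ne_bot
      (p := eigenspace (ρ a) ν ⊓ eigenspace (ρ (g * a * g⁻¹)) ν)
      fun e => by rw [e, finrank_bot] at h2; omega
    have h4 : ∀ y, ∃ c : ℂ, ρ y v = c • v := fun y => by
      refine Subgroup.closure_induction (k := {a, g * a * g⁻¹}) (p := fun y _ => ∃ c : ℂ, ρ y v = c • v)
        ?_ ⟨1, by simp⟩ ?_ ?_ (e ▸ Subgroup.mem_top y)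
      · rintro b (rfl | rfl)
        exacts [⟨ν, mem_eigenspace_iff.1 hv.1⟩, ⟨ν, mem_eigenspace_iff.1 hv.2⟩]
      · rintro x y - - ⟨c, hc⟩ ⟨d, hd⟩
        exact ⟨d * c, by rw [map_mul, Module.End.mul_apply, hd, map_smul, hc, smul_smul]⟩
      · rintro x - ⟨c, hc⟩
        have k1 : c • ρ x⁻¹ v = v := by
          rw [← map_smul, ← hc, ← Module.End.mul_apply, ← map_mul, inv_mul_cancel, map_one,
            Module.End.one_apply]
        have k2 : c ≠ 0 := by rintro rfl; exact hv0 (k1.symm.trans (zero_smul _ _))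
        exact ⟨c⁻¹, (eq_inv_smul_iff₀ k2).2 k1⟩
    have h5 := ((H6.isIrreducible_iff ρ).1 ((H6.isIrrCharacter_character_iff ρ).1 h.irr)).2
      (Submodule.span ℂ {v}) fun y w hw => by
        obtain ⟨c, rfl⟩ := Submodule.mem_span_singleton.1 hw
        obtain ⟨d, hd⟩ := h4 y
        rw [map_smul, hd]
        exact Submodule.smul_mem _ _ (Submodule.smul_mem _ _ (Submodule.mem_span_singleton_self v))
    have h6 := finrank_span_singleton (K := ℂ) hv0
    rw [h5.resolve_left (by simpa using hv0), finrank_top, hn] at h6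
    exact hc ((pcl_small hχ h.f h.deg (by omega)).subgroup _)
  obtain ⟨ξ, η, m, r, x, S, hξ, hη, e, hm, hr, hmr, hD, hdv, hxD, -, hx, hS, hSm, hSp, hv, hdec⟩ :=
    h.sk hs hK hc
  have hξ' := H6.irr_isCharacter hξ
  have e' : ∀ y : Subgroup.closure ({a, g * a * g⁻¹} : Set G), ρ.character y = ξ y + η y :=
    congrFun e
  let a₀ : Subgroup.closure ({a, g * a * g⁻¹} : Set G) := ⟨a, Subgroup.subset_closure (by simp)⟩
  have ha₀ : PE p a₀ := pe_coe.1 ⟨j, hj⟩
  obtain ⟨c, hcx⟩ := exists_conj_commute (fun Q a ha b hb => comm_of_degree_lt hp.out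
    (H6.isCharacter_restrict _ hχ) (fun g hg => Subtype.ext (h.f _ hg)) h.deg (by omega)
    Q.isPGroup' ha hb) ha₀ (⟨1, by rw [pow_one, hx]⟩ : PE p x)
  obtain ⟨i, hi⟩ := hdec _ (ha₀.conj c) hcx
  by_cases hpi : p ∣ i
  · obtain ⟨i, rfl⟩ := hpi
    rw [pow_mul, hx, one_pow, inv_one, mul_one, H6.char_isClassFunction hξ'] at hi
    let a₁ : Subgroup.closure ({a, g * a * g⁻¹} : Set G) :=
      ⟨g * a * g⁻¹, Subgroup.subset_closure (by simp)⟩
    have h1 : Commute a (g * a * g⁻¹) := commutatorElement_eq_one_iff_commute.1 (h.f _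
      ((e' ⁅a₀, a₁⁆).trans (by
        rw [H31.char_commutator_of_norm_eq hξ' hi, hD _ (Subgroup.commutator_mem_commutator
          (Subgroup.mem_top _) (Subgroup.mem_top _)), ← e']; rfl)))
    haveI := Subgroup.isMulCommutative_closure (k := {a, g * a * g⁻¹}) (by
      rintro _ (rfl | rfl) _ (rfl | rfl)
      exacts [rfl, h1.eq, h1.eq.symm, rfl])
    exact hc (pcl_of_comm mul_comm')
  obtain ⟨b, hb⟩ : ∃ b, b = c * a₀ * c⁻¹ * (x ^ i)⁻¹ := ⟨_, rfl⟩
  have hbx : Commute b (x ^ i) := hb ▸ (hcx.pow_right i).mul_left (Commute.refl _).inv_left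
  have hb' : c * a₀ * c⁻¹ = b * x ^ i := by rw [hb, inv_mul_cancel_right]
  rw [← hb] at hi
  obtain ⟨β, hβ⟩ := H6.char_mul_of_norm_eq hξ' hi
  have ha₁ : (c * a₀ * c⁻¹) ^ p ^ (j + 1) = 1 := by
    rw [conj_pow, show a₀ ^ p ^ (j + 1) = 1 from Subtype.ext haN]; simp
  have hbN : b ^ p ^ (j + 1) = 1 := by
    rwa [hb', hbx.mul_pow, ← pow_mul, pow_succ', mul_left_comm, pow_mul x, hx, one_pow, mul_one,
      ← pow_succ'] at ha₁
  have hβN : β ^ p ^ (j + 1) = 1 := by
    have := pow_of_scalar hβ (p ^ (j + 1)) 1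
    rwa [hbN, mul_one, eq_comm, mul_eq_right₀ (H6.irr_one_ne_zero hξ)] at this
  have hβ0 : β ≠ 0 := by rintro rfl; rw [zero_pow hN] at hβN; exact zero_ne_one hβN
  have hSN : ∀ μ : ℂ, μ ^ p = 1 → μ ^ p ^ (j + 1) = 1 := fun μ hμ => by
    rw [pow_succ', pow_mul, hμ, one_pow]
  have hSi : ∀ μ ∈ S, (μ ^ i) ^ p = 1 := fun μ hμ => by rw [← pow_mul, mul_comm, pow_mul, hS μ hμ, one_pow]
  have h1 := emult_eq (χ := ξ) (t := c * a₀ * c⁻¹) hN (a := fun μ : S => β * μ ^ i)
    (fun μ => by rw [mul_pow, hβN, hSN _ (hSi _ μ.2), one_mul])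
    (fun k => by
      rw [hb', hbx.mul_pow, pow_of_scalar hβ, ← pow_mul, hv, Finset.mul_sum, ← Finset.sum_coe_sort]
      simp only [mul_pow, pow_mul]) hν
  obtain ⟨c₂, h2, h3, h4⟩ := emult_nat hη hr hN ha₁ hν
  have h5 := hcj c
  rw [show emult ρ.character (c * a * (c : G)⁻¹) (p ^ (j + 1)) ν =
    emult (ξ + η) (c * a₀ * c⁻¹) (p ^ (j + 1)) ν by rw [← e]; rfl, emult_add, h1, h2, ← mul_add,
    mul_right_inj' hN', ← Nat.cast_add, Nat.cast_inj] at h5
  obtain ⟨i', hi'⟩ := Nat.exists_mul_mod_eq_one_of_coprime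
    ((Nat.Prime.coprime_iff_not_dvd hp.out).2 hpi).symm hp.out.one_lt
  have hinj : ∀ μ : ℂ, μ ^ p = 1 → (μ ^ i) ^ i' = μ := fun μ hμ => by
    rw [← pow_mul, pow_eq_pow_mod _ hμ, hi'.2, pow_one]
  have h6 : (Finset.univ.filter fun μ : S => β * μ ^ i = ν).card ≤ 1 :=
    Finset.card_le_one.2 fun μ h1 μ' h2 => Subtype.ext (by
      rw [← hinj _ (hS _ μ.2), ← hinj _ (hS _ μ'.2), mul_left_cancel₀ hβ0
        ((Finset.mem_filter.1 h1).2.trans (Finset.mem_filter.1 h2).2.symm)])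
  have h7 := Finset.card_erase_le (s := S) (a := 1)
  have h8 : (1 : ℂ) ∉ S := fun e => by
    have := Finset.card_erase_add_one e
    omega
  obtain ⟨μ, hμ⟩ := Finset.card_pos.1
    (show 0 < (Finset.univ.filter fun μ : S => β * μ ^ i = ν).card by omega)
  have hμ' := (Finset.mem_filter.1 hμ).2
  have hE : ∀ N : ℕ, 2 ≤ N → Complex.exp (2 * Real.pi * Complex.I / N) ^ N = 1 ∧ ∀ k, 0 < k → k < N →
      Complex.exp (2 * Real.pi * Complex.I / N) ^ k ≠ 1 := fun N hN =>
    ⟨(Complex.isPrimitiveRoot_exp N (by omega)).pow_eq_one, fun k h1 h2 =>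
      (Complex.isPrimitiveRoot_exp N (by omega)).pow_ne_one_of_pos_of_lt h1.ne' h2⟩
  by_cases h9 : 7 ≤ p
  · obtain ⟨k, hk⟩ := exists_pow_eq_root (hSi _ μ.2)
      (fun e => h8 (by rw [← one_pow i', ← e, hinj _ (hS _ μ.2)]; exact μ.2)) (hE p (by omega)).1
    have k1 := (hE p (by omega)).2 1 one_pos (by omega)
    have k2 := norm_exp_sub_one_lt h9
    have k3 := hSN _ (hE p (by omega)).1
    generalize Complex.exp (2 * Real.pi * Complex.I / p) = E at hk k1 k2 k3
    have k4 : (β ^ k) ^ p ^ (j + 1) = 1 := by rw [← pow_mul, mul_comm, pow_mul, hβN, one_pow]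
    refine blich_false h.irr h.f h.deg hnp h.O (t := (b ^ k : _)) hN
      (by rw [← SubgroupClass.coe_pow, ← pow_mul, mul_comm, pow_mul, hbN, one_pow]; rfl)
      (a := Sum.elim (fun _ : Fin m => β ^ k) fun _ : Fin r => β ^ k * E)
      (by rintro (_ | _) <;> simp [mul_pow, k3, k4]) (fun l => ?_) (.inl ⟨0, by omega⟩)
      (.inr ⟨0, by omega⟩) ?_ (j := 1) (PE.pow (pe_coe.2 (PE.pow ⟨_, hbN⟩ k)) 1)
      (by simpa [hβ0] using k1)
    · have k5 := pow_of_scalar hβ (k * l) 1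
      have k6 := h4 (by omega) (k * l)
      rw [hb', hbx.mul_pow, ← hbx.symm.pow_pow, H6.char_mul_of_eq_one hη
        (hD _ (pow_mem (pow_mem hxD _) _))] at k6
      rw [mul_one] at k5
      rw [← SubgroupClass.coe_pow, e', ← pow_mul, k5, k6, hm, ← hμ', ← hk]
      simp only [Fintype.sum_sum_type, Sum.elim_inl, Sum.elim_inr, Finset.sum_const, Finset.card_univ,
        Fintype.card_fin, nsmul_eq_mul]
      ring
    · rintro (_ | _)
      · simp
      · simpa [← mul_sub_one, Complex.norm_eq_one_of_pow_eq_one hβN hN] using k2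
  obtain rfl : p = 5 := by
    have := hp.out
    interval_cases p <;> first | rfl | exact absurd this (by norm_num)
  obtain rfl : m = 2 := by omega
  obtain rfl : r = 1 := by omega
  obtain ⟨⟨z, hzD⟩, hz⟩ := exists_prime_orderOf_dvd_card' 2 hdv
  rw [Subgroup.orderOf_mk] at hz
  have k1 : z ^ 2 = 1 := by rw [← hz, pow_orderOf_eq_one]
  have k2 := det_two hξ' hm hzD
  have k3 : ξ z = -1 * ξ 1 := by
    rw [k1, hm] at k2
    refine ((sq_eq_sq_iff_eq_or_eq_neg (a := ξ z) (b := ξ 1)).1 (by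
      rw [hm]; push_cast at k2 ⊢; linear_combination k2)).elim (fun e => ?_) fun e => by rw [e]; ring
    have : z = 1 := Subtype.ext (h.f _ ((e' _).trans (by rw [e, hD _ hzD, ← e']; rfl)))
    rw [this, orderOf_one] at hz
    omega
  obtain ⟨ω, hω⟩ := H6.char_mul_of_norm_eq hξ' (g := z) (by rw [k3]; simp)
  obtain rfl : ω = -1 := mul_right_cancel₀ (H6.irr_one_ne_zero hξ) (by rw [← hω, mul_one, k3])
  have k4 : Commute z x :=
    commutatorElement_eq_one_iff_commute.1 (Subtype.ext (h.f _ ((e' _).trans (by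
      rw [H31.char_commutator_of_norm_eq hξ' (by rw [k3]; simp), hD _
        (Subgroup.commutator_mem_commutator (Subgroup.mem_top _) (Subgroup.mem_top _)), ← e']
      rfl))))
  obtain ⟨s, s', hss, rfl⟩ := Finset.card_eq_two.1 hSm
  have k5 := det_two hξ' hm hxD
  have k6 := hv 1
  rw [pow_one] at k6
  rw [k6, hv, Finset.sum_pair hss, Finset.sum_pair hss] at k5
  have k7 := hE 10 (by omega)
  have k8 := norm_exp_sub_one_lt (p := 10) (by omega)
  have k9 : Complex.exp (2 * Real.pi * Complex.I / (10 : ℕ)) ^ 5 = -1 :=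
    (sq_eq_one_iff.1 (by rw [← pow_mul]; exact k7.1)).resolve_left (k7.2 5 (by omega) (by omega))
  generalize Complex.exp (2 * Real.pi * Complex.I / (10 : ℕ)) = E at k7 k8 k9
  have k10 := Complex.norm_eq_one_of_pow_eq_one k7.1 (by omega)
  have k11 : E ≠ 0 := by rintro rfl; simp at k10
  obtain ⟨k, hk⟩ := exists_pow_eq_root (p := 5) (s := -E) (hS s (by simp))
    (by rintro rfl; exact h8 (by simp)) (by linear_combination -k9)
  have hk' : s' ^ k = -E⁻¹ := by
    rw [neg_inv, ← hk, ← inv_pow,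
      inv_eq_of_mul_eq_one_right (show s * s' = 1 by linear_combination k5 / 2)]
  refine blich_false h.irr h.f h.deg hnp h.O (t := ((z * x ^ k : Subgroup.closure _) : G)) (N := 10)
    (by omega) ?_ (a := ![1, E, E⁻¹]) (fun l => ?_) (fun l => ?_) 0 1 (fun l => ?_) (j := 2) ?_
    (by simpa using k7.2 2 (by omega) (by omega))
  · rw [← SubgroupClass.coe_pow, (k4.pow_right k).mul_pow, ← pow_mul, show 10 = 2 * 5 from rfl,
      pow_mul, k1, show k * (2 * 5) = 5 * (2 * k) by ring, pow_mul, hx]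
    simp
  · fin_cases l <;> simp [k7.1]
  · rw [← SubgroupClass.coe_pow, e', hD _ (pow_mem (mul_mem hzD (pow_mem hxD _)) _), hr,
      (k4.pow_right k).mul_pow, pow_of_scalar hω, ← pow_mul, hv, Finset.sum_pair hss, pow_mul, pow_mul,
      hk, hk', Fin.sum_univ_three, mul_add, ← mul_pow, ← mul_pow]
    simp
    ring
  · fin_cases l
    · simp
    · simpa using k8
    · have : E⁻¹ - 1 = -(E - 1) / E := by field_simp; ring
      simpa [this, k10, norm_sub_rev] using k8
  · rw [← SubgroupClass.coe_pow, (k4.pow_right k).mul_pow, k1, one_mul]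
    exact pe_coe.2 (PE.pow (PE.pow ⟨1, by rw [pow_one, hx]⟩ _) _)

theorem Mc.cen_aux (h : Mc p ρ n) {y : G} (hy : y ∉ Subgroup.center G)
    (hc : ¬ PCl p (Subgroup.centralizer ({y} : Set G))) :
    ¬ PE p y ∧ ∃ x : G, x ≠ 1 ∧ x ^ p = 1 ∧ Commute x y ∧
      (∀ a, PE p a → Commute a x → Commute a y → a ∈ Subgroup.zpowers x) ∧
      ∀ a b, Commute a x → Commute b x → PE p ⁅a, b⁆ → Commute a b := by
  classical
  have hs : ∀ a ∈ {a : G | PE p a ∧ Commute a y}, PE p a := fun a ha => ha.1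
  have hle : Subgroup.closure {a : G | PE p a ∧ Commute a y} ≤ Subgroup.centralizer {y} :=
    (Subgroup.closure_le _).2 fun a ha => Subgroup.mem_centralizer_singleton_iff.2 ha.2
  obtain ⟨ξ, η, m, r, x, S, hξ, hη, e, hm, hr, hmr, hD, -, hxD, hx1, hx, hS, hSm, hSp, hv, hdec⟩ :=
    h.sk hs (fun e => hy (Subgroup.mem_center_iff.2 fun g =>
      Subgroup.mem_centralizer_singleton_iff.1 (hle (e ▸ Subgroup.mem_top g))))
    fun hc' => hc fun a b ha hb => pe_coe.1 (hc'.mul
      (Subgroup.subset_closure ⟨pe_coe.2 ha, Subgroup.mem_centralizer_singleton_iff.1 a.2⟩)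
      (Subgroup.subset_closure ⟨pe_coe.2 hb, Subgroup.mem_centralizer_singleton_iff.1 b.2⟩)
      (pe_coe.2 ha) (pe_coe.2 hb))
  have hξ' := H6.irr_isCharacter hξ
  have h7 := Finset.card_erase_le (s := S) (a := 1)
  have hem : ∀ (b : Subgroup.closure {a : G | PE p a ∧ Commute a y}) N μ,
      emult ρ.character b N μ = emult ξ b N μ + emult η b N μ := fun b N μ => by
    rw [← emult_add, ← e]; rfl
  have hsc : ∀ b, PE p b → ‖ξ b‖ = ‖ξ 1‖ → b = 1 := fun b ⟨j, hj⟩ hb => by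
    obtain ⟨β, hβ⟩ := H6.char_mul_of_norm_eq hξ' hb
    have hN : p ^ j ≠ 0 := (pow_pos hp.out.pos _).ne'
    have hβN : β ^ p ^ j = 1 := by
      have := pow_of_scalar hβ (p ^ j) 1
      rwa [hj, mul_one, eq_comm, mul_eq_right₀ (H6.irr_one_ne_zero hξ)] at this
    have h1 := emult_eq (χ := ξ) (t := b) hN (a := fun _ : Fin m => β) (fun _ => hβN) (fun k => by
      simpa [hm, mul_comm] using pow_of_scalar hβ k 1) hβN
    obtain ⟨c, h2, -⟩ := emult_nat hη hr hN hj hβN
    have h3 := hem b (p ^ j) β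
    rw [finrank_eig ρ hN (congrArg Subtype.val hj) hβN, h1, h2, ← mul_add,
      mul_right_inj' (Nat.cast_ne_zero.2 hN), ← Nat.cast_add, Nat.cast_inj] at h3
    simp only [Finset.filter_true, Finset.card_univ, Fintype.card_fin] at h3
    exact Subtype.ext (h.big (ν := β) ⟨j, congrArg Subtype.val hj⟩ (by omega))
  have hx' : (x : G) ^ p = 1 := congrArg Subtype.val hx
  refine ⟨fun hy' => ?_, x, fun e => hx1 (Subtype.ext e), hx',
    Subgroup.mem_centralizer_singleton_iff.1 (hle x.2), fun a ha h1 h2 => ?_, fun a b h1 h2 h3 => ?_⟩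
  · have := hsc ⟨y, Subgroup.subset_closure ⟨hy', rfl⟩⟩ (pe_coe.1 hy') (H87.norm_eq_of_mem_center hξ
      (Subgroup.mem_center_iff.2 fun g => Subtype.ext
        (Subgroup.mem_centralizer_singleton_iff.1 (hle g.2))))
    exact hy ((show y = 1 from congrArg Subtype.val this) ▸ one_mem _)
  · let a₀ : Subgroup.closure {a : G | PE p a ∧ Commute a y} := ⟨a, Subgroup.subset_closure ⟨ha, h2⟩⟩
    have h3 : Commute a₀ x := Subtype.ext h1
    obtain ⟨i, hi⟩ := hdec a₀ (pe_coe.1 ha) h3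
    have := hsc _ ((pe_coe.1 ha : PE p a₀).mul_of_commute
      (PE.pow ⟨1, by rw [pow_one, hx]⟩ i).inv (h3.pow_right i).inv_right) hi
    exact ⟨i, (zpow_natCast _ _).trans (congrArg Subtype.val (mul_inv_eq_one.1 this)).symm⟩
  · have h4 : ∀ μ : S.erase 1, finrank ℂ (eigenspace (ρ x) μ) = 1 := fun μ => by
      have k1 := Finset.mem_erase.1 μ.2
      have k2 := hem x p μ
      rw [finrank_eig ρ hp.out.ne_zero hx' (hS _ k1.2), emult_eq (χ := ξ) (t := x) hp.out.ne_zero
        (a := fun μ : S => (μ : ℂ)) (fun μ => hS _ μ.2)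
        (fun k => by rw [hv, ← Finset.sum_coe_sort]) (hS _ k1.2),
        emult_eq (χ := η) (t := x) hp.out.ne_zero (a := fun _ : Fin r => 1) (fun _ => one_pow _)
        (fun k => by simp [hD _ (pow_mem hxD k), hr]) (hS _ k1.2), ← mul_add,
        mul_right_inj' (Nat.cast_ne_zero.2 hp.out.ne_zero), ← Nat.cast_add, Nat.cast_inj] at k2
      rw [k2, Finset.filter_false_of_mem fun _ _ => k1.1.symm, Finset.card_empty, add_zero,
        Finset.card_eq_one]
      exact ⟨⟨μ, k1.2⟩, by ext; simp [Subtype.ext_iff]⟩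
    have h5 : ∀ μ : S.erase 1, ∃ v, Module.End.HasEigenvector (ρ x) μ v ∧
        v ∈ eigenspace (ρ ⁅a, b⁆) 1 := fun μ => by
      obtain ⟨⟨v, hv⟩, hv0, k1⟩ := finrank_eq_one_iff'.1 (h4 μ)
      have k2 : ∀ c, Commute c (x : G) → ∃ s : ℂ, ρ c v = s • v := fun c hc => by
        obtain ⟨s, hs⟩ := k1 ⟨ρ c v, mem_eigenspace_iff.2 (by
          rw [← Module.End.mul_apply, ← map_mul, ← hc.eq, map_mul, Module.End.mul_apply,
            mem_eigenspace_iff.1 hv, map_smul])⟩
        exact ⟨s, (congrArg Subtype.val hs).symm⟩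
      obtain ⟨s, hs⟩ := k2 a h1
      obtain ⟨t, ht⟩ := k2 b h2
      obtain ⟨w, hw⟩ := k2 _ (h2.mul_left h1).inv_left
      refine ⟨v, ⟨hv, fun e => hv0 (Subtype.ext e)⟩, mem_eigenspace_iff.2 ?_⟩
      have k3 : ρ (b * a * (b * a)⁻¹) v = v := by simp
      rw [commutatorElement_def, mul_assoc, ← mul_inv_rev, one_smul]
      simp only [map_mul, Module.End.mul_apply, hw, map_smul, hs, ht] at k3 ⊢
      rwa [smul_comm t s]
    choose v hv1 hv2 using h5
    have h6 := (LinearIndependent.of_comp (eigenspace (ρ ⁅a, b⁆) 1).subtype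
      (v := fun μ => ⟨v μ, hv2 μ⟩) (Module.End.eigenvectors_linearIndependent' (ρ x) _
        Subtype.val_injective v hv1)).fintype_card_le_finrank
    rw [Fintype.card_coe] at h6
    exact commutatorElement_eq_one_iff_commute.1 (h.big (ν := 1) h3 (by omega))

theorem Mc.cen (h : Mc p ρ n) (hsq : p ^ 2 ∣ Nat.card G) {y : G} (hy : y ∉ Subgroup.center G) :
    PCl p (Subgroup.centralizer ({y} : Set G)) := by
  by_contra hc
  obtain ⟨-, x, h1, h2, h3, h4, h5⟩ := h.cen_aux hy hc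
  have hx : PE p x := ⟨1, by rw [pow_one, h2]⟩
  have h6 : PCl p (Subgroup.centralizer ({x} : Set G)) := by
    by_contra h6
    refine (h.cen_aux (fun h7 => h1 ?_) h6).1 hx
    exact Subgroup.zpowers_eq_bot.1 (h.O _ ⟨fun a ha g => by
      rwa [Subgroup.mem_center_iff.1 (Subgroup.zpowers_le_of_mem h7 ha) g, mul_inv_cancel_right]⟩
      hx.isPGroup)
  obtain ⟨P, hP⟩ := hx.exists_sylow
  have h7 : (P : Subgroup G) ≤ Subgroup.zpowers x := fun a ha => by
    have k1 : Commute a x := comm_of_degree_lt hp.out (H6.irr_isCharacter h.irr) h.f h.deg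
      (by have := h.lt; omega) P.isPGroup' ha hP
    have k2 := PE.of_mem P.isPGroup' ha
    exact h4 a k2 k1 (h5 y a h3.symm k1 (h6.mul
      (Subgroup.mem_centralizer_singleton_iff.2 ((h3.symm.mul_left k1).mul_left h3.symm.inv_left))
      (Subgroup.mem_centralizer_singleton_iff.2 k1.inv_left) (k2.conj y) k2.inv)).symm
  have h8 := Subgroup.card_dvd_of_le h7
  rw [Nat.card_zpowers, orderOf_eq_prime h2 h1, P.card_eq_multiplicity] at h8
  have := (Nat.pow_dvd_pow_iff_le_right hp.out.one_lt).1 (((pow_dvd_pow p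
    ((hp.out.pow_dvd_iff_le_factorization Nat.card_pos.ne').1 hsq)).trans h8).trans
      (pow_one p).symm.dvd)
  omega

end H33.Bl
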