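import Mathlib
import Cfsg.Agent.Lib.Blau.Fc

/-! Feit's theorem on the Sylow subgroups of linear groups of degree below `p - 1`. -/

set_option autoImplicit false
set_option linter.unusedSectionVars false
set_option linter.style.haveILetI false

open Module Cfsg H84 H35L

namespace H33.Bl

universe u

variable {p : ℕ} [hp : Fact p.Prime]

theorem ti_false {G : Type*} [Group G] [Finite G] {ξ : G → ℂ} (hξ : IsIrrCharacter G ξ) {m : ℕ}
    (hm : ξ 1 = m) (hm1 : 1 < m)
    (hab : ∀ Q : Sylow p G, ∀ a ∈ (Q : Subgroup G), ∀ b ∈ (Q : Subgroup G), a * b = b * a)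
    (P : Sylow p G) (hOP : ∀ M : Subgroup G, M.Normal → (P : Subgroup G) ≤ M → M = ⊤)
    (hZ : ∀ z ∈ Subgroup.center G, PE p z → z = 1)
    (hcen : ∀ y, y ∉ Subgroup.center G → PCl p (Subgroup.centralizer ({y} : Set G)))
    (hbig : (m + 1) ^ 2 ≤ Nat.card P) (hG : ¬ PCl p G) : False := by
  classical
  haveI := Fintype.ofFinite G
  have hTI : ∀ (Q R : Sylow p G) (x : G), x ≠ 1 → x ∈ Q → x ∈ R → Q = R := fun Q R x hx h1 h2 => by
    have hc := hcen x fun h => hx (hZ x h (PE.of_mem Q.isPGroup' h1))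
    have : ∀ S : Sylow p G, x ∈ S → hc.sub = S := fun S hS => S.is_maximal' hc.isPGroup_sub
      fun y hy => ⟨Subgroup.mem_centralizer_singleton_iff.2 (hab S _ hy _ hS),
        PE.of_mem S.isPGroup' hy⟩
    exact Sylow.ext ((this Q h1).symm.trans (this R h2))
  have hP1 : ∃ x ∈ (P : Subgroup G), x ≠ 1 := by
    by_contra h
    push Not at h
    haveI : (P : Subgroup G).Normal := by
      rw [(Subgroup.eq_bot_iff_forall _).2 h]; infer_instance
    exact hG (pcl_of_normal P)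
  refine false_of_small_fixed (P : Subgroup G) (fun a b => Subtype.ext (hab P _ a.2 _ b.2)) hξ hm
    hm1 hbig fun φ hφ hφ1 => ?_
  have hφc := H6.irr_isCharacter hφ
  set N := Subgroup.normalizer ((P : Subgroup G) : Set G) with hN
  have hPN : (P : Subgroup G) ≤ N := Subgroup.le_normalizer
  let A : Finset G := Finset.univ.filter fun y =>
    (∃ x ∈ (P : Subgroup G), x ≠ 1 ∧ x * y = y * x) ∧ y ∉ Subgroup.center G
  have h1 := sum_ti_lt N A (by simp [A]) (fun y hy g hg => by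
    obtain ⟨⟨x, hx, hx1, hxy⟩, hyZ⟩ := (Finset.mem_filter.1 hy).2
    obtain ⟨⟨x', hx', hx1', hxy'⟩, -⟩ := (Finset.mem_filter.1 hg).2
    have hc := hcen y hyZ
    obtain ⟨R, hR⟩ := hc.isPGroup_sub.exists_le_sylow
    have e1 : P = R := hTI P R x hx1 hx (hR ⟨Subgroup.mem_centralizer_singleton_iff.2 hxy,
      PE.of_mem P.isPGroup' hx⟩)
    have e2 : g⁻¹ * x' * g ∈ R := hR ⟨Subgroup.mem_centralizer_singleton_iff.2 (by
      calc g⁻¹ * x' * g * y = g⁻¹ * (x' * (g * y * g⁻¹)) * g := by group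
        _ = _ := by rw [hxy']; group), by
          simpa using (PE.of_mem P.isPGroup' hx').conj g⁻¹⟩
    exact Sylow.smul_eq_iff_mem_normalizer.1
      (hTI _ _ x' hx1' (H4.mem_smul_sylow_iff.2 (e1 ▸ e2)) hx')) hφ
  let B : Finset N := Finset.univ.filter fun y =>
    ∃ x ∈ (P : Subgroup G), x ≠ 1 ∧ x * y = y * x
  have h2 := sum_normSq_ge ((P : Subgroup G).subgroupOf N) ((Subgroup.center G).subgroupOf N)
    (Subgroup.disjoint_def.2 fun {x} a b => Subtype.ext (hZ _ b (PE.of_mem P.isPGroup' a)))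
    (fun z hz => Subgroup.mem_center_iff.2 fun g => Subtype.ext (Subgroup.mem_center_iff.1 hz g))
    (H6.isCharacter_restrict N hφc) (fun z hz => H87.norm_eq_of_mem_center hφ hz) (by
      by_contra h
      push Not at h
      have := hOP (H6.charKer φ) inferInstance fun x hx =>
        (H6.mem_charKer hφc).2 (h ⟨x, hPN hx⟩ hx)
      exact hφ1 (H6.irr_eq_one_of_forall_eq hφ fun g =>
        (H6.mem_charKer hφc).1 (this ▸ Subgroup.mem_top g))) B
    (fun y hy x hx hxy => by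
      by_contra hx1
      exact hy (Finset.mem_filter.2 ⟨Finset.mem_univ _, x, hx, fun h => hx1 (Subtype.ext h),
        congrArg Subtype.val hxy⟩))
    (fun u hu z hz => by
      obtain ⟨x, hx, hx1⟩ := hP1
      refine Finset.mem_filter.2 ⟨Finset.mem_univ _, x, hx, hx1, ?_⟩
      rw [Subgroup.coe_mul, ← mul_assoc, hab P x hx u hu, mul_assoc, mul_assoc,
        show x * z = z * x from Subgroup.mem_center_iff.1 hz x])
  have h3 : ∑ y ∈ B, ‖φ y‖ ^ 2 ≤ ∑ y ∈ A, ‖φ y‖ ^ 2 +
      Nat.card ((Subgroup.center G).subgroupOf N) * ‖φ 1‖ ^ 2 := by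
    rw [← Finset.sum_filter_add_sum_filter_not B (fun y : N => (y : G) ∉ Subgroup.center G)]
    refine add_le_add ?_ ?_
    · rw [← Finset.sum_image (s := B.filter fun y : N => (y : G) ∉ Subgroup.center G)
        (g := Subtype.val) (f := fun y => ‖φ y‖ ^ 2) fun a _ b _ e => Subtype.ext e]
      refine Finset.sum_le_sum_of_subset_of_nonneg (fun y hy => ?_) fun _ _ _ => by positivity
      obtain ⟨y, hy', rfl⟩ := Finset.mem_image.1 hy
      obtain ⟨a1, a2⟩ := Finset.mem_filter.1 hy'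
      exact Finset.mem_filter.2 ⟨Finset.mem_univ _, (Finset.mem_filter.1 a1).2, a2⟩
    · refine (Finset.sum_le_card_nsmul _ _ (‖φ 1‖ ^ 2) fun y _ =>
        pow_le_pow_left₀ (norm_nonneg _) (H6.char_norm_le hφc _) 2).trans ?_
      rw [nsmul_eq_mul]
      refine mul_le_mul_of_nonneg_right ?_ (by positivity)
      rw [Nat.card_eq_fintype_card, Fintype.card_subtype]
      refine Nat.cast_le.2 (Finset.card_le_card fun y hy => ?_)
      simp only [Finset.mem_filter, not_not, Finset.mem_univ, true_and] at hy ⊢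
      exact hy.2
  rw [avg_one, Nat.card_congr (Subgroup.subgroupOfEquivOfLe hPN).toEquiv] at h2
  have h4 := H7.classInner_subgroupOf hPN (fun u => φ u) (fun _ => 1)
  have h5 : (0 : ℝ) < Nat.card ((Subgroup.center G).subgroupOf N) := by exact_mod_cast Nat.card_pos
  rw [← h4]
  refine lt_of_mul_lt_mul_left ?_ h5.le
  nlinarith

theorem index_center_quot {G : Type*} [Group G] {K : Subgroup G} [K.Normal]
    (hK : K ≤ Subgroup.center G)
    (h : Subgroup.center (G ⧸ K) = (Subgroup.center G).map (QuotientGroup.mk' K)) :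
    (Subgroup.center (G ⧸ K)).index = (Subgroup.center G).index := by
  rw [h, Subgroup.index_map, QuotientGroup.ker_mk', sup_eq_left.2 hK,
    MonoidHom.range_eq_top.2 (QuotientGroup.mk'_surjective K), Subgroup.index_top, mul_one]

theorem tt (hp3 : 3 < p) {n : ℕ} (hnp : n + 1 < p) (N : ℕ) : TT.{u} p n N := by
  induction N with
  | zero => exact fun _ _ _ h => absurd h (Nat.not_lt_zero _)
  | succ N ih =>
  intro G _ _ hG χ hχ hf m hm hmn hc hsq
  have hχ' := H6.irr_isCharacter hχ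
  have hT : TT.{u} p m (Nat.card G) := fun K _ _ h1 φ h2 h3 k h4 h5 =>
    ih K (by omega) φ h2 h3 k h4 (by omega)
  have hm1 : 1 < m := lt_of_not_ge fun h => hc (pcl_small hχ' hf hm (by omega))
  have hZ : ∀ z ∈ Subgroup.center G, PE p z → z = 1 := fun z hz hz' => by
    by_contra hz1
    obtain ⟨K, _, φ, h1, h2, h3, h4, h5, h6, -⟩ := exists_twist (p := p) hχ hf hm
      (Nat.not_dvd_of_pos_of_lt (by omega) (by omega))
    refine hT (G ⧸ K) ?_ φ h1 h2 m h3 le_rfl (fun h => hc (pcl_of_central K h4 h))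
      (index_center_quot h4 h6 ▸ hsq)
    rw [Subgroup.card_eq_card_quotient_mul_card_subgroup K]
    exact lt_mul_of_one_lt_right Nat.card_pos ((Subgroup.one_lt_card_iff_ne_bot K).2 fun e =>
      hz1 (Subgroup.mem_bot.1 (e ▸ h5 z hz hz')))
  have hab : ∀ Q : Sylow p G, ∀ a ∈ (Q : Subgroup G), ∀ b ∈ (Q : Subgroup G), a * b = b * a :=
    fun Q a ha b hb => comm_of_degree_lt hp.out hχ' hf hm (by omega) Q.isPGroup' ha hb
  obtain ⟨P⟩ : Nonempty (Sylow p G) := inferInstance
  have hOP : ∀ M : Subgroup G, M.Normal → (P : Subgroup G) ≤ M → M = ⊤ := fun M hM h => by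
    by_contra hM'
    have h1 : M.index.Coprime p := ((Nat.Prime.coprime_iff_not_dvd hp.out).2 fun h' =>
      P.not_dvd_index (h'.trans (Subgroup.index_dvd_of_le h))).symm
    have h2 : ¬ PCl p M := fun h2 => hc (pcl_of_index h1 h2)
    have h3 := irr_res hχ hm (by omega) M (fun g _ => hf g) h2
    refine hT M (card_lt_of_ne hM') _ h3 (fun g hg => Subtype.ext (hf _ hg)) m hm le_rfl h2 ?_
    have h4 : (Subgroup.center M).map M.subtype ≤ Subgroup.center G := by
      rintro _ ⟨z, hz, rfl⟩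
      exact mem_center_of_norm_eq hχ' hf (H87.norm_eq_of_mem_center h3 hz)
    have h5 := hsq.trans (Subgroup.index_dvd_of_le h4)
    rw [Subgroup.index_map_subtype] at h5
    exact (h1.symm.pow_left 2).dvd_of_dvd_mul_right h5
  have hO : ∀ M : Subgroup G, M.Normal → IsPGroup p M → M = ⊥ := fun M hM h => by
    have h1 := h.le_sylow_of_normal P
    have h2 := hOP (Subgroup.centralizer M) inferInstance fun a ha b hb => hab P b (h1 hb) a ha
    exact (Subgroup.eq_bot_iff_forall _).2 fun z hz => hZ z (Subgroup.mem_center_iff.2 fun g =>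
      ((h2 ▸ Subgroup.mem_top g : g ∈ Subgroup.centralizer M) z hz).symm) (PE.of_mem h hz)
  have hsq' := hsq.trans (Subgroup.center G).index_dvd_card
  obtain ⟨k, ρ, rfl⟩ := hχ'
  refine ti_false hχ hm hm1 hab P hOP hZ
    (fun y hy => Mc.cen ⟨hp3, hχ, hf, hm, by omega, hO, hT⟩ hsq' hy) ?_ hc
  rw [P.card_eq_multiplicity]
  exact (Nat.pow_le_pow_left (by omega) 2).trans (Nat.pow_le_pow_right hp.out.pos
    ((hp.out.pow_dvd_iff_le_factorization Nat.card_pos.ne').1 hsq'))

/-- Feit's theorem. -/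
theorem feit {G : Type*} [Group G] [Finite G] (hp3 : 3 < p) {χ : G → ℂ} (hχ : IsIrrCharacter G χ)
    (hf : ∀ g, χ g = χ 1 → g = 1) {n : ℕ} (hn : χ 1 = n) (hnp : n + 1 < p) (h : ¬ PCl p G) :
    ¬ p ^ 2 ∣ (Subgroup.center G).index :=
  tt hp3 hnp _ G (Nat.lt_succ_self _) χ hχ hf n hn le_rfl h

/-- The commutator subgroup carries everything. -/
theorem reduce {G : Type*} [Group G] [Finite G] (hp3 : 3 < p) {χ : G → ℂ} (hχ : IsIrrCharacter G χ)
    (hf : ∀ g, χ g = χ 1 → g = 1) {n : ℕ} (hn : χ 1 = n) (hnp : n + 1 < p) (h : ¬ PCl p G) :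
    ¬ PCl p (commutator G) ∧ IsIrrCharacter (commutator G) (fun x => χ x) ∧
      ¬ p ^ 2 ∣ Nat.card (commutator G) := by
  have hχ' := H6.irr_isCharacter hχ
  have h1 := not_pcl_commutator hχ' hf hn hnp h
  refine ⟨h1, irr_res hχ hn hnp _ (fun g _ => hf g) h1, fun h5 => ?_⟩
  obtain ⟨Q, hQ⟩ := Sylow.exists_subgroup_card_pow_prime p h5
  obtain ⟨n', h0, h2⟩ := H6.irr_one_pos hχ
  obtain rfl : n' = n := by exact_mod_cast h2.symm.trans hn
  refine feit hp3 hχ hf hn hnp h (hQ ▸ Subgroup.card_dvd_of_injective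
    ((QuotientGroup.mk' _).comp ((commutator G).subtype.comp Q.subtype))
    ((injective_iff_map_eq_one _).2 fun a ha => Subtype.ext (Subtype.ext ?_)))
  refine PE.eq_one_of_coprime ⟨2, ?_⟩ (((Nat.Prime.coprime_iff_not_dvd hp.out).2
    (Nat.not_dvd_of_pos_of_lt h0 (by omega))).symm) (hf _ (char_pow_of_central hχ' hn
      (H87.norm_eq_of_mem_center hχ ((QuotientGroup.eq_one_iff _).1 ha)) a.1.2))
  rw [← hQ]
  exact congrArg (fun b : Q => (b.1 : G)) (pow_card_eq_one' (x := a))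

/-- Reduction to a Sylow subgroup of order `p` with the same central quotient. -/
theorem reduce' {G : Type u} [Group G] [Finite G] (hp3 : 3 < p) {χ : G → ℂ} (hχ : IsIrrCharacter G χ)
    (hf : ∀ g, χ g = χ 1 → g = 1) {n : ℕ} (hn : χ 1 = n) (hnp : n + 1 < p) (h : ¬ PCl p G) :
    ∃ (H : Type u) (_ : Group H) (_ : Finite H) (φ : H → ℂ), IsIrrCharacter H φ ∧
      (∀ g, φ g = φ 1 → g = 1) ∧ φ 1 = n ∧ ¬ PCl p H ∧ ¬ p ^ 2 ∣ Nat.card H ∧
      Nonempty (G ⧸ Subgroup.center G ≃* H ⧸ Subgroup.center H) := by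
  obtain ⟨n', h0, h2⟩ := H6.irr_one_pos hχ
  obtain rfl : n' = n := by exact_mod_cast h2.symm.trans hn
  obtain ⟨K, _, φ, h1, h2, h3, h4, -, h6, h7⟩ := exists_twist (p := p) hχ hf hn
    (Nat.not_dvd_of_pos_of_lt h0 (by omega))
  refine ⟨G ⧸ K, inferInstance, inferInstance, φ, h1, h2, h3, fun hc => h (pcl_of_central K h4 hc),
    fun h8 => feit hp3 hχ hf hn hnp h ?_,
    ⟨(QuotientGroup.quotientQuotientEquivQuotient K _ h4).symm.trans
      (QuotientGroup.quotientMulEquivOfEq h6.symm)⟩⟩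
  rw [← index_center_quot h4 h6]
  rw [← (Subgroup.center (G ⧸ K)).card_mul_index] at h8
  refine (Nat.Coprime.pow_left 2 ((Nat.Prime.coprime_iff_not_dvd hp.out).2 fun h9 => ?_)).dvd_of_dvd_mul_left h8
  obtain ⟨z, hz⟩ := exists_prime_orderOf_dvd_card' p h9
  have := h7 z z.2 (pe_coe.2 ⟨1, by rw [pow_one, ← hz, pow_orderOf_eq_one]⟩)
  rw [show z = 1 from Subtype.ext this, orderOf_one] at hz
  omega

end H33.Bl
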