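import Mathlib
import Cfsg.Agent.Lib.Blau.Dim

/-! The tensor square of a faithful character of degree `p - e`. -/

set_option autoImplicit false
set_option linter.unusedSectionVars false
set_option linter.style.haveILetI false

open Polynomial Module Cfsg H84 H17.Ord
open H88.Mod (Eig)
open H86 (Cen Nor)
open scoped ComplexConjugate

namespace H33.Bl

variable {G : Type*} [Group G] [Fintype G] {p : ℕ} [hp : Fact p.Prime] {P : Subgroup G}
  [Fintype P] {L : Log p P} {u : G} {E : Subgroup G} {π : Nor P →* E} [Fintype E]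
  {O : ValuationSubring ℂ} {k : Type*} [Field k] [CharP k p]

theorem Ctx.Cc_of_eig (h : Ctx L u E π) {V : Type*} [AddCommGroup V] [Module ℂ V]
    [FiniteDimensional ℂ V] {ρ : Representation ℂ G V} (hρ : IsIrrCharacter G ρ.character)
    {γ : E →* ℂˣ} {v : V} (h0 : v ≠ 0) (hv : v ∈ Eig (ρ.comp E.subtype) γ) :
    h.Cc ρ.character γ := fun z hz g => by
  obtain ⟨c, hc⟩ := (H6.norm_character_eq_iff ρ z).1 (by
    rw [H87.norm_eq_of_mem_center hρ (h.cen hz), Representation.char_one, Complex.norm_natCast])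
  have h1 : c = γ z := smul_left_injective ℂ h0 ((LinearMap.congr_fun hc v).symm.trans (hv z))
  rw [Representation.character, map_mul, hc, smul_mul_assoc, map_smul, h1]
  rfl

theorem Ctx.pair_minus (h : Ctx L u E π) {φ : O →+* k} (hφs : Function.Surjective φ)
    (hφ : ∀ x, φ x ≠ 0 → IsUnit x) {ψ : G → ℂ} (hψ : IsIrrCharacter G ψ) {i : ZMod p} (hi : i ≠ 0)
    (hv : ∀ x ∈ P, x ≠ 1 → ψ x = -1 * L.eta (i * L.l x)) {s : ℕ}
    (hs : s + 1 + (Cen P).relIndex (Nor P) = p) :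
    ∃ (n : ℕ) (σ : G →* Matrix (Fin n) (Fin n) O), (mrep O.subtype σ).character = ψ ∧
      ∃ γ v l, Pair φ σ u E s (gS O (orb L i)ᶜ) γ v l ∧
        pr L (mrep O.subtype σ) 0 (vm O.subtype _ v) ≠ 0 := by
  have hp0 : (p : ℂ) ≠ 0 := Nat.cast_ne_zero.2 hp.out.ne_zero
  obtain ⟨m, hm⟩ := mlt_nat L (H6.irr_isCharacter hψ) i
  have h1 := mlt_eta L hi hv i
  rw [if_pos (self_mem_orb L i), hm] at h1
  have h2 : (orb L i)ᶜ.card = s + 1 := by
    rw [Finset.card_compl, card_orb L hi, ZMod.card]; omega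
  have h3 := e_pos L
  obtain ⟨n, σ, h4, γ, v, l, h5⟩ := h.exists_pair' hφs hφ hψ (S := (orb L i)ᶜ) (m := m)
    (fun n j => by rw [Finset.mem_compl, Finset.mem_compl, mul_mem_orb]) h2 (by omega) (by
      have : ((s + 1 + (Cen P).relIndex (Nor P) : ℕ) : ℂ) = p := by rw [hs]
      push_cast at this ⊢
      linear_combination -h1 - this) fun j hj => mul_left_cancel₀ hp0 (by
      rw [mlt_eta L hi hv j, if_pos (not_not.1 (mt Finset.mem_compl.2 hj)), h1])
  exact ⟨n, σ, h4, γ, v, l, h5,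
    h.pr_zero_ne (Finset.mem_compl.2 (zero_notMem_orb L hi)) h2 h5⟩

/-- a lattice affording an exceptional character of degree `d = p - e` -/
structure Zt (h : Ctx L u E π) (φ : O →+* k) {n : Type*} [Fintype n] [DecidableEq n]
    (σ : G →* Matrix n n O) (μ : E →* Oˣ) (d e : ℕ) : Prop where
  he : (Cen P).relIndex (Nor P) = e
  de : d + e = p
  two : 2 * e + 1 ≤ p
  deg : (mrep O.subtype σ).character 1 = d
  val : ∃ i ≠ 0, ∀ x ∈ P, x ≠ 1 → (mrep O.subtype σ).character x = -1 * L.eta (i * L.l x)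
  cc : h.Cc (mrep O.subtype σ).character (cm O.subtype μ)
  nc : ∀ m : Nor P, L.r m ≠ 1 → (mrep O.subtype σ).character m = cm O.subtype μ (π m)
  sq : ∃ (ev : k[X][X] →ₐ[k] End k (n × n → k)) (x y : k[X][X]) (w0 : n × n → k),
    Sq ev x y d w0 ((mrep φ (sqm σ)).comp E.subtype) (H88.Mod.slope k h.a) (cm φ (μ * μ))
      (mrep φ (sqm σ) u - 1) (swp k n)

theorem Ctx.exists_zt (h : Ctx L u E π) {φ : O →+* k} (hφs : Function.Surjective φ)
    (hφ : ∀ x, φ x ≠ 0 → IsUnit x) {ζ : G → ℂ} (hζ : IsIrrCharacter G ζ) {i : ZMod p} (hi : i ≠ 0)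
    (hv : ∀ x ∈ P, x ≠ 1 → ζ x = -1 * L.eta (i * L.l x)) {d : ℕ} (hd : ζ 1 = d)
    (hde : d + (Cen P).relIndex (Nor P) = p) (h2 : 2 * (Cen P).relIndex (Nor P) + 1 ≤ p) :
    ∃ (n : ℕ) (σ : G →* Matrix (Fin n) (Fin n) O) (μ : E →* Oˣ),
      (mrep O.subtype σ).character = ζ ∧ Zt h φ σ μ d ((Cen P).relIndex (Nor P)) := by
  have he := e_pos L
  obtain ⟨s, rfl⟩ : ∃ s, d = s + 1 := ⟨d - 1, by omega⟩
  obtain ⟨n, σ, rfl, μ, v, l, hP, h0⟩ := h.pair_minus hφs hφ hζ hi hv hde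
  refine ⟨n, σ, μ, rfl, rfl, hde, h2, hd, ⟨i, hi, hv⟩, h.Cc_of_eig hζ hP.ne_zero hP.eig,
    fun m hm => h.char_eq_of_mlt _ ?_ (h.pr_zero_eig _ hP.eig) (pr_mem L _ 0 _) h0 hm, ?_⟩
  · refine mul_left_cancel₀ (Nat.cast_ne_zero.2 hp.out.ne_zero : (p : ℂ) ≠ 0) ?_
    rw [mlt_eta L hi hv, if_neg (zero_notMem_orb L hi), hd, ← hde]
    push_cast
    ring
  · obtain ⟨ev, x, y, h3⟩ := exists_sq (by omega) φ σ
      (ord_of L h.mem h.lu ▸ pow_orderOf_eq_one u) h.a h.conj_u (s := s) (by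
        rw [Representation.char_one, finrank_fin_fun] at hd
        rw [Fintype.card_fin]
        exact_mod_cast hd) (red_eig φ σ hP.eig) hP.ne'
    exact ⟨ev, x, y, _, (show cm φ μ * cm φ μ = cm φ (μ * μ) by ext z; simp [cm_apply]) ▸ h3⟩

namespace Zt

variable {h : Ctx L u E π} {φ : O →+* k} {n : Type*} [Fintype n] [DecidableEq n]
  {σ : G →* Matrix n n O} {μ : E →* Oˣ} {d e : ℕ} (Z : Zt h φ σ μ d e)
  {n' : Type*} [Fintype n'] [DecidableEq n'] {σ' : G →* Matrix n' n' O} {s : ℕ} {γ : E →* Oˣ}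
  {v l : n' → O}
include Z

theorem e_pos : 0 < e := Z.he ▸ Bl.e_pos L

theorem two_ne : (2 : k) ≠ 0 := fun h2 => by
  have := Nat.le_of_dvd two_pos ((CharP.cast_eq_zero_iff k p 2).1 h2)
  have := Z.two
  have := Z.e_pos
  omega

theorem cc_sq : h.Cc (mrep O.subtype (sqm σ)).character (cm O.subtype (μ * μ)) := fun z hz g => by
  have := Z.cc z hz g
  simp only [Representation.character, trace_sqm] at this ⊢
  rw [this, mul_pow]
  simp [cm_apply, pow_two]

theorem cc_Us {c : ℂ} (hc : c * c = 1) :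
    h.Cc (Us O.subtype σ c).toRepresentation.character (cm O.subtype (μ * μ)) := fun z hz g => by
  refine mul_left_cancel₀ (two_ne_zero' ℂ) ?_
  rw [mul_left_comm, char_Us _ _ hc, char_Us _ _ hc,
    (show Commute (z : G) g from (Subgroup.mem_center_iff.1 (h.cen hz) g).symm).mul_pow,
    pow_two (z : G), mul_assoc, Z.cc z hz, Z.cc z hz, Z.cc z hz]
  simp only [cm_apply, MonoidHom.mul_apply, Units.val_mul, map_mul]
  ring

theorem minus_ineq (hφs : Function.Surjective φ) {j : ZMod p}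
    (hP : Pair φ σ' u E s (gS O (orb L j)ᶜ) γ v l) (hs : s + 1 = d) {D ν : ℕ}
    (hγ : cm φ γ = cm φ (μ * μ) * H88.Mod.slope k h.a ^ D) (h1 : d ≤ D + ν + 1)
    (h2 : D + 1 ≤ d + ν) {b r : ℕ}
    (hb : classInner (mrep O.subtype (sqm σ)).character (mrep O.subtype σ').character = b)
    (hr : mlt L (mrep O.subtype (sqm σ)).character j = r) : d ≤ b + r + ν := by
  have hE : (Fintype.card E : k) ≠ 0 := Nat.card_eq_fintype_card (α := E) ▸ h.loc.card_ne
  obtain ⟨ev, x, y, w0, hS⟩ := Z.sq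
  have k1 := hS.minus_bound hE Z.e_pos (Z.he ▸ h.slope_pow k) h1 h2
  have k2 := red_eig_le φ (sqm σ) hE γ
  have k3 := h.finrank_Eig_le (ρ := mrep O.subtype (sqm σ)) (cm O.subtype γ) j
  have k4 := key_ineq hφs h.loc hP (natDegree_gS O _) (by have := Z.de; omega) (sqm σ) ⊤
    (H := Eig ((mrep O.subtype (sqm σ)).comp E.subtype) (cm O.subtype γ) ⊓
      US L (mrep O.subtype (sqm σ)) (orb L j)ᶜ) (fun _ _ => trivial) inf_le_left
    (inf_le_right.trans (US_le_ker L O _ h.mem h.lu _))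
    (W := LinearMap.range ((mrep φ (sqm σ) u - 1) ^ e) ⊓
      Eig ((mrep φ (sqm σ)).comp E.subtype) (cm φ γ)) fun x hx hx' =>
      ⟨(show p - (s + 1) = e by have := Z.de; omega) ▸ hx', red_eig φ _ hx.1⟩
  have k5 := (H6.classInner_character (mrep O.subtype σ')
    (⊤ : Subrepresentation (mrep O.subtype (sqm σ))).toRepresentation).symm.trans
      (by rw [char_top, hb])
  have k6 := (finrank_Ei L _ j).trans hr
  rw [Nat.cast_inj] at k5 k6
  rw [← hγ] at k1
  omega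

theorem plus_ineq (hφs : Function.Surjective φ) (h3 : 2 * e ≤ d) {j : ZMod p} (hj : j ≠ 0)
    (hP : Pair φ σ' u E s (gS O (orb L j)) γ v l) (hs : s + 1 = e)
    (hγ : h.Cc (mrep O.subtype (sqm σ)).character (cm O.subtype γ)) {r : ℕ} (hr : r < 2) {b q : ℕ}
    (hb : classInner (Us O.subtype σ ((-1) ^ r)).toRepresentation.character
      (mrep O.subtype σ').character = b)
    (hq : mlt L (Us O.subtype σ ((-1) ^ r)).toRepresentation.character j = q) :
    q ≤ b + (d - e + 1 - r) / 2 := by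
  have hE : (Fintype.card E : k) ≠ 0 := Nat.card_eq_fintype_card (α := E) ▸ h.loc.card_ne
  obtain ⟨ev, x, y, w0, hS⟩ := Z.sq
  have k1 := hS.plus_bound hE Z.two_ne Z.de h3 (Z.he ▸ h.slope_inj k) (cm φ γ) hr
  have k3 := h.finrank_Ei_le hγ (Us O.subtype σ ((-1) ^ r)) hj
  have k4 := key_ineq hφs h.loc hP (natDegree_gS O _) (by have := Z.de; omega) (sqm σ)
    (Us O.subtype σ ((-1) ^ r)) (H := (Us O.subtype σ ((-1) ^ r)).toSubmodule ⊓
      Eig ((mrep O.subtype (sqm σ)).comp E.subtype) (cm O.subtype γ) ⊓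
      US L (mrep O.subtype (sqm σ)) (orb L j)) (inf_le_left.trans inf_le_left)
    (inf_le_left.trans inf_le_right) (inf_le_right.trans (US_le_ker L O _ h.mem h.lu _))
    (W := LinearMap.range ((mrep φ (sqm σ) u - 1) ^ d) ⊓
      Eig ((mrep φ (sqm σ)).comp E.subtype) (cm φ γ) ⊓ (swp k n).eigenspace ((-1) ^ r))
    fun x hx hx' => ⟨⟨(show p - (s + 1) = d by have := Z.de; omega) ▸ hx', red_eig φ _ hx.1.2⟩, by
      have k5 : swp O n x = (-1 : O) ^ r • x := vm_injective O.subtype_injective _ (by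
        rw [vm_swp, End.mem_eigenspace_iff.1 hx.1.1, map_smulₛₗ, map_pow, map_neg, map_one])
      rw [SetLike.mem_coe, End.mem_eigenspace_iff, ← vm_swp, k5, map_smulₛₗ, map_pow, map_neg,
        map_one]⟩
  have k5 := (H6.classInner_character _ _).symm.trans hb
  have k6 := (finrank_inf_Ei _ j).trans hq
  rw [Nat.cast_inj] at k5 k6
  omega

end Zt

end H33.Bl
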