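import Mathlib
import Cfsg.Agent.Lib.Blau.Zt

/-! The block of the tensor square has exceptional characters of degree `≡ -e`. -/

set_option autoImplicit false
set_option linter.unusedSectionVars false
set_option linter.style.haveILetI false

open Polynomial Module Cfsg H84 H17.Ord
open H88.Mod (Eig)
open H86 (Cen Nor)
open scoped ComplexConjugate

namespace H33.Bl

variable {G : Type*} [Group G] [Fintype G] {p : ℕ} [hp : Fact p.Prime] {P : Subgroup G}
  [Fintype P] {L : Log p P} {u : G} {E : Subgroup G} {π : Nor P →* E} [Fintype E]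
  {O : ValuationSubring ℂ} {k : Type*} [Field k] [CharP k p]

open Classical in
theorem sum_lam [Fintype (Nor P)] (lam : Nor P →* ℂˣ) (h : ∀ n, L.r n = 1 → lam n = 1) :
    ∑ n, (if L.r n = 1 then 0 else (lam n : ℂ)) =
      (if lam = 1 then (Nat.card (Nor P) : ℂ) else 0) - Nat.card (Cen P) := by
  have h1 := sum_ite_mem L.r.ker 1 0
  rw [L.card_ker_r, mul_one, mul_zero, add_zero] at h1
  have h2 : ∑ n, (lam n : ℂ) = if lam = 1 then (Nat.card (Nor P) : ℂ) else 0 := by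
    split_ifs with h2
    · simp [h2]
    · exact sum_hom_units_eq_zero ((Units.coeHom ℂ).comp lam) fun h3 =>
        h2 (MonoidHom.ext fun n => Units.ext (DFunLike.congr_fun h3 n))
  rw [← h1, ← h2, ← Finset.sum_sub_distrib]
  refine Finset.sum_congr rfl fun n _ => ?_
  by_cases h3 : L.r n = 1
  · rw [if_pos h3, if_pos (MonoidHom.mem_ker.2 h3), h n h3, Units.val_one, sub_self]
  · rw [if_neg h3, if_neg (mt MonoidHom.mem_ker.1 h3), sub_zero]

theorem sum_mlt_nat {χ : G → ℂ} {r : ZMod p → ℕ} (hr : ∀ i, mlt L χ i = r i) {m : ℕ}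
    (hm : χ 1 = m) : r 0 + ∑ i : (ZMod p)ˣ, r i = m := by
  have h1 := sum_mlt L χ
  simp only [hr, hm] at h1
  rw [Log.sum_zmod_eq] at h1
  exact_mod_cast h1

theorem mul_conj_eq {H : Type*} [Group H] [Finite H] (α δ : H →* ℂˣ) (x : H) :
    (α x : ℂ) * conj (δ x : ℂ) = (α / δ) x := by
  rw [H6.conj_hom, MonoidHom.div_apply, div_eq_mul_inv, MonoidHom.inv_apply, Units.val_mul]

theorem cm_eq {H : Type*} [Group H] (φ : O →+* k) {α δ : H →* Oˣ} {x : H}
    (h : cm O.subtype α x = cm O.subtype δ x) : cm φ α x = cm φ δ x := Units.ext (by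
  rw [cm_apply, cm_apply, O.subtype_injective (congrArg Units.val h)])

namespace Zt

variable {h : Ctx L u E π} {φ : O →+* k} {n : Type*} [Fintype n] [DecidableEq n]
  {σ : G →* Matrix n n O} {μ : E →* Oˣ} {d e : ℕ} (Z : Zt h φ σ μ d e)
include Z

theorem card_N : (Nat.card (Nor P) : ℂ) = Nat.card (Cen P) * e := by
  rw [Log.card_Nor, Z.he, Nat.cast_mul]

theorem sq_one : (mrep O.subtype (sqm σ)).character 1 = (d * d : ℕ) := by
  have := Z.deg
  simp only [Representation.character, trace_sqm] at this ⊢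
  rw [this, pow_two, Nat.cast_mul]

theorem nc2 {m : Nor P} (hm : L.r m ≠ 1) :
    (mrep O.subtype σ).character m ^ 2 = cm O.subtype (μ * μ) (π m) := by
  rw [Z.nc m hm]
  simp [cm_apply, pow_two]

theorem minus_main (hφs : Function.Surjective φ) (hφ : ∀ x, φ x ≠ 0 → IsUnit x)
    {B : Set (IrrCharacter G)} {θ : IrrCharacter (Cen P)} (hk : PKer P θ) (D : DefOne L B θ)
    (hε : D.ε = -1) {χ : IrrCharacter G} (hχ : χ ∈ B) (hc : h.Cc χ (cm O.subtype (μ * μ))) :
    e ≤ 2 ∨ 2 * e + 1 = p := by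
  classical
  haveI := Fintype.ofFinite (Nor P)
  have hde := Z.de
  have h2e := Z.two
  have he0 := Z.e_pos
  obtain ⟨s, hs⟩ : ∃ s, s + 1 = d := ⟨d - 1, by omega⟩
  obtain ⟨n', σ', hσ, γ, v, l, hP, h0⟩ := h.pair_minus hφs hφ (D.ψ 1).2 (1 : (ZMod p)ˣ).ne_zero
    (fun x hx h1 => by rw [h.psi_val' hk D 1 x hx h1, hε]; simp) (s := s) (by rw [Z.he]; omega)
  have hc1 := h.Cc_of_mem hk D hχ (D.ψ_mem 1) hc
  have hγ := Ctx.Cc.eq_of_eig (hσ ▸ hc1) hP.ne_zero hP.eig
  have hF : ∀ i, Fn π (D.ψ i) (cm O.subtype γ) ≠ 0 := fun i => by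
    rw [← h.Fn_psi_eq hk D 1 i (hc1.congr hγ), ← hσ]
    exact Ctx.Fn_ne_zero _ (h.pr_zero_eig _ hP.eig) h0
  have hχ2 := H6.isCharacter_character (mrep O.subtype (sqm σ))
  choose b hb using fun i => H6.char_inner_nat hχ2 (irr_chr (D.ψ i))
  choose r hr using mlt_nat L hχ2
  obtain ⟨F, hF'⟩ := Fn_nat π hχ2 (cm O.subtype γ)
  have k1 := h.sum_b_le hk D hχ2 hF hb hF'
  have k2 := sum_mlt_nat hr Z.sq_one
  have k3 : ∀ i : (ZMod p)ˣ, b i + r i = b 1 + r (1 : (ZMod p)ˣ) := fun i => by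
    have := h.eps_b D (H6.char_isClassFunction hχ2) Z.cc_sq (h.theta_eq hk D hχ hc) i 1
    rw [hε, hb, hb, hr, hr] at this
    have h1 : ((b i + r i : ℕ) : ℂ) = (b 1 + r (1 : (ZMod p)ˣ) : ℕ) := by
      push_cast at this ⊢; linear_combination -this
    exact_mod_cast h1
  have k4 : ∑ i, b i + ∑ i : (ZMod p)ˣ, r i = (p - 1) * (b 1 + r (1 : (ZMod p)ˣ)) := by
    rw [← Finset.sum_add_distrib, Finset.sum_congr rfl fun i _ => k3 i, Finset.sum_const,
      Finset.card_univ, ZMod.card_units, smul_eq_mul]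
  have k5 := h.Fn_eq (Z.cc_sq.congr hγ)
  rw [hF', hr, Finset.sum_congr rfl (g := fun m => if L.r m = 1 then 0 else
    (((cm O.subtype (μ * μ) / cm O.subtype γ).comp π m : ℂˣ) : ℂ)) fun m _ => ?_, sum_lam,
    Z.card_N] at k5
  rotate_left
  · intro m hm
    rw [MonoidHom.comp_apply, MonoidHom.div_apply, hγ _ ((h.a_pi m).trans hm), div_self']
  · split_ifs with hm
    · rfl
    · rw [Representation.character, trace_sqm, ← Representation.character, Z.nc2 hm, mul_conj_eq]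
      rfl
  obtain ⟨t, ht⟩ := Z.he ▸ e_dvd L
  have hα : ∀ j, H88.Mod.slope k h.a ^ (e * j) = 1 := fun j => MonoidHom.ext fun y => by
    have := DFunLike.congr_fun (Z.he ▸ h.slope_pow k) y
    rw [MonoidHom.pow_apply] at this ⊢
    rw [pow_mul, this, MonoidHom.one_apply, one_pow]
  obtain ⟨t', rfl⟩ : ∃ t', t = t' + 2 := ⟨t - 2, by
    have : 2 ≤ t := by
      by_contra h5
      obtain rfl | rfl : t = 0 ∨ t = 1 := by omega
      all_goals omega
    omega⟩
  have hs' : s = e * (t' + 1) := by rw [mul_add] at ht ⊢; omega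
  have hC := H6.card_ne_zero (G := Cen P)
  rw [Z.he] at k1
  have hi := fun {D ν} h1 h2 h3 => Z.minus_ineq hφs hP hs (D := D) (ν := ν) h1 h2 h3
    (hσ ▸ hb 1) (hr _)
  generalize b 1 + r (1 : (ZMod p)ˣ) = c at *
  split_ifs at k5 with h1
  · have h2 : cm φ γ = cm φ (μ * μ) * H88.Mod.slope k h.a ^ s := by
      rw [hs', hα]
      refine MonoidHom.ext fun y => (cm_eq φ ?_).symm.trans (mul_one _).symm
      have := DFunLike.congr_fun h1 (h.ι y)
      rwa [MonoidHom.comp_apply, h.pi_ι, MonoidHom.div_apply, MonoidHom.one_apply, div_eq_one] at this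
    have h3 := hi (ν := 0) h2 (by omega) (by omega)
    have h4 : e * F + 1 = r 0 + e := by
      have : ((e * F + 1 : ℕ) : ℂ) = (r 0 + e : ℕ) :=
        mul_left_cancel₀ hC (by push_cast; linear_combination k5)
      exact_mod_cast this
    left
    rw [ht] at k4
    subst hs
    rw [hs'] at k2 h3
    nlinarith [Nat.mul_le_mul_left (e * (t' + 2)) h3]
  have h4 : e * F + 1 = r 0 := by
    have : ((e * F + 1 : ℕ) : ℂ) = (r 0 : ℕ) :=
      mul_left_cancel₀ hC (by push_cast; linear_combination k5)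
    exact_mod_cast this
  obtain ⟨D0, h5, h6⟩ := h.exists_D (γ := cm φ γ) (δ := cm φ (μ * μ)) fun y hy =>
    (cm_eq φ (hγ y hy)).symm
  rw [Z.he] at h5
  obtain ⟨ν, h7, h8⟩ : ∃ ν, 2 * ν ≤ e ∧ d ≤ c + ν := by
    by_cases h7 : 2 * D0 ≤ e
    · exact ⟨D0, h7, hi (D := e * (t' + 1) + D0) (by rwa [hom_pow_add, hα, hom_one_mul])
        (by omega) (by omega)⟩
    · rw [mul_add, mul_one] at hs'
      exact ⟨e - D0, by omega, hi (D := e * t' + D0) (by rwa [hom_pow_add, hα, hom_one_mul])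
        (by omega) (by omega)⟩
  rcases t' with _ | t'
  · right; omega
  left
  rw [ht] at k4
  subst hs
  rw [hs'] at k2 h8
  by_contra h9
  obtain ⟨f, rfl⟩ : ∃ f, e = f + 3 := ⟨e - 3, by omega⟩
  nlinarith [Nat.mul_le_mul_left ((f + 3) * (t' + 1 + 2)) h8,
    Nat.mul_le_mul_left ((f + 3) * (t' + 1 + 2)) h7, Nat.zero_le (f * t'), Nat.zero_le (f * f * t')]

end Zt

end H33.Bl
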