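import Mathlib
import Cfsg.Agent.Lib.Blau.Minus

/-! The block of the tensor square has exceptional characters of degree `≡ e`. -/

set_option autoImplicit false
set_option linter.unusedSectionVars false
set_option linter.style.haveILetI false

open Polynomial Module Cfsg H84 H17.Ord
open H88.Mod (Eig)
open H86 (Cen Nor)
open scoped ComplexConjugate

namespace H33.Bl

variable {G : Type*} [Group G] [Fintype G] {p : ℕ} [hp : Fact p.Prime] {P : Subgroup G}
  [Fintype P] {L : Log p P} {u : G} {E : Subgroup G} {π : Nor P →* E} [Fintype E]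
  {O : ValuationSubring ℂ} {k : Type*} [Field k] [CharP k p]

open Classical in
theorem sum_eta_sq {i : ZMod p} (hi : i ≠ 0) : ∑ a, L.eta (i * a) * L.eta (i * a) =
    if -1 ∈ L.r.range then (p : ℂ) * (Cen P).relIndex (Nor P) else 0 := by
  simp only [Log.eta, Finset.sum_mul_sum, ← eps_add]
  rw [Finset.sum_comm, Finset.sum_congr rfl (g := fun _ => if -1 ∈ L.r.range then (p : ℂ) else 0)
    fun h hh => ?_, Finset.sum_const, L.card_Hs, nsmul_eq_mul, mul_ite, mul_zero, mul_comm]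
  rw [Finset.sum_comm, Finset.sum_congr rfl (g := fun h' => if -h = h' then (p : ℂ) else 0)
    fun h' _ => ?_, Finset.sum_ite_eq]
  · refine if_congr ?_ rfl rfl
    rw [L.mem_Hs, ← neg_one_mul, mul_mem_cancel_right (L.mem_Hs.1 hh)]
  · rw [Finset.sum_congr rfl (g := fun a => eps p (a * ((h + h') * i))) fun a _ => by
      congr 1; ring, sum_eps]
    refine if_congr ?_ rfl rfl
    rw [mul_eq_zero, or_iff_left hi, add_eq_zero_iff_neg_eq, ← Units.val_neg, Units.val_inj]

open Classical in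
theorem sum_neg_one [Fintype (Nor P)] (lam : Nor P →* ℂˣ) (h : ∀ n, L.r n = 1 → lam n = 1) :
    ∃ s : ℂ, ∑ n, (if L.r n = -1 then (lam n : ℂ) else 0) = Nat.card (Cen P) * s ∧
      ((-1 ∉ L.r.range ∧ s = 0) ∨ (-1 ∈ L.r.range ∧ (s = 1 ∨ (s = -1 ∧ lam ≠ 1)))) := by
  by_cases h1 : -1 ∈ L.r.range
  · obtain ⟨m, hm⟩ := id h1
    refine ⟨lam m, ?_, Or.inr ⟨h1, ?_⟩⟩
    · rw [Finset.sum_congr rfl (g := fun n => if L.r n = -1 then (lam m : ℂ) else 0) fun n _ => ?_,
        L.sum_r fun a => if a = -1 then (lam m : ℂ) else 0, Finset.sum_ite_eq', if_pos (L.mem_Hs.2 h1)]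
      split_ifs with h2
      · have := h (n * m⁻¹) (by rw [map_mul, map_inv, h2, hm, mul_inv_cancel])
        rw [map_mul, map_inv, mul_inv_eq_one] at this
        rw [this]
      · rfl
    · have h2 := congrArg Units.val (h (m * m) (by rw [map_mul, hm]; simp))
      rw [map_mul, Units.val_mul, Units.val_one, mul_self_eq_one_iff] at h2
      refine h2.imp_right fun h3 => ⟨h3, ?_⟩
      rintro rfl
      norm_num at h3
  · exact ⟨0, by rw [mul_zero]; exact Finset.sum_eq_zero fun n _ => if_neg fun h2 => h1 ⟨n, h2⟩,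
      Or.inl ⟨h1, rfl⟩⟩

namespace Zt

variable {h : Ctx L u E π} {φ : O →+* k} {n : Type*} [Fintype n] [DecidableEq n]
  {σ : G →* Matrix n n O} {μ : E →* Oˣ} {d e : ℕ} (Z : Zt h φ σ μ d e)
include Z

theorem two_ne' : (2 : ZMod p) ≠ 0 := fun h2 => by
  have := Nat.le_of_dvd two_pos ((ZMod.natCast_eq_zero_iff 2 p).1 h2)
  have := Z.two
  have := Z.e_pos
  omega

open Classical in
theorem mlt_Us {c : ℂ} (hc : c * c = 1) :
    2 * mlt L (Us O.subtype σ c).toRepresentation.character 0 =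
      d - e + (if -1 ∈ L.r.range then (e : ℂ) else 0) + c := by
  obtain ⟨i, hi, hv⟩ := Z.val
  have hde : (p : ℂ) = d + e := by rw [← Z.de, Nat.cast_add]
  have h1 := mlt_eta L (χ := fun g => (mrep O.subtype σ).character (g ^ 2)) (c := -1)
    (mul_ne_zero hi Z.two_ne') (fun x hx h1 => by
      rw [hv _ (pow_mem hx 2) fun h2 => h1 ((l_eq_zero L hx).1 ((mul_eq_zero.1 ((L.l_pow
        (L.le_Cen hx) 2).symm.trans (h2 ▸ L.l_one))).resolve_left Z.two_ne')),
        L.l_pow (L.le_Cen hx), mul_assoc, Nat.cast_ofNat]) 0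
  rw [if_neg (zero_notMem_orb L (mul_ne_zero hi Z.two_ne')), mul_mlt, one_pow, Z.deg, Z.he] at h1
  have h2 := sum_P_of_val L (φ := fun g => (mrep O.subtype σ).character g ^ 2)
    (F := fun a => L.eta (i * a) * L.eta (i * a)) fun x hx h1 => by rw [hv x hx h1]; ring
  rw [sum_eta_sq hi, mul_zero, L.eta_zero, Z.deg, Z.he] at h2
  refine mul_left_cancel₀ (Nat.cast_ne_zero.2 hp.out.ne_zero : (p : ℂ) ≠ 0) ?_
  rw [mul_left_comm, mul_mlt]
  simp only [zero_mul, eps_zero, map_one, mul_one, Finset.mul_sum, char_Us _ _ hc] at h1 ⊢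
  rw [Finset.sum_add_distrib, ← Finset.mul_sum, h1, h2]
  split_ifs <;> rw [hde] <;> ring

theorem Us_one {c : ℂ} (hc : c * c = 1) :
    2 * (Us O.subtype σ c).toRepresentation.character 1 = d * d + c * d := by
  rw [char_Us _ _ hc, one_pow, Z.deg, pow_two]

theorem Us_nc {c : ℂ} (hc : c * c = 1) {m : Nor P} (hm : L.r m ≠ 1) :
    2 * (Us O.subtype σ c).toRepresentation.character m = cm O.subtype (μ * μ) (π m) *
      (1 + c + if L.r m = -1 then c * (d - 1) else 0) := by
  rw [char_Us _ _ hc, Z.nc2 hm]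
  split_ifs with h1
  · have h2 := h.cf_pi (f := fun g => (mrep O.subtype σ).character (g ^ 2)) (fun g x => by
      simp only [conj_pow]; exact H6.char_isClassFunction (H6.isCharacter_character _) _ _) hm
    have h3 := Z.cc (π m ^ 2) (by rw [map_pow, h.a_pi, h1]; simp) 1
    rw [mul_one, Z.deg, Subgroup.coe_pow, ← h2] at h3
    rw [h3]
    simp only [cm_apply, MonoidHom.mul_apply, Units.val_mul, map_mul, pow_two]
    ring
  · have h2 := Z.nc (m ^ 2) fun h2 => by
      rw [map_pow, Units.ext_iff, Units.val_pow_eq_pow_val, Units.val_one, sq_eq_one_iff] at h2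
      exact h2.elim (fun h3 => hm (Units.ext h3)) fun h3 => h1 (Units.ext h3)
    rw [Subgroup.coe_pow] at h2
    rw [h2]
    simp only [cm_apply, MonoidHom.mul_apply, Units.val_mul, map_mul, pow_two]
    ring

open Classical in
theorem Fn_Us [Fintype (Nor P)] {δ : E →* ℂˣ} (hδ : ∀ z, h.a z = 1 → cm O.subtype (μ * μ) z = δ z) :
    ∃ A s : ℂ, ((-1 ∉ L.r.range ∧ s = 0) ∨ (-1 ∈ L.r.range ∧ (s = 1 ∨ (s = -1 ∧ A = 0)))) ∧
      ∀ c : ℂ, c * c = 1 → 2 * e * Fn π (Us O.subtype σ c).toRepresentation.character δ =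
        2 * mlt L (Us O.subtype σ c).toRepresentation.character 0 + (1 + c) * (A - 1) +
          c * (d - 1) * s := by
  set lam := (cm O.subtype (μ * μ) / δ).comp π
  have h1 : ∀ m, L.r m = 1 → lam m = 1 := fun m hm => by
    rw [MonoidHom.comp_apply, MonoidHom.div_apply, hδ _ ((h.a_pi m).trans hm), div_self']
  obtain ⟨s, h2, h3⟩ := sum_neg_one lam h1
  refine ⟨if lam = 1 then e else 0, s, h3.imp_right (And.imp_right (Or.imp_right
    (And.imp_right fun h => if_neg h))), fun c hc => mul_left_cancel₀ (H6.card_ne_zero (G := Cen P)) ?_⟩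
  have h4 := congrArg (2 * ·) (h.Fn_eq ((Z.cc_Us hc).congr hδ))
  simp only [mul_add, Finset.mul_sum] at h4
  rw [Finset.sum_congr rfl (g := fun m => (1 + c) * (if L.r m = 1 then 0 else (lam m : ℂ)) +
    c * (d - 1) * if L.r m = -1 then (lam m : ℂ) else 0) fun m _ => ?_, Finset.sum_add_distrib,
    ← Finset.mul_sum, ← Finset.mul_sum, h2, sum_lam lam h1, Z.card_N] at h4
  · split_ifs at h4 ⊢ <;> linear_combination h4
  · by_cases hm : L.r m = 1
    · rw [if_pos hm, if_pos hm, if_neg fun h5 => Z.two_ne' ?_]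
      · simp
      · have := congrArg Units.val (hm.symm.trans h5)
        rw [Units.val_neg, Units.val_one] at this
        linear_combination this
    · rw [if_neg hm, if_neg hm, ← mul_assoc, Z.Us_nc hc hm, mul_right_comm, mul_conj_eq]
      change (lam m : ℂ) * _ = _
      split_ifs <;> ring

theorem plus_main [IsAlgClosed k] (hφs : Function.Surjective φ) (hφ : ∀ x, φ x ≠ 0 → IsUnit x)
    (hn : ¬ P.Normal)
    (hf : ∀ g, (mrep O.subtype σ).character g = (mrep O.subtype σ).character 1 → g = 1)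
    {B : Set (IrrCharacter G)} {θ : IrrCharacter (Cen P)} (hk : PKer P θ) (D : DefOne L B θ)
    (hε : D.ε = 1) {χ : IrrCharacter G} (hχ : χ ∈ B) (hc : h.Cc χ (cm O.subtype (μ * μ)))
    {t : ℕ} (ht : t * e + 1 = p) : e ≤ 2 ∨ 2 * e + 1 = p ∨ e + 3 ≤ t := by
  classical
  haveI := Fintype.ofFinite (Nor P)
  have hp0 : (p : ℂ) ≠ 0 := Nat.cast_ne_zero.2 hp.out.ne_zero
  have hde := Z.de
  have h2e := Z.two
  by_contra! hcon
  obtain ⟨he3, hne, hlt⟩ := hcon
  have ht3 : 3 ≤ t := by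
    by_contra h5
    obtain rfl | rfl | rfl : t = 0 ∨ t = 1 ∨ t = 2 := by omega
    all_goals omega
  have h3e : 3 * e ≤ t * e := Nat.mul_le_mul_right e ht3
  obtain ⟨s, hs⟩ : ∃ s, s + 1 = e := ⟨e - 1, by omega⟩
  have h10 := (1 : (ZMod p)ˣ).ne_zero
  have hv := h.psi_val' hk D 1
  obtain ⟨m, hm⟩ := mlt_nat L (irr_chr (D.ψ 1)) 0
  have hm1 := mlt_eta L h10 hv 0
  rw [if_neg (zero_notMem_orb L h10), hm] at hm1
  have hm2 : ∀ j ∉ orb L (1 : (ZMod p)ˣ), mlt L (D.ψ 1) j = m := fun j hj =>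
    mul_left_cancel₀ hp0 (by rw [mlt_eta L h10 hv j, if_neg hj, hm1])
  have hdeg : (D.ψ 1 : G → ℂ) 1 = (p * m + (s + 1) : ℕ) := by
    rw [hε, Z.he] at hm1
    rw [hs]; push_cast at hm1 ⊢; linear_combination -hm1
  obtain ⟨n', σ', hσ, γ, v, l, hP⟩ := h.exists_pair' hφs hφ (D.ψ 1).2 (fun n j => mul_mem_orb L n)
    ((card_orb L h10).trans (Z.he.trans hs.symm)) (by omega) hdeg hm2
  have hc1 := h.Cc_of_mem hk D hχ (D.ψ_mem 1) hc
  have hγ := Ctx.Cc.eq_of_eig (hσ ▸ hc1) hP.ne_zero hP.eig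
  rcases m with _ | m
  · have h1 := red_pow_eq_zero L hφs σ' h.mem h.lu _ fun j hj => by
      rw [hσ, hm2 j hj, Nat.cast_zero]
    rw [card_orb L h10, Z.he] at h1
    obtain ⟨τ, hτ⟩ := exists_pgl' (ord_of L h.mem h.lu) (not_sq L) h2e e _ (mrep φ σ') (by
      rw [← hσ, Representation.char_one, mul_zero, zero_add, hs, Nat.cast_inj] at hdeg
      simpa using hdeg) (by omega) h1 fun h2 => hP.ne' (by
        rw [h2, sub_self, zero_pow (by omega), LinearMap.zero_apply])
    exact hne (Z.he ▸ (pgl_case L (by omega) h.mem h.lu hn (Z.he ▸ h2e)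
      (H6.isCharacter_character _) hf Z.deg (by omega) τ hτ).1)
  obtain ⟨ι, _, β, hβ⟩ := exists_chars O h.comm
  obtain ⟨i, w, hw1, hw2, hw3⟩ := (Full.map hβ O.subtype).exists_eig H6.card_ne_zero
    (τ := (mrep O.subtype σ').comp E.subtype) (U := Ei L (mrep O.subtype σ') 0) (W := ⊥)
    (fun y x hx => by
      have h1 := pr_rho L (mrep O.subtype σ') (h.ι y) 0 x
      rw [zero_mul, pr_of_mem L _ hx, if_pos rfl, map_smul] at h1
      exact (Submodule.smul_mem_iff _ hp0).1 (h1 ▸ pr_mem L _ 0 _))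
    fun h1 => by
      have h2 := finrank_Ei L (mrep O.subtype σ') 0
      rw [le_bot_iff.1 h1, finrank_bot, hσ, hm, Nat.cast_inj] at h2
      omega
  have hδ := Ctx.Cc.eq_of_eig (hσ ▸ hc1) hw3 hw2
  have hF : ∀ j, Fn π (D.ψ j) (cm O.subtype (β i)) ≠ 0 := fun j => by
    rw [← h.Fn_psi_eq hk D 1 j (hc1.congr hδ), ← hσ]
    refine Ctx.Fn_ne_zero _ (h.pr_zero_eig _ hw2) ?_
    rw [pr_of_mem L _ hw1, if_pos rfl]
    exact smul_ne_zero hp0 hw3
  obtain ⟨A, s', hs', hA⟩ := Z.Fn_Us hδ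
  have key : ∀ r < 2, ∃ q F N : ℕ,
      (2 * q : ℂ) = d - e + (if -1 ∈ L.r.range then (e : ℂ) else 0) + (-1) ^ r ∧
      (2 * e * F : ℂ) = 2 * q + (1 + (-1) ^ r) * (A - 1) + (-1) ^ r * (d - 1) * s' ∧
      (2 * N : ℂ) = d * d + (-1) ^ r * d ∧ N ≤ q + e * F + t * e * ((d - e + 1 - r) / 2) := by
    intro r hr
    have hc2 : ((-1 : ℂ) ^ r) * (-1) ^ r = 1 := by rw [← mul_pow]; simp
    have hχ2 := H6.isCharacter_character (Us O.subtype σ ((-1) ^ r)).toRepresentation
    choose b hb using fun i => H6.char_inner_nat hχ2 (irr_chr (D.ψ i))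
    choose q hq using mlt_nat L hχ2
    obtain ⟨F, hF'⟩ := Fn_nat π hχ2 (cm O.subtype (β i))
    obtain ⟨N, hN⟩ := H6.char_one_nat hχ2
    refine ⟨q 0, F, N, by rw [← hq, Z.mlt_Us hc2]; congr, by rw [← hq, ← hF', hA _ hc2],
      by rw [← hN, Z.Us_one hc2], ?_⟩
    have k1 := h.sum_b_le hk D hχ2 hF hb hF'
    have k2 := sum_mlt_nat hq hN
    have k3 := Z.plus_ineq hφs (by omega) h10 hP hs (Z.cc_sq.congr hγ) hr (hσ ▸ hb 1) (hq _)
    have k4 : ∑ j : (ZMod p)ˣ, q j ≤ ∑ j, (b j + (d - e + 1 - r) / 2) :=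
      Finset.sum_le_sum fun j _ => by
        have := h.eps_b D (H6.char_isClassFunction hχ2) (Z.cc_Us hc2) (h.theta_eq hk D hχ hc) j 1
        rw [hε, hb, hb, hq, hq] at this
        have h1 : ((b j + q (1 : (ZMod p)ˣ) : ℕ) : ℂ) = (b 1 + q j : ℕ) := by
          push_cast at this ⊢; linear_combination this
        rw [Nat.cast_inj] at h1
        omega
    rw [Finset.sum_add_distrib, Finset.sum_const, Finset.card_univ, ZMod.card_units, smul_eq_mul,
      show p - 1 = t * e by omega] at k4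
    rw [Z.he] at k1
    omega
  obtain ⟨q0, F0, N0, a1, a2, a3, a4⟩ := key 0 two_pos
  obtain ⟨q1, F1, N1, b1, b2, b3, b4⟩ := key 1 one_lt_two
  obtain ⟨c, hc'⟩ := hp.out.odd_of_ne_two (by omega)
  obtain ⟨x, hx⟩ : ∃ x, d = e + 2 * x + 1 := ⟨c - e, by omega⟩
  rw [show (d - e + 1 - 0) / 2 = x + 1 by omega] at a4
  rw [show (d - e + 1 - 1) / 2 = x by omega] at b4
  have hte : t * e = 2 * e + 2 * x := by omega
  rw [hte] at a4 b4
  have a3' : 2 * N0 = d * d + d := by
    have : ((2 * N0 : ℕ) : ℂ) = (d * d + d : ℕ) := by push_cast; linear_combination a3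
    exact_mod_cast this
  have b3' : 2 * N1 + d = d * d := by
    have : ((2 * N1 + d : ℕ) : ℂ) = (d * d : ℕ) := by push_cast; linear_combination b3
    exact_mod_cast this
  rcases hs' with ⟨h1, rfl⟩ | ⟨h1, rfl | ⟨rfl, rfl⟩⟩
  · rw [if_neg h1] at b1
    have c1 : 2 * q1 + e + 1 = d := by
      have : ((2 * q1 + e + 1 : ℕ) : ℂ) = d := by push_cast; linear_combination b1
      exact_mod_cast this
    have c2 : 2 * (e * F1) = 2 * q1 := by
      have : ((2 * (e * F1) : ℕ) : ℂ) = (2 * q1 : ℕ) := by push_cast; linear_combination b2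
      exact_mod_cast this
    obtain rfl : q1 = x := by omega
    subst hx
    have := Nat.mul_le_mul_right e (Nat.lt_succ_iff.1 hlt)
    nlinarith
  · rw [if_pos h1] at b1
    have c1 : 2 * q1 + 1 = d := by
      have : ((2 * q1 + 1 : ℕ) : ℂ) = d := by push_cast; linear_combination b1
      exact_mod_cast this
    have c2 : 2 * (e * F1) + d = 2 * q1 + 1 := by
      have : ((2 * (e * F1) + d : ℕ) : ℂ) = (2 * q1 + 1 : ℕ) := by push_cast; linear_combination b2
      exact_mod_cast this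
    subst hx
    nlinarith
  · rw [if_pos h1] at a1
    have c1 : 2 * q0 = d + 1 := by
      have : ((2 * q0 : ℕ) : ℂ) = (d + 1 : ℕ) := by push_cast; linear_combination a1
      exact_mod_cast this
    have c2 : 2 * (e * F0) + d + 1 = 2 * q0 := by
      have : ((2 * (e * F0) + d + 1 : ℕ) : ℂ) = (2 * q0 : ℕ) := by push_cast; linear_combination a2
      exact_mod_cast this
    subst hx
    nlinarith

end Zt

end H33.Bl
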