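import Mathlib
import Cfsg.Agent.Lib.Blau.Plus
import Cfsg.Agent.Lib.Blau.Alg2
import Cfsg.Agent.Lib.Char.Galois

/-! Faithful characters of degree below `p - 1` of groups with a Sylow subgroup of order `p`. -/

set_option autoImplicit false
set_option linter.unusedSectionVars false
set_option linter.style.haveILetI false

open Polynomial Module Cfsg H84 H17.Ord
open H88.Mod (Eig)
open H86 (Cen Nor)
open scoped ComplexConjugate MatrixGroups

namespace H33.Bl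

variable {G : Type*} [Group G] [Fintype G] {p : ℕ} [hp : Fact p.Prime] {P : Subgroup G}
  [Fintype P] {L : Log p P}

theorem pgl_of_small {k : Type*} [Field k] [CharP k p] [IsAlgClosed k] {u : G} (hu : orderOf u = p)
    (hsq : ¬ p ^ 2 ∣ Nat.card G) {e : ℕ} (he : 2 * e < p) {V : Type*} [AddCommGroup V] [Module k V]
    [FiniteDimensional k V] (ρ : Representation k G V) {m : ℕ} (hT : (ρ u - 1) ^ m = 0)
    (W : Subrepresentation ρ) (hW : finrank k W.toSubmodule ≤ e) {w : V} (hw : w ∈ W.toSubmodule)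
    (h : ρ u w ≠ w) : ∃ σ : G →* PGL(2, k), σ u ≠ 1 := by
  have hW' : (W.toRepresentation u - 1) ^ m = 0 := LinearMap.ext fun z => Subtype.ext
    ((map_pow_apply W.toSubmodule.subtype (A' := ρ u - 1) (map_sub_one _ fun _ => rfl) _ z).trans
      (by rw [hT]; rfl))
  exact exists_pgl' hu hsq he _ _ W.toRepresentation rfl (by omega) (LinearMap.ext fun z => by
    have k1 := End.ker_pow_le_ker_pow_finrank (W.toRepresentation u - 1) m
      (show z ∈ _ by rw [hW']; rfl)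
    rw [← End.ker_pow_eq_ker_pow_finrank_of_le hW] at k1
    exact k1) fun h10 => h (congrArg Subtype.val (LinearMap.congr_fun h10 ⟨w, hw⟩))

theorem Zt.two_main {u : G} {E : Subgroup G} {π : Nor P →* E} [Fintype E] {O : ValuationSubring ℂ}
    {k : Type*} [Field k] [CharP k p] [IsAlgClosed k] {h : Ctx L u E π} {φ : O →+* k} {n : Type*}
    [Fintype n] [DecidableEq n] {σ : G →* Matrix n n O} {μ : E →* Oˣ} {d e : ℕ}
    (Z : Zt h φ σ μ d e) (hn : ¬ P.Normal)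
    (hf : ∀ g, (mrep O.subtype σ).character g = (mrep O.subtype σ).character 1 → g = 1)
    (h2 : 2 * e + 1 = p) (h5 : 5 ≤ d) : Nonempty (G ⧸ Subgroup.center G ≃* PSL(2, ZMod p)) := by
  have hde := Z.de
  obtain ⟨ev, x, y, w0, hS⟩ := Z.sq
  obtain ⟨s, v, h1, h3, h4, h6, h7⟩ := hS.exists_small (p := p) Z.two_ne (by omega) h5
  set U := Us φ σ (-1)
  have hU : ∀ (j : ℕ) (z : U.toSubmodule), (((U.toRepresentation u - 1) ^ j) z : n × n → k) =
      ((mrep φ (sqm σ) u - 1) ^ j) z := fun j =>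
    map_pow_apply U.toSubmodule.subtype (map_sub_one _ fun _ => rfl) j
  have hT : (U.toRepresentation u - 1) ^ (p - 1) = 0 := LinearMap.ext fun z => Subtype.ext
    ((hU _ z).trans (hS.anti_top Z.two_ne (by omega)
      ((End.mem_eigenspace_iff.1 z.2).trans (neg_one_smul _ _))))
  obtain ⟨ι, _, β, hβ⟩ := exists_chars O h.comm
  obtain ⟨W, hW, h8, w, hw, h9⟩ := small_summand h.loc (Full.map hβ φ) U.toRepresentation hT h1
    (by omega) (v := ⟨v, End.mem_eigenspace_iff.2 (h4.trans (neg_one_smul _ _).symm)⟩)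
    (Subtype.ext ((hU _ _).trans h6)) fun ⟨z, hz⟩ =>
      h7 ⟨z, (hU _ z).symm.trans ((congrArg Subtype.val hz).trans (hU _ _))⟩
  obtain ⟨τ, hτ⟩ := pgl_of_small (ord_of L h.mem h.lu) (not_sq L) (e := e) (by omega) _ hT
    ⟨W, hW⟩ (by change finrank k W ≤ e; omega) hw h9
  obtain ⟨-, f, k1, k2, k3⟩ := pgl_case L (by omega) h.mem h.lu hn (Z.he ▸ Z.two)
    (H6.isCharacter_character _) hf Z.deg (by omega) τ hτ
  refine quot_equiv (by omega) f k1 fun z hz => ?_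
  have hc : z ∈ Cen P := (isCen_of_card L.card h.mem (ne_one_of L h.lu) z).2 (k3 z hz).symm
  refine h.reg z hc fun k4 => k2 ?_
  exact (eq_zpowers_of_card L.card (pPart_mem_of_mem_Cen L.card L.ind hc)
    ((H35.pPart_ne_one_iff p).2 k4)).le.trans (Subgroup.zpowers_le.2 (H35.pPart_mem p hz)) h.mem

theorem exists_constituent {χ : G → ℂ} (hχ : IsCharacter G χ) {m : ℕ} (hm : χ 1 = m)
    (h : ¬ p ∣ m) : ∃ ψ : IrrCharacter G, ¬ p ∣ dg ψ ∧ classInner χ ψ ≠ 0 := by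
  obtain ⟨a, rfl⟩ := H6.char_eq_sum_irr hχ
  by_contra! h1
  refine h ?_
  simp only [Finset.sum_apply, Pi.smul_apply, dg_cast, smul_eq_mul] at hm
  rw [← show ∑ ψ, a ψ * dg ψ = m by exact_mod_cast hm]
  refine Finset.dvd_sum fun ψ _ => ?_
  by_cases h2 : p ∣ dg ψ
  · exact h2.mul_left _
  · have := h1 ψ h2
    rw [H6.inner_sum_irr, Nat.cast_eq_zero] at this
    simp [this]

theorem Ctx.Cc.of_inner {u : G} {E : Subgroup G} {π : Nor P →* E} {h : Ctx L u E π} {χ : G → ℂ}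
    {γ : E →* ℂˣ} (hχ : h.Cc χ γ) {ψ : IrrCharacter G} (hψ : classInner χ ψ ≠ 0) :
    h.Cc ψ γ := fun z hz g => by
  obtain ⟨ω, hω⟩ := H87.exists_mul_of_mem_center ψ.2 (h.cen hz)
  have h1 := H6.classInner_comp_equiv (Equiv.mulLeft (z : G)) χ ψ
  simp only [Equiv.coe_mulLeft, hχ z hz, hω] at h1
  rw [show (fun x => (γ z : ℂ) * χ x) = (γ z : ℂ) • χ from rfl,
    show (fun x => ω * (ψ : G → ℂ) x) = ω • (ψ : G → ℂ) from rfl, H6.classInner_smul_left,
    H6.classInner_smul_right, ← mul_assoc, mul_left_eq_self₀, or_iff_left hψ] at h1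
  rw [hω, star_injective (mul_left_cancel₀ (Units.ne_zero _) (h1.trans (hom_mul_conj γ z).symm))]

theorem core (L : Log p P) (hp7 : 7 < p) (hn : ¬ P.Normal) {ζ : G → ℂ} (hζ : IsIrrCharacter G ζ)
    (hf : ∀ g, ζ g = ζ 1 → g = 1) {d : ℕ} (hd : ζ 1 = d) (hdp : d + 1 < p) {t e : ℕ}
    (he : (Cen P).relIndex (Nor P) = e) (ht : t * e + 1 = p) :
    (Nonempty (G ⧸ Subgroup.center G ≃* PSL(2, ZMod p)) ∧ (2 * d = p + 1 ∨ 2 * d + 1 = p) ∧
      t = 2) ∨ (d + e = p ∧ e + 3 ≤ t ∧ (Odd (Nat.card (Subgroup.center G)) → e = 2)) := by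
  classical
  have he0 := he ▸ e_pos L
  have ht2 : 2 * e + 1 = p → t = 2 := fun h => Nat.eq_of_mul_eq_mul_right he0 (by omega)
  have hA : ∀ (ζ : IrrCharacter G) (_ : ∀ g, (ζ : G → ℂ) g = (ζ : G → ℂ) 1 → g = 1)
      (_ : (ζ : G → ℂ) 1 = d), 2 * e + 1 ≤ p ∧ ((2 * e + 1 = p ∧ d = e) ∨
        ∃ B θ, ∃ (D : DefOne L B θ) (i : (ZMod p)ˣ), PKer P θ ∧ D.ψ i = ζ ∧ D.ε = -1 ∧ dg θ = 1 ∧
          d + e = p ∧ ∀ y ∈ Cen P, ¬ p ∣ orderOf y → y ∈ Subgroup.center G) := fun ζ hf hd => by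
    obtain ⟨h1, B, θ, D, i, hk, rfl, h2 | h2⟩ := struct L ζ hd hdp hf
    · have h3 := caseA L (by omega) hn h1 (D.ψ i).2 hf hd hdp i.ne_zero (psi_val D hk i)
        (by rw [hd, h2.1, h2.2]; push_cast; ring)
      rw [he] at h1 h2 h3
      refine ⟨h1, Or.inl ⟨h3, ?_⟩⟩
      have h4 := dg_pos θ
      have h5 : dg θ < 2 := Nat.lt_of_mul_lt_mul_left (a := e) (by omega)
      rw [h2.2, show dg θ = 1 by omega, mul_one]
    · exact he ▸ ⟨h1, Or.inr ⟨B, θ, D, i, hk, rfl, h2⟩⟩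
  obtain ⟨h1, ⟨h2, rfl⟩ | ⟨B, θ, D, i, hk, h2, hε, hθ, hde, hreg⟩⟩ := hA ⟨ζ, hζ⟩ hf hd
  · refine Or.inl ⟨(H88.Mod.brauer_small_char (L.card ▸ P.card_subgroup_dvd_card) (not_sq L)
      (fun H hH h3 => hn ?_) (H6.irr_isCharacter hζ) hf (by rw [H87.deg_of_eq hd]; omega)).2,
      Or.inr h2, ht2 h2⟩
    have h4 := (isPGroup_of_card h3).le_sylow_of_normal (L.pgrp.toSylow L.ind)
    rwa [← Subgroup.eq_of_le_of_card_ge (K := P) h4 (by rw [h3, L.card])]
  obtain ⟨u, E, π, h⟩ := exists_ctx L hreg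
  haveI := Fintype.ofFinite E
  obtain ⟨O, k, _, _, _, φ, hφs, hφ⟩ := exists_residue hp.out
  obtain ⟨n, σ, μ, rfl, Z⟩ := h.exists_zt hφs hφ hζ i.ne_zero (fun x hx h3 => by
    have := psi_val D hk i x hx h3
    rw [h2, hε, hθ] at this
    simpa using this) hd (he ▸ hde) (he ▸ h1)
  rw [he] at Z
  by_cases h3 : 2 * e + 1 = p
  · exact Or.inl ⟨Z.two_main hn hf h3 (by omega), Or.inl (by omega), ht2 h3⟩
  have h4 : e ≤ 2 → e + 3 ≤ t := fun h4 => by
    obtain rfl : e = 2 := by omega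
    have : p ≠ 9 := by rintro rfl; exact absurd hp.out (by norm_num)
    omega
  refine Or.inr ⟨hde, ?_, fun hZ => ?_⟩
  · obtain ⟨ψ, k1, k2⟩ := exists_constituent (p := p) (H6.isCharacter_character _) Z.sq_one
      fun k1 => by
        have := Nat.le_of_dvd (by omega) (or_self_iff.1 ((Nat.Prime.dvd_mul hp.out).1 k1))
        omega
    obtain ⟨B', θ', ⟨D'⟩, hk', hB⟩ := exists_defOne L ψ k1
    rcases D'.sign with k3 | k3
    · exact (Z.plus_main hφs hφ hn hf hk' D' k3 hB (Z.cc_sq.of_inner k2) ht).elim h4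
        fun k4 => k4.resolve_left h3
    · exact h4 ((Z.minus_main hφs hφ hk' D' k3 hB (Z.cc_sq.of_inner k2)).resolve_right h3)
  · haveI : NeZero (Nat.card G) := ⟨Nat.card_pos.ne'⟩
    obtain ⟨a, ha⟩ := ZMod.unitsMap_surjective (Subgroup.center G).card_subgroup_dvd_card
      (ZMod.unitOfCoprime 2 (Nat.coprime_two_left.2 hZ))
    have k1 := ZMod.val_coe_unit_coprime a
    have k2 : (a : ZMod (Nat.card G)).val ≡ 2 [MOD Nat.card (Subgroup.center G)] := by
      rw [← ZMod.natCast_eq_natCast_iff, ZMod.natCast_val]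
      exact congrArg Units.val ha
    generalize (a : ZMod (Nat.card G)).val = m at k1 k2
    obtain ⟨-, ⟨k3, -⟩ | ⟨B', θ', D', j, hk', k3, k4, -⟩⟩ := hA ⟨_, H8.isIrrCharacter_pow hζ k1⟩
      (fun g hg => orderOf_eq_one_iff.1 ((k1.symm.coprime_dvd_left (orderOf_dvd_natCard g)).eq_one_of_dvd
        (orderOf_dvd_of_pow_eq_one (hf _ (by simpa using hg))))) (by simpa using hd)
    · exact absurd k3 h3
    have k5 := (Z.minus_main hφs hφ hk' D' k4 (D'.ψ_mem j) fun z hz g => ?_).resolve_right h3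
    · omega
    have k6 : (z : G) ^ m = z * z := by
      rw [← pow_two, pow_eq_pow_iff_modEq]
      exact k2.of_dvd ((Subgroup.orderOf_mk _ (h.cen hz)).symm ▸ orderOf_dvd_natCard _)
    rw [k3]
    change (mrep O.subtype σ).character (_ ^ m) = _ * (mrep O.subtype σ).character (_ ^ m)
    rw [(show Commute (z : G) g from (Subgroup.mem_center_iff.1 (h.cen hz) g).symm).mul_pow, k6,
      mul_assoc, Z.cc z hz, Z.cc z hz, ← mul_assoc]
    simp [cm_apply]

end H33.Bl
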