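import Mathlib
import Cfsg.Agent.Lib.Blau.Fd
import Cfsg.Agent.Lib.Blau.Main
import Cfsg.Agent.Lib.BS.ClassMul

/-! Blocks of defect one: rationality, the relation given by involutions, kernels. -/

set_option autoImplicit false
set_option linter.unusedSectionVars false
set_option linter.style.haveILetI false

open Module Cfsg H84 H35L H17.Ord
open H86 (Cen Nor)
open scoped ComplexConjugate

namespace H33.Bl

theorem exists_lift {N n k : ℕ} (hN : N ≠ 0) (hn : n ≠ 0) (hk : k.Coprime n) :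
    ∃ m : ℕ, m.Coprime N ∧ m ≡ k [MOD n] := by
  haveI : NeZero (n * N) := ⟨mul_ne_zero hn hN⟩
  obtain ⟨a, ha⟩ := ZMod.unitsMap_surjective (dvd_mul_right n N) (ZMod.unitOfCoprime k hk)
  refine ⟨_, (ZMod.val_coe_unit_coprime a).coprime_dvd_right (dvd_mul_left N n), ?_⟩
  rw [← ZMod.natCast_eq_natCast_iff, ZMod.natCast_val]
  exact congrArg Units.val ha

theorem eq_zero_of_sq {s y : ℤ} {N : ℕ} (hN : ¬ IsSquare N) (h : s ^ 2 = N * y ^ 2) : y = 0 := by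
  by_contra hy
  have h0 : (y : ℚ) ≠ 0 := Int.cast_ne_zero.2 hy
  refine hN (Rat.isSquare_natCast_iff.1 ⟨s / y, ?_⟩)
  have : (s : ℚ) ^ 2 = N * y ^ 2 := by exact_mod_cast h
  field_simp
  linear_combination -this

variable {G : Type*} [Group G] [Fintype G] {p : ℕ}

theorem inner_congr {χ χ' f : G → ℂ} (h : ∀ g, p ∣ orderOf g → χ g = χ' g)
    (hf : ∀ g, ¬ p ∣ orderOf g → f g = 0) : classInner χ f = classInner χ' f := by
  unfold classInner
  congr 1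
  refine Finset.sum_congr rfl fun g _ => ?_
  by_cases hg : p ∣ orderOf g
  · rw [h g hg]
  · rw [hf g hg, map_zero, mul_zero, mul_zero]

theorem eq_of_sing {χ ψ ψ' : IrrCharacter G} (hne : ψ ≠ ψ')
    (hr : ∀ g, ¬ p ∣ orderOf g → (ψ : G → ℂ) g = (ψ' : G → ℂ) g)
    (hs : ∀ g, p ∣ orderOf g → (χ : G → ℂ) g = (ψ : G → ℂ) g) : χ = ψ := by
  classical
  have h := inner_congr (f := (ψ : G → ℂ) - (ψ' : G → ℂ)) hs fun g hg => sub_eq_zero.2 (hr g hg)
  simp only [H6.classInner_sub_right, H6.irr_inner', if_neg hne, if_true] at h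
  by_contra h1
  rw [if_neg h1] at h
  split_ifs at h <;> norm_num at h

theorem pow_of_sing {ψ ψ' : IrrCharacter G} (hne : ψ ≠ ψ')
    (hr : ∀ g, ¬ p ∣ orderOf g → (ψ : G → ℂ) g = (ψ' : G → ℂ) g) {n : ℕ} (hn : n ≠ 0)
    (hs : ∀ g : G, p ∣ orderOf g → g ^ n = 1) {y : G} (hy : n.Coprime (orderOf y)) (m : ℕ)
    (hm : m.Coprime (orderOf y)) : (ψ : G → ℂ) (y ^ m) = (ψ : G → ℂ) y := by
  obtain ⟨k, h1, h2⟩ := Nat.chineseRemainder hy 1 m
  obtain ⟨m', h3, h4⟩ := exists_lift (Nat.card_pos (α := G)).ne' (mul_ne_zero hn (orderOf_pos y).ne')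
    (k := k) (Nat.Coprime.mul_right (by rw [Nat.Coprime, h1.gcd_eq]; simp)
      (by rw [Nat.Coprime, h2.gcd_eq]; exact hm))
  have h5 := eq_of_sing (χ := ⟨_, H8.isIrrCharacter_pow ψ.2 h3⟩) hne hr fun g hg => by
    change (ψ : G → ℂ) (g ^ m') = _
    rw [pow_eq_pow_iff_modEq.2 (((h4.of_mul_right _).trans h1).of_dvd
      (orderOf_dvd_of_pow_eq_one (hs g hg))), pow_one]
  rw [← pow_eq_pow_iff_modEq.2 ((h4.of_mul_left _).trans h2)]
  exact congrFun (congrArg Subtype.val h5) y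

theorem int_of_sq {χ : G → ℂ} (hχ : IsCharacter G χ) {g : G} (h : χ (g * g) = χ 1) :
    ∃ z : ℤ, χ g = z := by
  have h1 : ∀ k : ℕ, χ (g ^ (2 * k + 1)) = χ g ∧ χ (g ^ (2 * k)) = χ 1 := fun k => by
    induction k with
    | zero => simp
    | succ k ih =>
      rw [← ih.1, ← ih.2, ← H6.char_mul_of_eq_one hχ h (g ^ (2 * k + 1)),
        ← H6.char_mul_of_eq_one hχ h (g ^ (2 * k))]
      constructor <;> congr 1 <;> group
  by_cases h2 : 2 ∣ orderOf g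
  · refine H8.exists_int_of_forall_pow_eq (H6.char_isGen hχ) g fun m hm => ?_
    obtain ⟨k, rfl⟩ := (hm.coprime_dvd_right h2).odd_of_right
    exact (h1 k).1
  · obtain ⟨k, hk⟩ := Nat.two_dvd_ne_zero.1 h2 |> Nat.odd_iff.2
    obtain ⟨n, hn⟩ := H6.char_one_nat hχ
    exact ⟨n, by rw [← (h1 k).1, ← hk, pow_orderOf_eq_one, hn, Int.cast_natCast]⟩

variable [hp : Fact p.Prime] {P : Subgroup G} {L : Log p P}

theorem le_center (L : Log p P) {ζ : G → ℂ} (hζ : IsCharacter G ζ) (hf : ∀ g, ζ g = ζ 1 → g = 1)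
    {d : ℕ} (hd : ζ 1 = d) (hdp : d + 1 < p)
    (hreg : ∀ y ∈ Cen P, ¬ p ∣ orderOf y → y ∈ Subgroup.center G) (K : Subgroup G) [K.Normal]
    (hK : ¬ P ≤ K) : K ≤ Subgroup.center G := fun y hy => by
  obtain ⟨u, hu, hu1, hu2⟩ := exists_gen L
  refine hreg y ((isCen_of_card L.card hu hu2 y).2 (commute_of_ito hζ hf hd hdp (ord_of L hu hu1)
    (not_sq L) K (fun h => hK ((eq_zp L hu hu1).le.trans (Subgroup.zpowers_le.2 h))) y hy).symm)
    fun h => hK (le_of_dvd_card L.card L.ind (h.trans (K.orderOf_dvd_natCard hy)))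

theorem neg_one_mem {c : G} (hs : p ∣ orderOf c) (h : IsConj c c⁻¹) : -1 ∈ L.r.range := by
  obtain ⟨a, ha⟩ := exists_conj_mem_Cen_of_sing L.card L.ind hs
  obtain ⟨b, hb⟩ := isConj_iff.1 h
  have h1 : p ∣ orderOf (a * c * a⁻¹) := by rwa [H35.orderOf_conj]
  have h2 : a * b * a⁻¹ * (a * c * a⁻¹) * (a * b * a⁻¹)⁻¹ = (a * c * a⁻¹)⁻¹ := by
    rw [conj_inv (a := c), ← hb]; group
  have h3 := mem_Nor_of_sing L.card L.ind ha h1 (h2 ▸ inv_mem ha)
  have h4 := L.l_conj ⟨_, h3⟩ _ ha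
  have h5 := L.l_mul _ ha _ (inv_mem ha)
  rw [mul_inv_cancel, L.l_one] at h5
  refine ⟨⟨_, h3⟩, Units.ext (mul_right_cancel₀ (L.l_ne_zero ha h1) ?_)⟩
  rw [← h4, h2, Units.val_neg, Units.val_one]
  linear_combination -h5

variable {B : Set (IrrCharacter G)} {θ : IrrCharacter (Cen P)} (D : DefOne L B θ)

theorem inner_phi' (χ : G → ℂ) (i : (ZMod p)ˣ) : classInner χ (L.phi θ i) =
    D.ε * classInner χ (D.ψ i) - ∑ φ ∈ D.X, D.εX φ * classInner χ φ := by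
  have : L.phi θ i = (D.ε : ℂ) • (D.ψ i : G → ℂ) - ∑ φ ∈ D.X, (D.εX φ : ℂ) • (φ : G → ℂ) :=
    funext fun g => by simp [D.phi_eq]
  simp only [this, H6.classInner_sub_right, H6.classInner_sum_right, H6.classInner_smul_right,
    map_intCast]

/-- The relation given by an element whose square is central. -/
theorem inv_rel (h1 : -1 ∉ L.r.range) {g : G} (hg : g * g ∈ Subgroup.center G) (i : (ZMod p)ˣ) :
    D.ε * ((D.ψ i : G → ℂ) g * (D.ψ i : G → ℂ) g⁻¹ / dg (D.ψ i)) =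
      ∑ φ ∈ D.X, D.εX φ * ((φ : G → ℂ) g * (φ : G → ℂ) g⁻¹ / dg φ) := by
  have h2 : ∑ c, (H31.classCoeff g g⁻¹ c : ℂ) * L.phi θ i c = 0 := Finset.sum_eq_zero fun c _ => by
    by_cases hc : p ∣ orderOf c
    · refine mul_eq_zero_of_left (Nat.cast_eq_zero.2 (Nat.card_eq_zero.2 (Or.inl ⟨?_⟩))) _
      rintro ⟨⟨a, b⟩, ha, hb, e⟩
      refine h1 ?_
      obtain ⟨s, hs⟩ := isConj_iff.1 ha
      obtain ⟨t, ht⟩ := isConj_iff.1 hb
      rw [← hs, ← ht] at e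
      refine neg_one_mem hc (isConj_iff.2 ⟨(s * g * s⁻¹)⁻¹, ?_⟩)
      have k1 := Subgroup.mem_center_iff.1 hg
      rw [← e, eq_inv_iff_mul_eq_one]
      calc _ = t * g⁻¹ * t⁻¹ * (s * (g * g) * s⁻¹) * (t * g⁻¹ * t⁻¹) := by simp [mul_assoc]
        _ = 1 := by rw [k1 s, mul_inv_cancel_right, mul_assoc (t * g⁻¹), k1 t⁻¹]; group
    · rw [L.phi_of_reg θ _ hc, mul_zero]
  simp only [D.phi_eq, mul_sub, Finset.sum_sub_distrib, Finset.mul_sum] at h2
  rw [Finset.sum_comm, sub_eq_zero] at h2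
  simp only [mul_left_comm _ ((_ : ℤ) : ℂ), ← Finset.mul_sum,
    H31.sum_classCoeff_mul_irr (Subtype.property _), dg_cast] at h2
  refine mul_left_cancel₀ (mul_ne_zero (Nat.cast_ne_zero.2 Subgroup.index_ne_zero_of_finite)
    (Nat.cast_ne_zero.2 Subgroup.index_ne_zero_of_finite)) ((mul_left_comm _ _ _).trans
      (h2.trans ?_))
  rw [Finset.mul_sum]
  exact Finset.sum_congr rfl fun φ _ => mul_left_comm _ _ _

variable [Fintype P]

theorem mlt_two {χ : G → ℂ} {c c' : ℂ} {i i' : ZMod p} (hi : i ≠ 0) (hi' : i' ≠ 0)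
    (h : ∀ x ∈ P, x ≠ 1 → χ x = c * L.eta (i * L.l x) + c' * L.eta (i' * L.l x)) (j : ZMod p) :
    p * mlt L χ j = χ 1 - (c + c') * (Cen P).relIndex (Nor P) + (if j ∈ orb L i then c * p else 0) +
      if j ∈ orb L i' then c' * p else 0 := by
  have h1 := mlt_eta L (χ := fun g => χ g - c' * L.eta (i' * L.l g)) hi (c := c)
    (fun x hx h1 => by rw [h x hx h1, add_sub_cancel_right]) j
  have h2 := mlt_eta L (χ := fun g => c' * L.eta (i' * L.l g)) hi' (fun _ _ _ => rfl) j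
  simp only [mul_mlt, sub_mul, Finset.sum_sub_distrib, L.l_one, mul_zero, L.eta_zero] at h1 h2 ⊢
  linear_combination h1 + h2

namespace Ctx

variable {u : G} {E : Subgroup G} {π : Nor P →* E} (h : Ctx L u E π) (hk : PKer P θ)
include h hk

theorem card_X : D.X.card = (Cen P).relIndex (Nor P) := by
  rw [D.card_X, h.H_eq hk, L.card_range_r]

theorem X_val {χ : IrrCharacter G} (hχ : χ ∈ D.X) {x : G} (hx : x ∈ P) (h1 : x ≠ 1) :
    (χ : G → ℂ) x = D.εX χ := by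
  have h2 := L.relIndex_Nor θ
  rw [h.H_eq hk, L.card_range_r] at h2
  rw [D.X_of_mem hk hχ hx h1, h.theta_one, (Nat.eq_of_mul_eq_mul_left (e_pos L)
    (h2.symm.trans (mul_one _).symm) : (inert θ).index = 1)]
  simp

theorem X_sing {χ : IrrCharacter G} (hχ : χ ∈ D.X) (hc : h.Cc χ 1) {g : G} (hg : p ∣ orderOf g) :
    (χ : G → ℂ) g = D.εX χ := by
  obtain ⟨a, ha⟩ := exists_conj_mem_Cen_of_sing L.card L.ind hg
  obtain ⟨x, hx, h1, h2⟩ := h.pc_spec ⟨_, ha⟩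
  rw [← irr_class χ g a, show a * g * a⁻¹ = _ from h2, hc _ (h.a_pc _), h.X_val D hk hχ hx fun h3 =>
    L.l_ne_zero ha (by rwa [H35.orderOf_conj]) (by rw [← h1, h3, L.l_one])]
  simp

theorem exists_Fn [Fintype E] [Fintype (Nor P)] (h0 : mlt L (D.ψ 1) 0 ≠ 0) :
    ∃ γ : E →* ℂˣ, h.Cc (D.ψ 1) γ ∧ ∀ j, Fn π (D.ψ j) γ ≠ 0 := by
  have hp0 : (p : ℂ) ≠ 0 := Nat.cast_ne_zero.2 hp.out.ne_zero
  obtain ⟨n, ρ, -, hρ⟩ := (D.ψ 1).2
  obtain ⟨ι, _, β, hβ⟩ := exists_chars ⊤ h.comm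
  obtain ⟨i, w, hw1, hw2, hw3⟩ := (Full.map hβ (⊤ : ValuationSubring ℂ).subtype).exists_eig
    H6.card_ne_zero (τ := ρ.comp E.subtype) (U := Ei L ρ 0) (W := ⊥)
    (fun y x hx => by
      have h1 := pr_rho L ρ (h.ι y) 0 x
      rw [zero_mul, pr_of_mem L _ hx, if_pos rfl, map_smul] at h1
      exact (Submodule.smul_mem_iff _ hp0).1 (h1 ▸ pr_mem L _ 0 _))
    fun h1 => by
      have h2 := finrank_Ei L ρ 0
      rw [le_bot_iff.1 h1, finrank_bot, hρ, Nat.cast_zero] at h2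
      exact h0 h2.symm
  have hc := hρ ▸ h.Cc_of_eig (hρ ▸ (D.ψ 1).2) hw3 hw2
  refine ⟨_, hc, fun j => ?_⟩
  rw [← h.Fn_psi_eq hk D 1 j hc, ← hρ]
  refine Ctx.Fn_ne_zero _ (h.pr_zero_eig _ hw2) ?_
  rw [pr_of_mem L _ hw1, if_pos rfl]
  exact smul_ne_zero hp0 hw3

omit hk in
theorem pow_sing {n : ℕ} (hn : ∀ z ∈ Subgroup.center G, z ^ n = 1) {g : G} (hg : p ∣ orderOf g) :
    g ^ (p * n) = 1 := by
  obtain ⟨a, ha⟩ := exists_conj_mem_Cen_of_sing L.card L.ind hg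
  obtain ⟨x, hx, -, h2⟩ := h.pc_spec ⟨_, ha⟩
  have h3 := h.cen (h.a_pc ⟨_, ha⟩)
  have h4 : (a * g * a⁻¹) ^ (p * n) = 1 := by
    rw [show a * g * a⁻¹ = _ from h2, (show Commute _ x from (Subgroup.mem_center_iff.1 h3 x).symm).mul_pow,
      pow_mul', hn _ h3, one_pow, one_mul, pow_mul, ← L.card]
    exact (congrArg (· ^ n) (congrArg Subtype.val (pow_card_eq_one' (x := (⟨x, hx⟩ : P))))).trans
      (one_pow n)
  rwa [conj_pow, conj_eq_one_iff] at h4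

end Ctx

end H33.Bl
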