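import Mathlib
import Cfsg.Agent.Lib.Blau.Na

/-! The principal `19`-block of a linear group of degree `16`. -/

set_option autoImplicit false
set_option linter.unusedSectionVars false
set_option linter.style.haveILetI false

open Module Cfsg H84 H35L H17.Ord
open H86 (Cen Nor)
open scoped ComplexConjugate

namespace H33.Bl

section
variable {G : Type*} [Group G] [Fintype G] {p : ℕ} [hp : Fact p.Prime] {P : Subgroup G}
  [Fintype P] {L : Log p P} {u : G} {E : Subgroup G} {π : Nor P →* E}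

theorem big_of_ker (hn : ¬ PCl p G) {χ : G → ℂ} (hχ : IsCharacter G χ)
    (hk : ∀ g, χ g = χ 1 → g ∈ Subgroup.center G) {m : ℕ} (hm : χ 1 = m) : p ≤ 2 * m + 1 := by
  obtain ⟨φ, h1, h2, h3⟩ := exists_quot hχ
  exact le_of_not_gt fun h4 => hn (pcl_of_central _ (fun g hg => hk g ((H6.mem_charKer hχ).1 hg))
    (pcl_small h1 h2 ((h3 1).trans hm) h4))

omit [Fintype G] in
theorem eq_triv (hG : commutator G = ⊤) {χ : IrrCharacter G} (h : dg χ = 1) : χ = triv G := by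
  obtain ⟨l, hl⟩ := H6.exists_hom_of_char_one_eq_one (irr_chr χ) (by rw [dg_cast, h, Nat.cast_one])
  refine Subtype.ext (funext fun g => ?_)
  rw [hl]
  exact congrArg Units.val (Abelianization.commutator_subset_ker l (hG ▸ Subgroup.mem_top g))

theorem Ctx.Cc.center {h : Ctx L u E π} {χ : G → ℂ} (hc : h.Cc χ 1) {z : G}
    (hz : z ∈ Subgroup.center G) (hr : ¬ p ∣ orderOf z) : χ z = χ 1 := by
  have hz' : z ∈ Cen P := Subgroup.center_le_centralizer _ hz
  obtain ⟨x, hx, h1, h2⟩ := h.pc_spec ⟨z, hz'⟩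
  obtain rfl := (l_eq_zero L hx).1 (h1.trans ((L.l_eq_zero z hz').2 hr))
  rw [show z = _ from h2, hc _ (h.a_pc _)]
  simp

theorem Ctx.not_le_ker (h : Ctx L u E π) {B : Set (IrrCharacter G)} {θ : IrrCharacter (Cen P)}
    (hk : PKer P θ) (D : DefOne L B θ) (he : (Cen P).relIndex (Nor P) + 1 < p) (j : (ZMod p)ˣ) :
    ¬ P ≤ H6.charKer (D.ψ j) := fun h1 => by
  have h2 := mlt_eta L j.ne_zero (h.psi_val' hk D j) 0
  rw [if_neg (zero_notMem_orb L j.ne_zero), mul_mlt, Finset.sum_congr rfl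
    (g := fun _ => (dg (D.ψ j) : ℂ)) fun x _ => by rw [(H6.mem_charKer (irr_chr _)).1 (h1 x.2), dg_cast]; simp,
    Finset.sum_const, Finset.card_univ, ← Nat.card_eq_fintype_card, L.card, dg_cast] at h2
  have h3 : (p : ℤ) * dg (D.ψ j) = dg (D.ψ j) - D.ε * (Cen P).relIndex (Nor P) := by
    rw [nsmul_eq_mul, add_zero] at h2
    exact_mod_cast h2
  have h4 := dg_pos (D.ψ j)
  rcases D.sign with h5 | h5 <;> rw [h5] at h3 <;> nlinarith

end

instance fact19 : Fact (Nat.Prime 19) := ⟨by norm_num⟩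

variable {G : Type*} [Group G] [Fintype G] {P : Subgroup G}
  [Fintype P] {L : Log 19 P} {u : G} {E : Subgroup G} {π : Nor P →* E}
  (he : (Cen P).relIndex (Nor P) = 3)
include he

theorem cube {a : (ZMod 19)ˣ} (ha : a ∈ L.r.range) : (a : ZMod 19) ^ 3 = 1 := by
  have := pow_card_eq_one' (x := (⟨a, ha⟩ : L.r.range))
  rw [L.card_range_r, he] at this
  exact congrArg (fun x : L.r.range => ((x : (ZMod 19)ˣ) : ZMod 19)) this

theorem neg_one_notMem : -1 ∉ L.r.range := fun h => absurd (cube he h) (by decide)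

theorem eta19 (a : ZMod 19) : L.eta a = eps 19 a + eps 19 (7 * a) + eps 19 (11 * a) := by
  have h1 : ∀ x : ZMod 19, x ^ 3 = 1 → x ∈ ({1, 7, 11} : Finset (ZMod 19)) := by decide
  have h2 : L.Hs.map ⟨Units.val, Units.val_injective⟩ = {1, 7, 11} :=
    Finset.eq_of_subset_of_card_le (fun x hx => by
      obtain ⟨y, hy, rfl⟩ := Finset.mem_map.1 hx
      exact h1 _ (cube he (L.mem_Hs.1 hy))) (by rw [Finset.card_map, L.card_Hs, he]; decide)
  have h3 := Finset.sum_map L.Hs ⟨Units.val, Units.val_injective⟩ fun x => eps 19 (x * a)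
  rw [h2, Finset.sum_insert (by decide), Finset.sum_pair (by decide), one_mul, ← add_assoc] at h3
  exact h3.symm

theorem eta_sq (a : ZMod 19) : L.eta a * L.eta a = 1 * L.eta (2 * a) + 2 * L.eta (-a) := by
  have h : (19 : ZMod 19) = 0 := by decide
  simp only [eta19 he]
  rw [show 2 * a = a + a by ring, show 7 * (a + a) = 7 * a + 7 * a by ring,
    show 11 * (a + a) = 11 * a + 11 * a by ring,
    show 7 * -a = a + 11 * a by linear_combination -a * h,
    show 11 * -a = a + 7 * a by linear_combination -a * h,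
    show -a = 7 * a + 11 * a by linear_combination -a * h]
  simp only [eps_add]
  ring

variable (h : Ctx L u E π) {B : Set (IrrCharacter G)} {θ : IrrCharacter (Cen P)} (hk : PKer P θ)
  (D : DefOne L B θ)
include h hk

theorem exists_xi (hε : D.ε = -1) (i : (ZMod 19)ˣ) (hd : (D.ψ i : G → ℂ) 1 = (16 : ℕ)) :
    ∃ (Ξ Ξ0 : G → ℂ) (j : (ZMod 19)ˣ), IsCharacter G Ξ ∧ IsCharacter G Ξ0 ∧ h.Cc Ξ 1 ∧
      Ξ 1 = (256 : ℕ) ∧ mlt L Ξ 0 = 13 ∧ mlt L Ξ j = 15 ∧ (∀ n : Nor P, L.r n ≠ 1 → Ξ n = 1) ∧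
      classInner Ξ (triv G) = 0 ∧ classInner Ξ0 (triv G) = 1 ∧
      ∀ g, ¬ 19 ∣ orderOf g → Ξ0 g = Ξ g := by
  haveI := Fintype.ofFinite E
  obtain ⟨O, k, _, _, _, φ, hφs, hφ⟩ := exists_residue fact19.out
  obtain ⟨n, σ, μ, hσ, Z⟩ := h.exists_zt hφs hφ (D.ψ i).2 i.ne_zero (fun x hx h3 => by
    rw [h.psi_val' hk D i x hx h3, hε]; simp) hd (by rw [he]) (by rw [he]; norm_num)
  have c1 := hσ ▸ Z.cc
  have c2 := h.Cc_of_mem hk D (D.ψ_mem i) (D.ψ_mem (-i)) c1
  have h1 : (D.ψ i : G → ℂ) 1 * conj ((D.ψ (-i) : G → ℂ) 1) = (256 : ℕ) := by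
    rw [D.reg_eq (-i) i PB.reg_one, hd, map_natCast]; norm_num
  have h2 := mlt_two (L := L) (χ := fun g => (D.ψ i : G → ℂ) g * conj ((D.ψ (-i) : G → ℂ) g))
    (c := 1) (c' := 2) (mul_ne_zero (by decide : (2 : ZMod 19) ≠ 0) i.ne_zero)
    (neg_ne_zero.2 i.ne_zero) fun x hx h3 => by
      rw [h.psi_val' hk D _ x hx h3, h.psi_val' hk D _ x hx h3, hε, map_mul, L.conj_eta,
        Units.val_neg, neg_mul, neg_neg, mul_assoc 2, ← eta_sq he]
      simp
  have h3 : ∀ φ ψ : G → ℂ, classInner (fun g => φ g * conj (ψ g)) (triv G) = classInner φ ψ :=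
    fun φ ψ => by simp [classInner, triv_apply]
  have h19 : ((19 : ℕ) : ℂ) ≠ 0 := by norm_num
  refine ⟨_, fun g => (D.ψ i : G → ℂ) g * conj ((D.ψ i : G → ℂ) g), -i,
    H6.isCharacter_mul (irr_chr (D.ψ i)) (H6.isCharacter_conj (irr_chr (D.ψ (-i)))),
    H6.isCharacter_mul (irr_chr _) (H6.isCharacter_conj (irr_chr _)), fun z hz g => ?_, h1,
    mul_left_cancel₀ h19 ((h2 0).trans ?_), mul_left_cancel₀ h19 ((h2 _).trans ?_), fun n hn => ?_,
    (h3 _ _).trans (H6.irr_inner_ne (D.ψ i).2 (D.ψ _).2 fun e => neg_one_notMem (L := L) he ?_),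
    (h3 _ _).trans (H6.irr_inner_self (D.ψ i).2), fun g hg => ?_⟩
  · simp only [Pi.mul_apply, c1 z hz g, c2 z hz g, map_mul, MonoidHom.one_apply, Units.val_one]
    linear_combination (D.ψ i : G → ℂ) g * conj ((D.ψ (-i) : G → ℂ) g) *
      hom_mul_conj (cm O.subtype μ) z
  · rw [if_neg (zero_notMem_orb L (mul_ne_zero (by decide) i.ne_zero)),
      if_neg (zero_notMem_orb L (neg_ne_zero.2 i.ne_zero)), h1, he]
    norm_num
  · rw [if_neg, if_pos (Units.val_neg i ▸ self_mem_orb L _), h1, he]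
    · norm_num
    · intro h4
      obtain ⟨m, hm⟩ := (mem_orb L).1 h4
      have h5 : ∀ x : ZMod 19, x ^ 3 = 1 → 2 * x ≠ -1 := by decide
      refine h5 _ (cube (L := L) he ⟨m, rfl⟩) (mul_left_cancel₀ i.ne_zero ?_)
      rw [Units.val_neg] at hm
      linear_combination hm
  · rw [Pi.mul_apply, h.cf_pi (irr_class (D.ψ (-i))) hn, D.reg_eq (-i) i (h.reg_E _),
      ← h.cf_pi (irr_class _) hn, ← hσ, Z.nc n hn, hom_mul_conj]
  · simpa [h.H_eq hk] using (D.eq_iff _ _).1 (Subtype.ext e)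
  · rw [Pi.mul_apply, D.reg_eq (-i) i hg]

theorem triv_mem (ht : triv G ∈ B) : triv G ∈ D.X ∧ D.εX (triv G) = 1 := by
  obtain h1 | ⟨i, hi⟩ := (D.mem_iff _).1 ht
  · have := h.X_val D hk h1 h.mem (ne_one_of L h.lu)
    rw [triv_apply] at this
    exact ⟨h1, by exact_mod_cast this.symm⟩
  · exact absurd (fun x _ => (H6.mem_charKer (irr_chr _)).2 (by rw [hi]; rfl))
      (h.not_le_ker hk D (by omega) i)

theorem b0_num (ht : triv G ∈ B) (h0 : mlt L (D.ψ 1) 0 ≠ 0) {Ξ Ξ0 : G → ℂ} {j : (ZMod 19)ˣ}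
    (c1 : IsCharacter G Ξ) (c2 : IsCharacter G Ξ0) (c3 : h.Cc Ξ 1) (c4 : Ξ 1 = (256 : ℕ))
    (c5 : mlt L Ξ 0 = 13) (c6 : mlt L Ξ j = 15) (c7 : ∀ n : Nor P, L.r n ≠ 1 → Ξ n = 1)
    (c8 : classInner Ξ (triv G) = 0) (c9 : classInner Ξ0 (triv G) = 1)
    (c10 : ∀ g, ¬ 19 ∣ orderOf g → Ξ0 g = Ξ g) :
    D.ε = 1 ∧ ∃ a : IrrCharacter G → ℕ, ∑ χ ∈ D.X, D.εX χ * a χ = 0 ∧ a (triv G) = 0 ∧
      (∀ χ ∈ D.X, D.εX χ = -1 → 1 ≤ a χ) ∧ 2 * dg (D.ψ 1) + ∑ χ ∈ D.X, a χ * dg χ ≤ 256 := by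
  classical
  haveI := Fintype.ofFinite E
  haveI := Fintype.ofFinite (Nor P)
  have t1 : h.Cc (triv G) 1 := fun z _ g => by simp [triv_apply]
  have t2 := fun χ hχ => h.Cc_of_mem hk D (χ' := χ) ht hχ t1
  obtain ⟨γ, g1, g2⟩ := h.exists_Fn D hk h0
  have g3 : ∀ z, h.a z = 1 → (1 : E →* ℂˣ) z = γ z := fun z hz => Units.ext
    (mul_right_cancel₀ (H6.irr_one_ne_zero (D.ψ 1).2)
      ((t2 _ (D.ψ_mem 1) z hz 1).symm.trans (g1 z hz 1)))
  obtain ⟨a, ha⟩ := H6.char_eq_sum_irr c1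
  have a1 : ∀ χ : IrrCharacter G, classInner Ξ χ = a χ := fun χ => by rw [ha, H6.inner_sum_irr]
  choose r hr using mlt_nat L c1
  obtain ⟨F, hF⟩ := Fn_nat π c1 γ
  have k1 := h.sum_b_le hk D c1 g2 (fun i => a1 _) hF
  have k2 := sum_mlt_nat hr c4
  have k3 := h.Fn_eq (c3.congr g3)
  rw [hF, c5, Finset.sum_congr rfl (g := fun m => if L.r m = 1 then 0 else
    (((1 / γ).comp π m : ℂˣ) : ℂ)) fun m _ => ?_, sum_lam, Log.card_Nor, he] at k3
  rotate_left
  · intro m hm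
    rw [MonoidHom.comp_apply, MonoidHom.div_apply, g3 _ ((h.a_pi m).trans hm), div_self']
  · split_ifs with hm
    · rfl
    · rw [c7 m hm, MonoidHom.comp_apply, ← mul_conj_eq]; rfl
  have k4 : F ≤ 5 := by
    have hC := H6.card_ne_zero (G := Cen P)
    split_ifs at k3
    · have : ((3 * F : ℕ) : ℂ) = (15 : ℕ) :=
        mul_left_cancel₀ hC (by push_cast at k3 ⊢; linear_combination k3)
      rw [Nat.cast_inj] at this; omega
    · have : ((3 * F : ℕ) : ℂ) = (12 : ℕ) :=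
        mul_left_cancel₀ hC (by push_cast at k3 ⊢; linear_combination k3)
      rw [Nat.cast_inj] at this; omega
  set s := ∑ χ ∈ D.X, D.εX χ * a χ with hs
  have k5 : ∀ i : (ZMod 19)ˣ, D.ε * a (D.ψ i) - s = r i - 13 := fun i => by
    have := h.inner_phi (H6.char_isClassFunction c1) c3 (h.theta_eq hk D ht t1) i
    simp only [inner_phi' D, a1, hr i, c5] at this
    rw [hs]
    exact_mod_cast this
  have k6 : D.ε * (∑ i, a (D.ψ i) : ℕ) - 18 * s = (∑ i : (ZMod 19)ˣ, r i : ℕ) - 18 * 13 := by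
    have := Finset.sum_congr rfl fun i (_ : i ∈ Finset.univ) => k5 i
    simp only [Finset.sum_sub_distrib, Finset.sum_const, Finset.card_univ, ZMod.card_units,
      ← Finset.mul_sum] at this
    push_cast
    simpa using this
  have k7 : r 0 = 13 := by exact_mod_cast (hr 0).symm.trans c5
  have k8 : r j = 15 := by exact_mod_cast (hr j).symm.trans c6
  have k9 := k5 j
  rw [he] at k1
  obtain hε | hε := D.sign
  swap
  · rw [hε] at k6 k9; omega
  rw [hε] at k6 k9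
  refine ⟨hε, a, by omega, by exact_mod_cast (a1 _).symm.trans c8, fun χ hχ h1 => ?_, ?_⟩
  · obtain ⟨b, hb⟩ := H6.char_inner_nat c2 (irr_chr χ)
    have h2 := inner_congr (p := 19) (χ := χ) (χ' := (-1 : ℂ) • (triv G : G → ℂ)) (f := Ξ0 - Ξ)
      (fun g hg => by rw [h.X_sing D hk hχ (t2 _ (D.mem_of_mem_X hχ)) hg, h1]; simp [triv_apply])
      fun g hg => sub_eq_zero.2 (c10 g hg)
    rw [H6.classInner_smul_left, H6.classInner_sub_right, H6.classInner_sub_right,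
      H6.char_inner_comm (irr_chr _) c2, H6.char_inner_comm (irr_chr _) c2,
      H6.char_inner_comm (irr_chr _) c1, H6.char_inner_comm (irr_chr _) c1, hb, a1, c8, c9] at h2
    have : (a χ : ℂ) = (b + 1 : ℕ) := by push_cast; linear_combination -h2
    rw [Nat.cast_inj] at this
    omega
  · have h1 : ∑ χ, a χ * dg χ = 256 := by
      rw [ha] at c4
      simp only [Finset.sum_apply, Pi.smul_apply, dg_cast, smul_eq_mul] at c4
      exact_mod_cast c4
    have h2 := Finset.sum_le_sum_of_subset (f := fun χ => a χ * dg χ)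
      (Finset.subset_univ (insert (D.ψ j) D.X))
    have h3 : dg (D.ψ j) = dg (D.ψ 1) := by
      exact_mod_cast (dg_cast _).symm.trans ((D.reg_eq j 1 PB.reg_one).trans (dg_cast _))
    rw [Finset.sum_insert (D.not_mem j), h1, h3, show a (D.ψ j) = 2 by omega] at h2
    exact h2

end H33.Bl
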