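import Mathlib
import Cfsg.Agent.Lib.Blau.Nb

/-! The exceptional characters in the principal `19`-block have degree `22`. -/

set_option autoImplicit false
set_option linter.unusedSectionVars false
set_option linter.style.haveILetI false

open Module Cfsg H84 H35L H17.Ord
open H86 (Cen Nor)
open scoped ComplexConjugate

namespace H33.Bl

theorem arith_pp {x A B : ℕ} {u a b : ℤ} (hA : 0 < A) (hB : 0 < B) (h1 : (x : ℤ) = 1 + A + B)
    (h2 : u = 1 + a + b) (h3 : (u : ℂ) * u / x = 1 + a * a / A + b * b / B) : a = A := by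
  have x0 : (x : ℂ) ≠ 0 := Nat.cast_ne_zero.2 (by omega)
  have A0 : (A : ℂ) ≠ 0 := Nat.cast_ne_zero.2 hA.ne'
  have B0 : (B : ℂ) ≠ 0 := Nat.cast_ne_zero.2 hB.ne'
  field_simp at h3
  have h4 : u ^ 2 * A * B = x * ((A + a ^ 2) * B + A * b ^ 2) := by exact_mod_cast h3
  rw [h1, h2] at h4
  have h5 : (B * (a - A) - A * (b - B)) ^ 2 + B * (a - A) ^ 2 + A * (b - B) ^ 2 = 0 := by
    linear_combination -h4
  have h6 : (B : ℤ) * (a - A) ^ 2 = 0 := by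
    have := sq_nonneg (B * (a - A) - A * (b - B))
    have := mul_nonneg (Int.natCast_nonneg B) (sq_nonneg (a - A))
    have := mul_nonneg (Int.natCast_nonneg A) (sq_nonneg (b - B))
    omega
  exact sub_eq_zero.1 (pow_eq_zero_iff two_ne_zero |>.1 ((mul_eq_zero.1 h6).resolve_left (by omega)))

theorem arith_pm {x A B : ℕ} {u a b : ℤ} (hx : 0 < x) (hA : 0 < A) (hB : 0 < B)
    (h1 : (x : ℤ) = 1 + A - B) (h2 : u = 1 + a - b)
    (h3 : (u : ℂ) * u / x = 1 + a * a / A - b * b / B) (h : ¬ IsSquare (x * B * A)) : b = B := by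
  have x0 : (x : ℂ) ≠ 0 := Nat.cast_ne_zero.2 hx.ne'
  have A0 : (A : ℂ) ≠ 0 := Nat.cast_ne_zero.2 hA.ne'
  have B0 : (B : ℂ) ≠ 0 := Nat.cast_ne_zero.2 hB.ne'
  field_simp at h3
  have h4 : u ^ 2 * A * B = x * ((A + a ^ 2) * B - A * b ^ 2) := by exact_mod_cast h3
  obtain rfl : a = u + b - 1 := by omega
  have h5 : (A : ℤ) = x + B - 1 := by omega
  refine sub_eq_zero.1 (eq_zero_of_sq (s := B * (B - 1) * (u - x) - x * B * (b - B)) h ?_)
  push_cast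
  rw [h5] at h4 ⊢
  linear_combination B * (B - 1) * h4

theorem arith_list {x A B : ℕ} (h1 : (x : ℤ) = 1 + A - B) (h2 : x % 19 = 3) (h3 : B % 19 = 18)
    (h4 : 2 * x + A + B ≤ 256) (h5 : 9 ≤ x) (h6 : x ≠ 22) : ¬ IsSquare (x * B * A) := by
  obtain ⟨rfl, rfl, rfl⟩ | ⟨rfl, rfl, rfl⟩ | ⟨rfl, rfl, rfl⟩ | ⟨rfl, rfl, rfl⟩ | ⟨rfl, rfl, rfl⟩ :
    (x = 41 ∧ B = 18 ∧ A = 58) ∨ (x = 41 ∧ B = 37 ∧ A = 77) ∨ (x = 41 ∧ B = 56 ∧ A = 96) ∨
      (x = 60 ∧ B = 18 ∧ A = 77) ∨ (x = 60 ∧ B = 37 ∧ A = 96) := by omega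
  all_goals norm_num

theorem exists_invol {G : Type*} [Group G] [Finite G] (hG : commutator G = ⊤)
    (h2 : 2 ∣ Nat.card G) : ∃ g : G, g ∉ Subgroup.center G ∧ g * g ∈ Subgroup.center G := by
  by_contra! h
  have h1 : ∀ (k : ℕ) (g : G), g ^ 2 ^ k ∈ Subgroup.center G → g ∈ Subgroup.center G := fun k => by
    induction k with
    | zero => simp
    | succ k ih =>
      exact fun g hg => ih g (by_contra fun h1 => h _ h1 (by rwa [pow_succ, pow_mul, sq] at hg))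
  have h3 : ∀ g : G, PE 2 g → g ∈ Subgroup.center G := fun g ⟨k, hk⟩ => h1 k g (hk ▸ one_mem _)
  obtain ⟨t, ht⟩ := exists_prime_orderOf_dvd_card' 2 h2
  have h4 : PE 2 t := ⟨1, by rw [pow_one, ← ht, pow_orderOf_eq_one]⟩
  have := eq_one_of_central_of_perfect hG (fun Q a ha b _ =>
    (Subgroup.mem_center_iff.1 (h3 a (PE.of_mem Q.isPGroup' ha)) b).symm) (h3 t h4) h4
  rw [this, orderOf_one] at ht
  omega

variable {G : Type*} [Group G] [Fintype G] {P : Subgroup G}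
  [Fintype P] {L : Log 19 P} {u : G} {E : Subgroup G} {π : Nor P →* E}
  (he : (Cen P).relIndex (Nor P) = 3)
  (h : Ctx L u E π) {B : Set (IrrCharacter G)} {θ : IrrCharacter (Cen P)} (hk : PKer P θ)
  (D : DefOne L B θ) (hn : ¬ PCl 19 G)
  (hK : ∀ (K : Subgroup G) [K.Normal], ¬ P ≤ K → K ≤ Subgroup.center G)
include he h hk hK

theorem ker_psi (j : (ZMod 19)ˣ) (g : G) (hg : (D.ψ j : G → ℂ) g = (D.ψ j : G → ℂ) 1) :
    g ∈ Subgroup.center G :=
  hK _ (h.not_le_ker hk D (by omega) j) ((H6.mem_charKer (irr_chr _)).2 hg)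

include hn in
theorem deg22 (hG : commutator G = ⊤) (hZ : ∀ z ∈ Subgroup.center G, z ^ 16 = 1)
    (ht : triv G ∈ B) {B' : Set (IrrCharacter G)} {θ' : IrrCharacter (Cen P)} (hk' : PKer P θ')
    (D' : DefOne L B' θ') (hε' : D'.ε = -1) (i : (ZMod 19)ˣ)
    (hd : (D'.ψ i : G → ℂ) 1 = (16 : ℕ)) : dg (D.ψ 1) = 22 := by
  classical
  have x9 := big_of_ker hn (irr_chr _) (ker_psi he h hk D hK 1) (dg_cast _)
  obtain ⟨m, hm⟩ := mlt_nat L (irr_chr (D.ψ 1)) 0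
  have m1 := mlt_eta L (1 : (ZMod 19)ˣ).ne_zero (h.psi_val' hk D 1) 0
  rw [if_neg (zero_notMem_orb L (Units.ne_zero _)), hm, dg_cast, he, add_zero] at m1
  have m2 : (19 : ℤ) * m = dg (D.ψ 1) - D.ε * 3 := by exact_mod_cast m1
  obtain ⟨Ξ, Ξ0, j, c1, c2, c3, c4, c5, c6, c7, c8, c9, c10⟩ := exists_xi he h hk' D' hε' i hd
  obtain ⟨hε, a, a1, a2, a3, a4⟩ := b0_num he h hk D ht (by
    rw [hm, Nat.cast_ne_zero]; rintro rfl; rcases D.sign with h1 | h1 <;> omega)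
    c1 c2 c3 c4 c5 c6 c7 c8 c9 c10
  obtain ⟨t1, t2⟩ := triv_mem he h hk D ht
  obtain ⟨g, g1, g2⟩ := exists_invol hG ((show 2 ∣ dg (D'.ψ i) by
    rw [dg, H87.deg_of_eq hd]; norm_num).trans (dg_dvd _))
  have g3 : ¬ 19 ∣ orderOf (g * g) := fun h1 =>
    absurd (h1.trans (orderOf_dvd_of_pow_eq_one (hZ _ g2))) (by norm_num)
  have g4 : ¬ 19 ∣ orderOf g := fun h1 => absurd (h1.trans (orderOf_dvd_of_pow_eq_one
    (show g ^ (2 * 16) = 1 by rw [pow_mul, sq, hZ _ g2]))) (by norm_num)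
  have v : ∀ χ ∈ B, ∃ z : ℤ, (χ : G → ℂ) g = z ∧ (χ : G → ℂ) g⁻¹ = z := fun χ hχ => by
    obtain ⟨z, hz⟩ := int_of_sq (irr_chr χ) ((h.Cc_of_mem hk D ht hχ
      fun z _ g => by simp [triv_apply]).center g2 g3)
    exact ⟨z, hz, by rw [H6.char_inv (irr_chr χ), hz, map_intCast]⟩
  have k1 : ∀ χ ∈ D.X, χ ≠ triv G → ∀ z : ℤ, (χ : G → ℂ) g = z → z ≠ dg χ := fun χ hχ h1 z hz e =>
    g1 (hK (H6.charKer χ) (fun h2 => h1 (eq_triv hG (by
      have := (H6.mem_charKer (irr_chr _)).1 (h2 h.mem)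
      rw [h.X_val D hk hχ h.mem (ne_one_of L h.lu), dg_cast] at this
      have h3 : D.εX χ = dg χ := by exact_mod_cast this
      rcases D.signX χ hχ with h4 | h4 <;> omega)))
      ((H6.mem_charKer (irr_chr _)).2 (by rw [hz, e, dg_cast, Int.cast_natCast])))
  obtain ⟨w, w1, w2⟩ := v _ (D.ψ_mem 1)
  have key : ∀ χ φ, χ ∈ D.X → φ ∈ D.X → χ ≠ triv G → φ ≠ triv G →
      (∀ f : IrrCharacter G → ℂ, ∑ x ∈ D.X, f x = f (triv G) + f χ + f φ) → D.εX χ = 1 →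
      dg (D.ψ 1) = 22 := fun χ φ h1 h2 h3 h4 h5 h6 => by
    obtain ⟨y, y1, y2⟩ := v _ (D.mem_of_mem_X h1)
    obtain ⟨z, z1, z2⟩ := v _ (D.mem_of_mem_X h2)
    have r1 := D.reg_rel 1 PB.reg_one
    have r2 := D.reg_rel 1 g4
    have r3 := inv_rel D (neg_one_notMem he) g2 1
    have r4 : ((∑ χ ∈ D.X, D.εX χ * a χ : ℤ) : ℂ) = 0 := by rw [a1, Int.cast_zero]
    have r5 : ((∑ χ ∈ D.X, a χ * dg χ : ℕ) : ℂ) = (a χ * dg χ + a φ * dg φ : ℕ) := by
      push_cast; rw [h5, a2]; simp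
    rw [Nat.cast_inj] at r5
    push_cast at r4
    simp only [h5, hε, t2, h6, w1, w2, y1, y2, z1, z2, dg_cast, triv_apply, dg_triv, a2,
      Int.cast_one, one_mul, Nat.cast_one, div_one, Nat.cast_zero, zero_add] at r1 r2 r3 r4
    obtain h7 | h7 := D.signX φ h2 <;> simp only [h7, Int.cast_one, one_mul, Int.cast_neg, neg_mul,
      ← sub_eq_add_neg] at r1 r2 r3 r4
    · exact absurd (arith_pp (dg_pos χ) (dg_pos φ) (by exact_mod_cast r1) (by exact_mod_cast r2) r3)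
        (k1 χ h1 h3 y y1)
    by_contra h8
    have r6 : a χ = a φ := by exact_mod_cast sub_eq_zero.1 r4
    have r7 := modEq_of_val (irr_chr φ) fact19.out (k := 1) (g := u)
      (by rw [pow_one, ← ord_of L h.mem h.lu, pow_orderOf_eq_one])
      (h.X_val D hk h2 h.mem (ne_one_of L h.lu))
    have r8 := a3 φ h2 h7
    have r9 : (dg (D.ψ 1) : ℤ) = 1 + dg χ - dg φ := by exact_mod_cast r1
    rw [h7, Int.ModEq] at r7
    refine k1 φ h2 h4 z z1 (arith_pm (dg_pos _) (dg_pos χ) (dg_pos φ) r9 (by exact_mod_cast r2) r3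
      (arith_list r9 (by omega) (by unfold dg; omega) ?_ (by omega) h8))
    have := Nat.le_mul_of_pos_left (dg χ) (r6 ▸ r8)
    have := Nat.le_mul_of_pos_left (dg φ) r8
    omega
  obtain ⟨χ, φ, h1, h2⟩ := Finset.card_eq_two.1 (show (D.X.erase (triv G)).card = 2 by
    rw [Finset.card_erase_of_mem t1, h.card_X D hk, he])
  have h3 := Finset.mem_erase.1 (h2 ▸ Finset.mem_insert_self χ {φ})
  have h4 := Finset.mem_erase.1 (h2 ▸ Finset.mem_insert_of_mem (Finset.mem_singleton_self φ) :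
    φ ∈ D.X.erase (triv G))
  have h5 : ∀ f : IrrCharacter G → ℂ, ∑ x ∈ D.X, f x = f (triv G) + f χ + f φ := fun f => by
    rw [← Finset.add_sum_erase _ _ t1, h2, Finset.sum_pair h1, add_assoc]
  obtain h6 | h6 := D.signX χ h3.2
  · exact key χ φ h3.2 h4.2 h3.1 h4.1 h5 h6
  obtain h7 | h7 := D.signX φ h4.2
  · exact key φ χ h4.2 h3.2 h4.1 h3.1 (fun f => by rw [h5, add_right_comm]) h7
  have r1 := D.reg_rel 1 PB.reg_one
  simp only [h5, hε, t2, h6, h7, dg_cast, dg_triv] at r1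
  have r2 : 1 * (dg (D.ψ 1) : ℤ) = 1 * 1 + -1 * dg χ + -1 * dg φ := by exact_mod_cast r1
  omega

end H33.Bl
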