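import Mathlib
import Cfsg.Agent.Lib.Blau.Nc

/-! A linear group of degree `16` has a normal Sylow `19`-subgroup. -/

set_option autoImplicit false
set_option linter.unusedSectionVars false
set_option linter.style.haveILetI false

open Module Cfsg H84 H35L H17.Ord
open H86 (Cen Nor)
open scoped ComplexConjugate

namespace H33.Bl

universe u

theorem geom_zero {ν : ℂ} {n : ℕ} (h : ν ^ n = 1) (h1 : ν ≠ 1) : ∑ k ∈ Finset.range n, ν ^ k = 0 := by
  rw [geom_sum_eq h1, h, sub_self, zero_div]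

theorem sub_eq_mul {G : Type*} [Group G] {χ : G → ℂ} (hχ : IsCharacter G χ) {c : ℕ} (h0 : χ 1 = c)
    {t : G} {a b : ℕ} (ha : a ≠ 0) (hb : 1 < b) (ht : t ^ (a * b) = 1) {r s : ℂ}
    (h1 : ∀ k, ¬ b ∣ k → χ (t ^ (a * k)) = s) (h2 : ∀ k, ¬ a ∣ k → χ (t ^ k) = r) :
    ∃ n : ℕ, c - s = (a * b : ℕ) * n := by
  have hab : a * b ≠ 0 := mul_ne_zero ha (by omega)
  have hμ := (Complex.isPrimitiveRoot_exp _ hab).inv
  obtain ⟨n, hn, -⟩ := emult_nat hχ h0 hab ht (Complex.isPrimitiveRoot_exp _ hab).pow_eq_one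
  refine ⟨n, Eq.trans ?_ hn⟩
  unfold emult
  generalize (Complex.exp _)⁻¹ = ν at hμ
  have h3 := geom_zero ((pow_mul ν a b).symm.trans hμ.pow_eq_one)
    (hμ.pow_ne_one_of_pos_of_lt ha (lt_mul_of_one_lt_right (Nat.pos_of_ne_zero ha) hb))
  have h4 := geom_zero hμ.pow_eq_one (hμ.ne_one (by nlinarith [Nat.pos_of_ne_zero ha]))
  have h5 : (Finset.range (a * b)).filter (a ∣ ·) = (Finset.range b).image (a * ·) := by
    ext k
    simp only [Finset.mem_filter, Finset.mem_range, Finset.mem_image]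
    exact ⟨fun ⟨h, j, hj⟩ => ⟨j, lt_of_mul_lt_mul_left (hj ▸ h) a.zero_le, hj.symm⟩,
      fun ⟨j, h, hj⟩ => hj ▸ ⟨Nat.mul_lt_mul_of_pos_left h (Nat.pos_of_ne_zero ha), j, rfl⟩⟩
  rw [Finset.sum_congr rfl (g := fun k => r * ν ^ k + (if a ∣ k then (s - r) * ν ^ k else 0) +
    if k = 0 then c - s else 0) fun k hk => ?_, Finset.sum_add_distrib, Finset.sum_add_distrib,
    ← Finset.mul_sum, h4, ← Finset.sum_filter, h5,
    Finset.sum_image fun _ _ _ _ e => Nat.eq_of_mul_eq_mul_left (Nat.pos_of_ne_zero ha) e,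
    ← Finset.mul_sum, Finset.sum_congr rfl fun k _ => pow_mul ν a k, h3, Finset.sum_ite_eq',
    if_pos (Finset.mem_range.2 (Nat.pos_of_ne_zero hab))]
  · ring
  by_cases h6 : a ∣ k
  · obtain ⟨j, rfl⟩ := h6
    rw [if_pos (dvd_mul_right _ _)]
    rcases eq_or_ne j 0 with rfl | h7
    · simp [h0]
    · rw [if_neg (mul_ne_zero ha h7), h1 j (Nat.not_dvd_of_pos_of_lt (Nat.pos_of_ne_zero h7)
        (lt_of_mul_lt_mul_left (Finset.mem_range.1 hk) a.zero_le))]
      ring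
  · rw [if_neg h6, if_neg (by rintro rfl; exact h6 (dvd_zero a)), h2 k h6]
    ring

theorem int_le {G : Type*} [Group G] [Finite G] {χ : G → ℂ} (hχ : IsCharacter G χ) {c : ℕ}
    (h0 : χ 1 = c) {g : G} {z : ℤ} (hz : χ g = z) : -(c : ℤ) ≤ z := by
  have := H6.char_norm_le hχ g
  rw [hz, h0, Complex.norm_intCast, Complex.norm_natCast] at this
  exact (abs_le.1 (by exact_mod_cast this : |z| ≤ c)).1

theorem sum_const_val {G : Type*} [Group G] [Finite G] {χ : G → ℂ} (hχ : IsCharacter G χ)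
    (A : Subgroup G) {s : ℂ} (h : ∀ x ∈ A, x ≠ 1 → χ x = s) :
    ∃ k : ℕ, χ 1 + (Nat.card A - 1) * s = Nat.card A * k := by
  classical
  haveI := Fintype.ofFinite A
  obtain ⟨k, hk⟩ := sum_char_subgroup hχ A
  rw [← Finset.add_sum_erase _ _ (Finset.mem_univ 1), Finset.sum_congr rfl (g := fun _ => s)
    fun (x : A) hx => h x x.2 fun e => (Finset.mem_erase.1 hx).1 (Subtype.ext e), Finset.sum_const,
    Finset.card_erase_of_mem (Finset.mem_univ _), Finset.card_univ, ← Nat.card_eq_fintype_card,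
    nsmul_eq_mul, Nat.cast_pred Nat.card_pos] at hk
  exact ⟨k, hk⟩

instance fact11 : Fact (Nat.Prime 11) := ⟨by norm_num⟩

section
variable {G : Type*} [Group G] [Fintype G] {ζ : G → ℂ} (hζ : IsCharacter G ζ)
  (hd : ζ 1 = (16 : ℕ)) (hf : ∀ g, ζ g = ζ 1 → g = 1)
  (hr : ∀ (y : G) (m : ℕ), (19 * 16).Coprime (orderOf y) → m.Coprime (orderOf y) →
    ζ (y ^ m) = ζ y)
include hζ hd hf hr

theorem val11 {y : G} (hy : orderOf y = 11) : ζ y = 5 := by
  have h1 : ∀ k, ¬ 11 ∣ k → ζ (y ^ k) = ζ y := fun k hk =>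
    hr y k (by rw [hy]; norm_num) (hy ▸ (fact11.out.coprime_iff_not_dvd.2 hk).symm)
  obtain ⟨n, hn⟩ := sub_eq_mul hζ hd (t := y) (a := 1) (b := 11) one_ne_zero (by norm_num)
    (by rw [one_mul, ← hy, pow_orderOf_eq_one]) (r := 0) (s := ζ y) (fun k hk => by
      rw [one_mul, h1 k hk]) fun k hk => absurd (one_dvd k) hk
  have h2 : ζ y = ((16 - 11 * n : ℤ) : ℂ) := by push_cast at hn ⊢; linear_combination -hn
  have h3 := int_le hζ hd h2
  obtain ⟨k, hk⟩ := sum_const_val hζ (Subgroup.zpowers y) (s := ζ y) fun x hx h4 => by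
    obtain ⟨k, rfl⟩ := (mem_powers_iff_mem_zpowers.2 hx :)
    exact h1 k fun h5 => h4 (orderOf_dvd_iff_pow_eq_one.1 (hy ▸ h5))
  rw [Nat.card_zpowers, hy, h2, hd] at hk
  have h4 : 16 + 10 * (16 - 11 * n : ℤ) = 11 * k := by
    have : ((16 + 10 * (16 - 11 * n) : ℤ) : ℂ) = (11 * k : ℤ) := by
      push_cast at hk ⊢; linear_combination hk
    exact_mod_cast this
  have h5 : n ≠ 0 := by
    rintro rfl
    rw [hf y (by rw [h2, hd]; simp), orderOf_one] at hy
    omega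
  rw [h2, show n = 1 by omega]
  norm_num

theorem not_121 : ¬ 11 ^ 2 ∣ Nat.card G := fun h => by
  classical
  obtain ⟨A, hA⟩ := Sylow.exists_subgroup_card_pow_prime 11 h
  have h1 : ∀ x ∈ A, x ^ (11 * 11) = 1 := fun x hx =>
    congrArg Subtype.val (hA ▸ pow_card_eq_one' (x := (⟨x, hx⟩ : A)))
  by_cases h2 : ∀ x ∈ A, x ^ 11 = 1
  · obtain ⟨k, hk⟩ := sum_const_val hζ A fun x hx h3 =>
      val11 hζ hd hf hr (orderOf_eq_prime (h2 x hx) h3)
    rw [hA, hd] at hk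
    have : ((616 : ℕ) : ℂ) = (121 * k : ℕ) := by push_cast at hk ⊢; linear_combination hk
    rw [Nat.cast_inj] at this
    omega
  push Not at h2
  obtain ⟨x, hx, h2⟩ := h2
  have h3 : orderOf x = 11 ^ 2 := orderOf_eq_prime_pow (by rwa [pow_one]) (h1 x hx)
  obtain ⟨n, hn⟩ := sub_eq_mul hζ hd (t := x) (a := 11) (b := 11) (by norm_num) (by norm_num)
    (h1 x hx) (r := ζ x) (s := 5) (fun k hk => val11 hζ hd hf hr (orderOf_eq_prime
      (by rw [← pow_mul, mul_right_comm, pow_mul, h1 x hx, one_pow]) fun e => hk (by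
        have := orderOf_dvd_of_pow_eq_one e
        rw [h3] at this
        omega))) fun k hk => hr x k (by rw [h3]; norm_num)
      (h3 ▸ (fact11.out.coprime_iff_not_dvd.2 hk).symm.pow_right 2)
  have : ((11 : ℕ) : ℂ) = (121 * n : ℕ) := by push_cast at hn ⊢; linear_combination hn
  rw [Nat.cast_inj] at this
  omega

end

theorem no22 {G : Type*} [Group G] [Fintype G] {J : Type*} {ψ : J → IrrCharacter G} {i : J}
    (hJ : Nat.card (Set.range ψ) = 6)
    (hψ : ∀ j g, ¬ 19 ∣ orderOf g → (ψ j : G → ℂ) g = (ψ i : G → ℂ) g)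
    (hd : (ψ i : G → ℂ) 1 = (16 : ℕ)) (hf : ∀ g, (ψ i : G → ℂ) g = (ψ i : G → ℂ) 1 → g = 1)
    (hs : ∀ g : G, 19 ∣ orderOf g → g ^ (19 * 16) = 1)
    (hr : ∀ (y : G) (m : ℕ), (19 * 16).Coprime (orderOf y) → m.Coprime (orderOf y) →
      (ψ i : G → ℂ) (y ^ m) = (ψ i : G → ℂ) y) {ξ : IrrCharacter G} (hξ : dg ξ = 22)
    (hr' : ∀ (y : G) (m : ℕ), (19 * 16).Coprime (orderOf y) → m.Coprime (orderOf y) →
      (ξ : G → ℂ) (y ^ m) = (ξ : G → ℂ) y)
    (hk : ∀ g, (ξ : G → ℂ) g = (ξ : G → ℂ) 1 → g ^ 16 = 1) : False := by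
  classical
  have h121 := not_121 (irr_chr _) hd hf hr
  obtain ⟨Q, hQ⟩ := exists_subgroup_prime (G := G) 11 ((show 11 ∣ dg ξ by omega).trans (dg_dvd ξ))
  haveI := Fintype.ofFinite Q
  obtain ⟨L⟩ := nonempty_log hQ fun h => h121 (by
    rw [← Q.card_mul_index, hQ, sq]; exact mul_dvd_mul_left _ h)
  obtain ⟨B, θ, ⟨D⟩, hθ, hB⟩ := exists_defOne L (ψ i) (by rw [dg, H87.deg_of_eq hd]; norm_num)
  obtain ⟨y, y1, y2, y3⟩ := exists_gen L
  have y4 := ord_of L y1 y2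
  have h1 : ∀ g : G, 11 ∣ orderOf g → ¬ 19 ∣ orderOf g := fun g hg h =>
    absurd (hg.trans (orderOf_dvd_of_pow_eq_one (hs g h))) (by norm_num)
  obtain ⟨a, ha⟩ : ∃ a : (ZMod 11)ˣ, classInner (ψ i : G → ℂ) (L.phi θ a) ≠ 0 := by
    obtain h | ⟨a, h⟩ := (D.mem_iff _).1 hB
    · refine ⟨1, ?_⟩
      simp only [inner_phi' D, H6.irr_inner', if_neg fun e : ψ i = D.ψ 1 => D.not_mem 1 (e ▸ h),
        mul_ite, mul_one, mul_zero, Finset.sum_ite_eq, if_pos h]
      rcases D.signX _ h with h2 | h2 <;> simp [h2]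
    · refine ⟨a, ?_⟩
      simp only [inner_phi' D, H6.irr_inner', ← h, mul_ite, mul_one, mul_zero, Finset.sum_ite_eq,
        if_neg (D.not_mem a)]
      rcases D.sign with h2 | h2 <;> simp [h2]
  have h2 : ∀ j, ψ j ≠ D.ψ a → ψ j ∈ D.X := fun j h2 => by_contra fun h3 => ha (by
    rw [← inner_congr (fun g hg => hψ j g (h1 g hg)) fun g hg => L.phi_of_reg θ a hg]
    simp only [inner_phi' D, H6.irr_inner', if_neg h2, mul_ite, mul_one, mul_zero,
      Finset.sum_ite_eq, if_neg h3, sub_zero])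
  have h3 : 5 ≤ ((Set.range ψ).toFinset.erase (D.ψ a)).card := by
    have := Finset.pred_card_le_card_erase (s := (Set.range ψ).toFinset) (a := D.ψ a)
    rwa [Set.toFinset_card, ← Nat.card_eq_fintype_card, hJ] at this
  have h4 : (Set.range ψ).toFinset.erase (D.ψ a) ⊆ D.X := fun χ hχ => by
    obtain ⟨h4, h5⟩ := Finset.mem_erase.1 hχ
    obtain ⟨j, rfl⟩ := Set.mem_toFinset.1 h5
    exact h2 j h4
  obtain ⟨χ, hχ⟩ := Finset.card_pos.1 (lt_of_lt_of_le (by norm_num) h3)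
  obtain ⟨j, rfl⟩ := Set.mem_toFinset.1 (Finset.mem_erase.1 hχ).2
  have h5 := D.X_of_mem hθ (h4 hχ) y1 y3
  rw [hψ j y (by rw [y4]; norm_num), val11 (irr_chr _) hd hf hr y4, dg_cast] at h5
  have h6 : (5 : ℤ) = D.εX (ψ j) * ((inert θ).index * dg θ : ℕ) := by exact_mod_cast h5
  have h7 := Nat.le_of_dvd (by norm_num) (e_dvd L)
  rw [L.relIndex_Nor θ, ← D.card_X] at h7
  have h8 : (inert θ).index ≤ 2 := by nlinarith [h3.trans (Finset.card_le_card h4)]
  have h9 : dg θ = 5 := by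
    rcases D.signX _ (h4 hχ) with h | h <;> rw [h] at h6
    · interval_cases (inert θ).index <;> omega
    · omega
  haveI : Fact (Nat.Prime 5) := ⟨by norm_num⟩
  obtain ⟨⟨w, w1⟩, w2⟩ := exists_prime_orderOf_dvd_card' 5 (h9 ▸ dg_dvd θ)
  rw [Subgroup.orderOf_mk] at w2
  have w3 : Commute w y := (commute_of_mem_Cen y1 w1).symm
  have w4 : w ^ 5 = 1 := w2 ▸ pow_orderOf_eq_one w
  have y5 : y ^ 11 = 1 := y4 ▸ pow_orderOf_eq_one y
  have w5 := fun m => hr' w m (by rw [w2]; norm_num)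
  obtain ⟨n, hn⟩ := sub_eq_mul (irr_chr ξ) (dg_cast ξ) (t := w * y) (a := 11) (b := 5) (by norm_num)
    (by norm_num) (by rw [w3.mul_pow, pow_mul y, y5, pow_mul' w, w4]; simp) (r := 0)
    (s := (ξ : G → ℂ) w) (fun k hk => by
      rw [w3.mul_pow, pow_mul y, y5, one_pow, mul_one, w5 _ (w2 ▸ Nat.Coprime.mul_left (by norm_num)
        ((Nat.Prime.coprime_iff_not_dvd (by norm_num)).2 hk).symm)])
    fun k hk => van_of_dvd fact11.out h121 (by omega) (by
      have := pow_orderOf_eq_one ((w * y) ^ k)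
      generalize orderOf ((w * y) ^ k) = o at this ⊢
      have h := congrArg (· ^ 5) this
      simp only [← pow_mul, one_pow] at h
      rw [w3.mul_pow, pow_mul' w, w4, one_pow, one_mul, ← orderOf_dvd_iff_pow_eq_one, y4,
        fact11.out.dvd_mul, fact11.out.dvd_mul] at h
      omega)
  rw [hξ] at hn
  have k1 : (ξ : G → ℂ) w = ((22 - 55 * n : ℤ) : ℂ) := by push_cast at hn ⊢; linear_combination -hn
  have k2 := int_le (irr_chr ξ) (dg_cast ξ) k1
  have k3 := orderOf_dvd_of_pow_eq_one (hk w (by rw [k1, dg_cast, hξ, show n = 0 by omega]; simp))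
  rw [w2] at k3
  omega

theorem no19_aux (N : ℕ) : ∀ (G : Type u) [Group G] [Finite G], Nat.card G < N → ∀ ζ : G → ℂ,
    IsIrrCharacter G ζ → (∀ g, ζ g = ζ 1 → g = 1) → ζ 1 = (16 : ℕ) → PCl 19 G := by
  induction N with
  | zero => exact fun G _ _ h => absurd h (Nat.not_lt_zero _)
  | succ N ih =>
  intro G _ _ hN ζ hζ hf hd
  by_contra hn
  obtain ⟨r1, r2, r3⟩ := reduce (by norm_num) hζ hf hd (by norm_num) hn
  by_cases hG : commutator G = ⊤
  swap
  · exact r1 (ih _ (by have := card_lt_of_ne hG; omega) _ r2 (fun g hg => Subtype.ext (hf _ hg)) hd)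
  rw [hG, Subgroup.card_top] at r3
  haveI := Fintype.ofFinite G
  obtain ⟨P⟩ : Nonempty (Sylow 19 G) := inferInstance
  haveI := Fintype.ofFinite (P : Subgroup G)
  obtain ⟨L⟩ := nonempty_log (card_sylow hn r3 P) P.not_dvd_index
  obtain ⟨h1, B, θ, D, i, hk, h3, h4 | ⟨hε, -, h4, hreg⟩⟩ := struct L ⟨ζ, hζ⟩ hd (by norm_num) hf
  · have hv := psi_val D hk i
    rw [h3] at hv
    have h5 := caseA L (by norm_num) (fun _ => hn (pcl_of_normal P)) h1 hζ hf hd (by norm_num)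
      i.ne_zero hv (by rw [hd, h4.1, h4.2]; push_cast; ring)
    rw [show (Cen (P : Subgroup G)).relIndex (Nor (P : Subgroup G)) = 9 by omega] at h4
    omega
  have he : (Cen (P : Subgroup G)).relIndex (Nor (P : Subgroup G)) = 3 := by omega
  obtain rfl : (D.ψ i : G → ℂ) = ζ := congrArg Subtype.val h3
  obtain ⟨u, E, π, h⟩ := exists_ctx L hreg
  have hK := le_center L (irr_chr _) hf hd (by norm_num) hreg
  have hZ : ∀ z ∈ Subgroup.center G, z ^ 16 = 1 := fun z hz => hf _ (char_pow_of_central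
    (irr_chr _) hd (H87.norm_eq_of_mem_center hζ hz) (hG ▸ Subgroup.mem_top z))
  obtain ⟨B0, θ0, ⟨D0⟩, hk0, ht⟩ := exists_defOne L (triv G) (by rw [dg_triv]; norm_num)
  have key : ∀ {B θ} (_ : PKer (P : Subgroup G) θ) (D : DefOne L B θ) (i : (ZMod 19)ˣ) (y : G)
      (m : ℕ), (19 * 16).Coprime (orderOf y) → m.Coprime (orderOf y) →
        (D.ψ i : G → ℂ) (y ^ m) = (D.ψ i : G → ℂ) y := fun hk D i y m h5 =>
    pow_of_sing (ψ' := D.ψ (-i)) (fun e => neg_one_notMem (L := L) he (by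
      simpa [h.H_eq hk] using (D.eq_iff _ _).1 e)) (fun g => D.reg_eq _ _) (by norm_num)
      (fun g => h.pow_sing hZ) h5 m
  exact no22 (ψ := D.ψ) (by rw [D.natCard_range, h.H_eq hk, L.card_range_r, he])
    (fun j g => D.reg_eq j i) hd hf (fun g => h.pow_sing hZ) (key hk D i)
    (deg22 he h hk0 D0 hn hK hG hZ ht hk D hε i hd) (key hk0 D0 1)
    fun g hg => hZ g (ker_psi he h hk0 D0 hK 1 g hg)

theorem no19 {G : Type*} [Group G] [Finite G] {ζ : G → ℂ} (hζ : IsIrrCharacter G ζ)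
    (hf : ∀ g, ζ g = ζ 1 → g = 1) (hd : ζ 1 = (16 : ℕ)) : PCl 19 G :=
  no19_aux _ G (Nat.lt_succ_self _) ζ hζ hf hd

end H33.Bl
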