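import Mathlib
import Cfsg.Agent.Lib.Blau.Nd
import Cfsg.Agent.Lib.Lin35.Schur

/-! Linear groups of degree below `p - 1`: reduction to perfect groups, the central quotient. -/

set_option autoImplicit false
set_option linter.unusedSectionVars false
set_option linter.style.haveILetI false

open Module Cfsg H84 H35L H17.Ord
open H86 (Cen Nor)
open scoped ComplexConjugate commutatorElement

namespace H33.Bl

theorem schur' {G : Type*} [Group G] [Finite G] {q : ℕ} (hq : q.Prime) {χ : G → ℂ}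
    (hχ : IsCharacter G χ) {n : ℕ} (hn : χ 1 = n)
    (hr : ∀ x : G, PE q x → ∀ j : ℕ, j.Coprime q → χ (x ^ j) = χ x) {K : Subgroup G}
    (hK : ∀ g, χ g = χ 1 → g ∈ K) {k : ℕ} (hk : q ^ k ∣ K.index) :
    k ≤ ∑ i ∈ Finset.range (n + 1), n / ((q - 1) * q ^ i) := by
  haveI := Fact.mk hq
  obtain ⟨S⟩ : Nonempty (Sylow q G) := inferInstance
  have hψ := H6.isCharacter_restrict (S : Subgroup G) hχ
  refine le_trans ?_ (schur_bound hq S.isPGroup' hψ
    (fun x j hj => hr x (PE.of_mem S.isPGroup' x.2) j hj) hn)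
  set T := H6.charKer fun x : (S : Subgroup G) => χ x
  obtain ⟨m, hm⟩ := (S.isPGroup'.to_subgroup T).exists_card_eq
  have h1 : Nat.card T ∣ Nat.card K := by
    rw [← Subgroup.card_map_of_injective (S : Subgroup G).subtype_injective]
    refine Subgroup.card_dvd_of_le ?_
    rintro _ ⟨x, hx, rfl⟩
    exact hK _ ((H6.mem_charKer hψ).1 hx)
  have h2 : Nat.card T * q ^ k ∣ Nat.card T * T.index := by
    rw [T.card_mul_index, hm, ← pow_add, S.card_eq_multiplicity]
    refine pow_dvd_pow q ((hq.pow_dvd_iff_le_factorization Nat.card_pos.ne').1 ?_)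
    rw [pow_add, ← hm, ← K.card_mul_index]
    exact mul_dvd_mul h1 hk
  exact (hq.pow_dvd_iff_le_factorization Subgroup.index_ne_zero_of_finite).1
    (Nat.dvd_of_mul_dvd_mul_left Nat.card_pos h2)

section
variable {G : Type*} [Group G] (h : commutator G ⊔ Subgroup.center G = ⊤)
include h

theorem dec_of_sup (g : G) : ∃ a ∈ commutator G, ∃ z ∈ Subgroup.center G, a * z = g :=
  Subgroup.mem_sup_of_normal_right.1 (h ▸ Subgroup.mem_top g)

theorem cen_of_sup {z : commutator G} :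
    z ∈ Subgroup.center (commutator G) ↔ (z : G) ∈ Subgroup.center G :=
  ⟨fun hz => Subgroup.mem_center_iff.2 fun g => by
    obtain ⟨a, ha, c, hc, rfl⟩ := dec_of_sup h g
    rw [mul_assoc, ← Subgroup.mem_center_iff.1 hc, ← mul_assoc, ← mul_assoc,
      show a * z = z * a from congrArg Subtype.val (Subgroup.mem_center_iff.1 hz ⟨a, ha⟩)],
    fun hz => Subgroup.mem_center_iff.2 fun g => Subtype.ext (Subgroup.mem_center_iff.1 hz g)⟩

theorem perf_of_sup : commutator (commutator G) = ⊤ := by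
  refine Subgroup.map_injective (commutator G).subtype_injective ?_
  rw [Subgroup.map_subtype_commutator, ← MonoidHom.range_eq_map, Subgroup.range_subtype]
  refine le_antisymm (Subgroup.commutator_mono le_top le_top)
    (Subgroup.commutator_le.2 fun a _ b _ => ?_)
  obtain ⟨a, ha, c, hc, rfl⟩ := dec_of_sup h a
  obtain ⟨b, hb, d, hd, rfl⟩ := dec_of_sup h b
  convert Subgroup.commutator_mem_commutator ha hb using 1
  have h1 := Subgroup.mem_center_iff.1 hc
  have h2 := Subgroup.mem_center_iff.1 hd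
  calc _ = a * (c * (b * d) * c⁻¹) * a⁻¹ * d⁻¹ * b⁻¹ := by rw [commutatorElement_def]; group
    _ = a * b * (d * a⁻¹ * d⁻¹) * b⁻¹ := by rw [← h1, mul_inv_cancel_right]; group
    _ = _ := by rw [← h2, mul_inv_cancel_right, commutatorElement_def]

theorem quot_of_sup : Nonempty (G ⧸ Subgroup.center G ≃*
    commutator G ⧸ Subgroup.center (commutator G)) :=
  ⟨((QuotientGroup.quotientMulEquivOfEq (Subgroup.ext fun z =>
    (cen_of_sup h).trans (QuotientGroup.eq_one_iff _).symm)).trans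
      (QuotientGroup.quotientKerEquivOfSurjective
        ((QuotientGroup.mk' (Subgroup.center G)).comp (commutator G).subtype) fun g => by
          obtain ⟨g, rfl⟩ := QuotientGroup.mk_surjective g
          obtain ⟨a, ha, c, hc, rfl⟩ := dec_of_sup h g
          exact ⟨⟨a, ha⟩, (QuotientGroup.mk_mul_of_mem a hc).symm⟩)).symm⟩

theorem prod_of_sup (hZ : Subgroup.center (commutator G) = ⊥) :
    Nonempty (G ≃* commutator G × Subgroup.center G) := by
  refine ⟨(MulEquiv.ofBijective ((commutator G).subtype.noncommCoprod (Subgroup.center G).subtype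
    fun h z => Subgroup.mem_center_iff.1 z.2 h)
      ⟨(injective_iff_map_eq_one _).2 ?_, fun g => ?_⟩).symm⟩
  · rintro ⟨a, z⟩ e
    have h3 : (a : G) * z = 1 := e
    have h4 : a = 1 := Subgroup.mem_bot.1 (hZ ▸ (cen_of_sup h).2
      (eq_inv_of_mul_eq_one_left h3 ▸ inv_mem z.2))
    rw [h4, Subgroup.coe_one, one_mul] at h3
    rw [h4, show z = 1 from Subtype.ext h3]; rfl
  · obtain ⟨a, ha, z, hz, rfl⟩ := dec_of_sup h g
    exact ⟨(⟨a, ha⟩, ⟨z, hz⟩), rfl⟩

end

theorem sup_iff {G : Type*} [Group G] (K : Subgroup G) [K.Normal] :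
    commutator G ⊔ K = ⊤ ↔ commutator (G ⧸ K) = ⊤ := by
  have h : (commutator G).map (QuotientGroup.mk' K) = commutator (G ⧸ K) := by
    rw [map_commutator_eq, MonoidHom.range_eq_top.2 (QuotientGroup.mk'_surjective K)]; rfl
  rw [← h, ← (Subgroup.comap_injective (QuotientGroup.mk'_surjective K)).eq_iff,
    Subgroup.comap_map_eq, QuotientGroup.ker_mk', Subgroup.comap_top]

section
variable {G : Type*} [Group G] [Fintype G] {p : ℕ} [hp : Fact p.Prime] {P : Subgroup G}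
  [Fintype P] {L : Log p P} {u : G} {E : Subgroup G} {π : Nor P →* E}

theorem caseB (L : Log p P) (hp3 : 3 < p) (hn : ¬ P.Normal) (ζ : IrrCharacter G) {d : ℕ}
    (hd : (ζ : G → ℂ) 1 = d) (hdp : d + 1 < p) (hf : ∀ g, (ζ : G → ℂ) g = (ζ : G → ℂ) 1 → g = 1)
    (h2 : 2 * d + 1 ≠ p) : 2 * (Cen P).relIndex (Nor P) + 1 ≤ p ∧ d + (Cen P).relIndex (Nor P) = p ∧
      (∀ y ∈ Cen P, ¬ p ∣ orderOf y → y ∈ Subgroup.center G) ∧
      ∃ B θ, ∃ (D : DefOne L B θ) (i : (ZMod p)ˣ), PKer P θ ∧ D.ψ i = ζ ∧ D.ε = -1 := by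
  obtain ⟨h1, B, θ, D, i, hk, rfl, h4 | ⟨hε, -, h4, hreg⟩⟩ := struct L ζ hd hdp hf
  · have h5 := caseA L hp3 hn h1 (D.ψ i).2 hf hd hdp i.ne_zero (psi_val D hk i)
      (by rw [hd, h4.1, h4.2]; push_cast; ring)
    have h6 := dg_pos θ
    have h7 : dg θ < 2 := Nat.lt_of_mul_lt_mul_left (a := (Cen P).relIndex (Nor P)) (by omega)
    rw [show dg θ = 1 by omega] at h4
    omega
  · exact ⟨h1, h4, hreg, B, θ, D, i, hk, rfl, hε⟩

theorem Ctx.exists_ne (h : Ctx L u E π) {B : Set (IrrCharacter G)} {θ : IrrCharacter (Cen P)}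
    (hk : PKer P θ) (D : DefOne L B θ) (he : (Cen P).relIndex (Nor P) + 1 < p) (i : (ZMod p)ˣ) :
    ∃ j, D.ψ i ≠ D.ψ j := by
  by_contra! h1
  have h2 : L.r.range = ⊤ := eq_top_iff.2 fun a _ => by
    simpa [h.H_eq hk] using (D.eq_iff _ _).1 (h1 (i * a))
  have h3 := L.card_range_r
  rw [h2, Subgroup.card_top, Nat.card_eq_fintype_card, ZMod.card_units] at h3
  omega

theorem Ctx.Cen_le (h : Ctx L u E π) {K : Subgroup G} (h1 : P ≤ K) (h2 : Subgroup.center G ≤ K) :
    Cen P ≤ K := fun c hc => by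
  obtain ⟨x, hx, -, h3⟩ := h.pc_spec ⟨c, hc⟩
  exact (show c = _ from h3) ▸ mul_mem (h2 (h.cen (h.a_pc _))) (h1 hx)

theorem sup_center (L : Log p P) (hp3 : 3 < p) (hn : ¬ P.Normal) (ζ : IrrCharacter G) {d : ℕ}
    (hd : (ζ : G → ℂ) 1 = d) (hdp : d + 1 < p) (hf : ∀ g, (ζ : G → ℂ) g = (ζ : G → ℂ) 1 → g = 1)
    (h2 : 2 * d + 1 ≠ p) : commutator G ⊔ Subgroup.center G = ⊤ := by
  obtain ⟨h1, h3, hreg, B, θ, D, i, hk, rfl, hε⟩ := caseB L hp3 hn ζ hd hdp hf h2
  obtain ⟨u, E, π, h⟩ := exists_ctx L hreg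
  haveI := Fintype.ofFinite E
  obtain ⟨O, k, _, _, _, φ, hφs, hφ⟩ := exists_residue hp.out
  obtain ⟨n, σ, μ, hσ, Z⟩ := h.exists_zt hφs hφ (D.ψ i).2 i.ne_zero (fun x hx h3 => by
    rw [h.psi_val' hk D i x hx h3, hε]; simp) hd h3 h1
  have hP : P ≤ commutator G := le_commutator_of_relIndex L.card (by omega)
  set K := commutator G ⊔ Subgroup.center G
  refine eq_top_iff.2 fun g _ => by_contra fun hg => ?_
  letI : CommGroup (G ⧸ K) := { (inferInstance : Group (G ⧸ K)) with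
    mul_comm := (Subgroup.Normal.quotient_commutative_iff_commutator_le.2 le_sup_left).1.1 }
  obtain ⟨l, hl⟩ := CommGroup.exists_apply_ne_one_of_hasEnoughRootsOfUnity (G ⧸ K) ℂ
    (a := g) fun e => hg ((QuotientGroup.eq_one_iff g).1 e)
  have h4 : K ≤ (l.comp (QuotientGroup.mk' K)).ker := fun x hx =>
    (congrArg l ((QuotientGroup.eq_one_iff x).2 hx)).trans l.map_one
  have h5 := (h.Cen_le (hP.trans le_sup_left) le_sup_right).trans h4
  obtain ⟨j, hj⟩ := h.exists_ne hk D (by have := Z.e_pos; omega) i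
  have h6 := eq_of_sing (χ := ⟨_, H6.isIrrCharacter_mul_hom (D.ψ i).2
    (l.comp (QuotientGroup.mk' K))⟩) hj (fun g => D.reg_eq i j) fun g hg => by
      obtain ⟨a, ha⟩ := exists_conj_mem_Cen_of_sing L.card L.ind hg
      have := MonoidHom.mem_ker.1 (h5 ha)
      rw [map_mul, map_mul, map_inv, mul_inv_cancel_comm] at this
      change _ * _ = _
      rw [this, Units.val_one, mul_one]
  refine hl ((Nor_sup_eq_top L.card L.ind hP).ge.trans (sup_le (fun m hm => ?_)
    (le_sup_left.trans h4)) (Subgroup.mem_top g))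
  by_cases h7 : L.r ⟨m, hm⟩ = 1
  · exact h5 ((L.r_eq_one _).1 h7)
  · have h8 := congrFun (congrArg Subtype.val h6) m
    refine Units.ext (mul_left_cancel₀ ?_ (h8.trans (mul_one _).symm))
    rw [← hσ, Z.nc ⟨m, hm⟩ h7]
    exact Units.ne_zero _

theorem Ctx.simple (h : Ctx L u E π) (hG : commutator G = ⊤) (hn : ¬ PCl p G)
    (hK : ∀ (K : Subgroup G) [K.Normal], ¬ P ≤ K → K ≤ Subgroup.center G) :
    IsSimpleGroup (G ⧸ Subgroup.center G) ∧ ¬ IsMulCommutative (G ⧸ Subgroup.center G) := by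
  have h1 : ¬ IsMulCommutative (G ⧸ Subgroup.center G) := fun h1 => hn (pcl_of_comm fun a b =>
    Subgroup.mem_center_iff.1 (Subgroup.Normal.quotient_commutative_iff_commutator_le.1 h1
      (hG ▸ Subgroup.mem_top b)) a)
  haveI : Nontrivial (G ⧸ Subgroup.center G) := not_subsingleton_iff_nontrivial.1 fun _ =>
    h1 ⟨⟨fun _ _ => Subsingleton.elim _ _⟩⟩
  refine ⟨⟨fun M hM => ?_⟩, h1⟩
  set K := M.comap (QuotientGroup.mk' (Subgroup.center G))
  by_cases h2 : P ≤ K
  · right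
    have h3 := h.Cen_le h2 fun z hz => show (z : G ⧸ Subgroup.center G) ∈ M from
      (QuotientGroup.eq_one_iff z).2 hz ▸ one_mem M
    have h4 : ∀ a : G ⧸ K, ∃ n ∈ Nor P, (n : G ⧸ K) = a := fun a => by
      obtain ⟨a, rfl⟩ := QuotientGroup.mk_surjective a
      obtain ⟨n, hn, k, hk, rfl⟩ := Subgroup.mem_sup_of_normal_right.1
        (Nor_sup_eq_top L.card L.ind h2 ▸ Subgroup.mem_top a)
      exact ⟨n, hn, (QuotientGroup.mk_mul_of_mem n hk).symm⟩
    have h5 : commutator G ≤ K := Subgroup.Normal.quotient_commutative_iff_commutator_le.1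
      ⟨⟨fun a b => by
        obtain ⟨n, hn, rfl⟩ := h4 a
        obtain ⟨m, hm, rfl⟩ := h4 b
        exact commutatorElement_eq_one_iff_mul_comm.1 ((QuotientGroup.eq_one_iff ⁅n, m⁆).2
          (h3 (commutator_mem_Cen L.card L.ind hn hm)))⟩⟩
    refine eq_top_iff.2 fun g _ => ?_
    obtain ⟨g, rfl⟩ := QuotientGroup.mk_surjective g
    exact h5 (hG ▸ Subgroup.mem_top g)
  · left
    refine eq_bot_iff.2 fun g hg => ?_
    obtain ⟨g, rfl⟩ := QuotientGroup.mk_surjective g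
    exact (QuotientGroup.eq_one_iff g).2 (hK K h2 hg)

end

variable {p : ℕ} [hp : Fact p.Prime]

theorem sup_center' {G : Type*} [Group G] [Finite G] (hp3 : 3 < p) {χ : G → ℂ}
    (hχ : IsIrrCharacter G χ) (hf : ∀ g, χ g = χ 1 → g = 1) {n : ℕ} (hn : χ 1 = n) (hnp : n + 1 < p)
    (h : ¬ PCl p G) (h2 : 2 * n + 1 ≠ p) : commutator G ⊔ Subgroup.center G = ⊤ := by
  obtain ⟨H, _, _, φ, h1, h3, h4, h5, h6, ⟨e⟩⟩ := reduce' hp3 hχ hf hn hnp h
  haveI := Fintype.ofFinite H
  obtain ⟨Q⟩ : Nonempty (Sylow p H) := inferInstance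
  haveI := Fintype.ofFinite (Q : Subgroup H)
  obtain ⟨L⟩ := nonempty_log (card_sylow h5 h6 Q) Q.not_dvd_index
  have h7 := (sup_iff _).1 (sup_center L hp3 (fun _ => h5 (pcl_of_normal Q)) ⟨φ, h1⟩ h4 hnp h3 h2)
  rw [sup_iff, ← (Subgroup.map_injective (f := e.toMonoidHom) e.injective).eq_iff,
    map_commutator_eq, ← MonoidHom.range_eq_map, MonoidHom.range_eq_top.2 e.surjective]
  exact h7

end H33.Bl
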