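import Mathlib
import Cfsg.Agent.Lib.Blau.Sa
import Cfsg.Agent.Lib.Dg8.Chk
import Cfsg.Agent.S0253
import Cfsg.Agent.S0494
import Cfsg.Agent.S0497

/-! Linear groups of degree three with a Sylow `5`-subgroup that is not normal. -/

set_option autoImplicit false
set_option linter.unusedSectionVars false
set_option linter.style.haveILetI false

open Module Cfsg H84 H35L H17.Ord
open H86 (Cen Nor)
open scoped ComplexConjugate MatrixGroups

namespace H33.Bl

variable {G : Type*} [Group G] [Fintype G]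

theorem pow_of_sing' {p : ℕ} {ψ ψ' : IrrCharacter G} (hne : ψ ≠ ψ')
    (hr : ∀ g, ¬ p ∣ orderOf g → (ψ : G → ℂ) g = (ψ' : G → ℂ) g) {n n' : ℕ} (hn : n * n' ≠ 0)
    (hs : ∀ g : G, p ∣ orderOf g → g ^ (n * n') = 1) {y : G} (hy : n.Coprime (n' * orderOf y))
    {m : ℕ} (hm : m.Coprime (orderOf y)) (hm' : m ≡ 1 [MOD n']) :
    (ψ : G → ℂ) (y ^ m) = (ψ : G → ℂ) y := by
  obtain ⟨k, h1, h2⟩ := Nat.chineseRemainder hy 1 m
  have h0 : k ≡ 1 [MOD n * n'] := (Nat.modEq_and_modEq_iff_modEq_mul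
    (hy.coprime_mul_right_right)).1 ⟨h1, (h2.of_mul_right _).trans hm'⟩
  obtain ⟨m', h3, h4⟩ := exists_lift (Nat.card_pos (α := G)).ne' (mul_ne_zero hn (orderOf_pos y).ne')
    (k := k) (Nat.Coprime.mul_right (by rw [Nat.Coprime, h0.gcd_eq]; simp)
      (by rw [Nat.Coprime, (h2.of_mul_left _).gcd_eq]; exact hm))
  have h5 := eq_of_sing (χ := ⟨_, H8.isIrrCharacter_pow ψ.2 h3⟩) hne hr fun g hg => by
    change (ψ : G → ℂ) (g ^ m') = _
    rw [pow_eq_pow_iff_modEq.2 (((h4.of_mul_right _).trans h0).of_dvd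
      (orderOf_dvd_of_pow_eq_one (hs g hg))), pow_one]
  rw [← pow_eq_pow_iff_modEq.2 ((h4.of_mul_left _).trans (h2.of_mul_left _))]
  exact congrFun (congrArg Subtype.val h5) y

theorem PE.coprime {q n : ℕ} {x : G} (h : PE q x) (hn : n.Coprime q) : n.Coprime (orderOf x) :=
  h.elim fun k hk => (hn.pow_right k).coprime_dvd_right (orderOf_dvd_of_pow_eq_one hk)

theorem bound_zero {n q : ℕ} (h : n + 1 < q) :
    ∑ i ∈ Finset.range (n + 1), n / ((q - 1) * q ^ i) = 0 :=
  Finset.sum_eq_zero fun i _ => Nat.div_eq_of_lt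
    (lt_of_lt_of_le (by omega) (Nat.le_mul_of_pos_right _ (pow_pos (by omega) i)))

theorem perf_ctx {p : ℕ} [hp : Fact p.Prime] (hG : commutator G = ⊤) (hp3 : 3 < p) (hn : ¬ PCl p G)
    (hsq : ¬ p ^ 2 ∣ Nat.card G) (ζ : IrrCharacter G) {d : ℕ} (hd : (ζ : G → ℂ) 1 = d)
    (hdp : d + 1 < p) (hf : ∀ g, (ζ : G → ℂ) g = (ζ : G → ℂ) 1 → g = 1) (h2 : 2 * d + 1 ≠ p) :
    ∃ (P : Subgroup G) (_ : Fintype P) (L : Log p P) (u : G) (E : Subgroup G) (π : Nor P →* E)
      (_ : Ctx L u E π) (B : Set (IrrCharacter G)) (θ : IrrCharacter (Cen P)) (D : DefOne L B θ)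
      (i : (ZMod p)ˣ), PKer P θ ∧ D.ψ i = ζ ∧ D.ε = -1 ∧ d + (Cen P).relIndex (Nor P) = p ∧
      (∀ z ∈ Subgroup.center G, z ^ d = 1) ∧
      ∀ (K : Subgroup G) [K.Normal], ¬ P ≤ K → K ≤ Subgroup.center G := by
  obtain ⟨P⟩ : Nonempty (Sylow p G) := inferInstance
  haveI := Fintype.ofFinite (P : Subgroup G)
  obtain ⟨L⟩ := nonempty_log (card_sylow hn hsq P) P.not_dvd_index
  obtain ⟨-, h3, hreg, B, θ, D, i, hk, h4, hε⟩ :=
    caseB L hp3 (fun _ => hn (pcl_of_normal P)) ζ hd hdp hf h2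
  obtain ⟨u, E, π, h⟩ := exists_ctx L hreg
  exact ⟨P, inferInstance, L, u, E, π, h, B, θ, D, i, hk, h4, hε, h3, fun z hz => hf _
    (char_pow_of_central (irr_chr _) hd (H87.norm_eq_of_mem_center ζ.2 hz) (hG ▸ Subgroup.mem_top z)),
    le_center L (irr_chr _) hf hd hdp hreg⟩

theorem small5 [Fact (Nat.Prime 5)] (hG : commutator G = ⊤) (hn : ¬ PCl 5 G)
    (hsq : ¬ 5 ^ 2 ∣ Nat.card G) (ζ : IrrCharacter G) (hd : (ζ : G → ℂ) 1 = (3 : ℕ))
    (hf : ∀ g, (ζ : G → ℂ) g = (ζ : G → ℂ) 1 → g = 1) :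
    Nonempty (G ⧸ Subgroup.center G ≃* PSL(2, ZMod 5)) ∨
      Nonempty (G ⧸ Subgroup.center G ≃* alternatingGroup (Fin 6)) := by
  obtain ⟨P, _, L, u, E, π, h, B, θ, D, i, hk, rfl, -, he, hZ, hK⟩ :=
    perf_ctx hG (by norm_num) hn hsq ζ hd (by norm_num) hf (by norm_num)
  obtain ⟨j, hj⟩ := h.exists_ne hk D (by omega) i
  obtain ⟨_, hna⟩ := h.simple hG hn hK
  have hr := fun g => D.reg_eq i j (g := g)
  have h3 : ∀ k, 3 ^ k ∣ (Subgroup.center G).index → k ≤ 3 := fun k hk => by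
    by_cases h1 : Subgroup.center G = ⊥
    · exact (schur' Nat.prime_three (irr_chr _) hd (fun x hx m hm => pow_of_sing hj hr (by norm_num)
        (fun g => h.pow_sing (n := 1) fun z hz => by rwa [h1, Subgroup.mem_bot, ← pow_one z] at hz)
        (PE.coprime hx (by norm_num)) m (PE.coprime hx hm))
        (fun g hg => hf g hg ▸ one_mem _) hk).trans (by decide)
    obtain ⟨⟨z, hz⟩, h2⟩ := Subgroup.ne_bot_iff_exists_ne_one.1 h1
    haveI := Fact.mk Nat.prime_three
    have h4 : 3 ∣ Nat.card (Subgroup.center G) :=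
      orderOf_eq_prime (hZ z hz) (fun e => h2 (Subtype.ext e)) ▸ Subgroup.orderOf_dvd_natCard _ hz
    have h5 : ∀ x : G, PE 3 x → ∀ m : ℕ, m ≡ 1 [MOD 3] → (D.ψ i : G → ℂ) (x ^ m) = (D.ψ i : G → ℂ) x :=
      fun x hx m hm => pow_of_sing' hj hr (n := 5) (by norm_num) (fun g => h.pow_sing hZ)
        (Nat.Coprime.mul_right (by norm_num) (PE.coprime hx (by norm_num)))
        (PE.coprime hx (by rw [Nat.Coprime, hm.gcd_eq]; simp)) hm
    have := schur' Nat.prime_three (H6.isCharacter_add (irr_chr (D.ψ i))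
      (H6.isCharacter_conj (irr_chr (D.ψ i)))) (n := 6) (by simp only [Pi.add_apply, hd, map_natCast]; norm_num)
      (fun x hx m hm => ?_) (K := ⊥) (fun g hg => hf g ?_) (k := k + 1) (by
        rw [Subgroup.index_bot, ← (Subgroup.center G).index_mul_card, pow_succ]
        exact mul_dvd_mul hk h4)
    · exact Nat.le_of_succ_le_succ (this.trans (by decide))
    · simp only [Pi.add_apply]
      obtain h6 | h6 : m % 3 = 1 ∨ m % 3 = 2 := by
        have := (Nat.Prime.coprime_iff_not_dvd Nat.prime_three).1 hm.symm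
        omega
      · rw [h5 x hx m h6]
      · obtain ⟨a, ha⟩ := id hx
        obtain ⟨b, hb⟩ : ∃ b, 3 ^ (a + 1) = 3 * b + 3 := ⟨3 ^ a - 1, by
          have := Nat.pow_pos (n := a) three_pos
          omega⟩
        have h7 : x ^ m = (x ^ (m * (3 * b + 2)))⁻¹ := by
          rw [eq_inv_iff_mul_eq_one, ← pow_add, show m + m * (3 * b + 2) = (3 * b + 3) * m by ring,
            ← hb, pow_succ, pow_mul, pow_mul, ha, one_pow, one_pow]
        rw [h7, H6.char_inv (irr_chr _), h5 x hx _ (by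
          rw [Nat.ModEq, Nat.mul_mod, h6, show (3 * b + 2) % 3 = 2 by omega]), Complex.conj_conj, add_comm]
    · have h6 := H6.char_norm_le (irr_chr (D.ψ i)) g
      simp only [Pi.add_apply, Complex.add_conj, hd] at hg ⊢
      rw [hd, Complex.norm_natCast, Nat.cast_ofNat] at h6
      have h7 : ((D.ψ i : G → ℂ) g).re = 3 := by
        have := congrArg Complex.re hg
        simp at this
        linarith
      have h8 := Complex.sq_norm ((D.ψ i : G → ℂ) g)
      rw [Complex.normSq_apply, h7] at h8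
      refine Complex.ext (by simpa using h7) ?_
      simpa using mul_self_eq_zero.1 (le_antisymm (by nlinarith [norm_nonneg ((D.ψ i : G → ℂ) g)])
        (mul_self_nonneg ((D.ψ i : G → ℂ) g).im))
  have h4 : Nat.card (G ⧸ Subgroup.center G) ∣ 2160 := by
    refine (Nat.dvd_iff_prime_pow_dvd_dvd _ _).2 fun q k hq hk => ?_
    by_cases h5 : q = 5
    · subst h5
      have : k < 2 := lt_of_not_ge fun h6 => hsq
        (((pow_dvd_pow 5 h6).trans hk).trans (Subgroup.center G).index_dvd_card)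
      exact (pow_dvd_pow 5 (by omega : k ≤ 1)).trans (by norm_num)
    by_cases h6 : q = 3
    · subst h6
      exact (pow_dvd_pow 3 (h3 k hk)).trans (by norm_num)
    have h7 := schur' hq (irr_chr _) hd (fun x hx m hm => pow_of_sing hj hr (by norm_num)
      (fun g => h.pow_sing hZ) (PE.coprime hx (Nat.Coprime.mul_left
        ((Nat.coprime_primes Nat.prime_five hq).2 (Ne.symm h5))
        ((Nat.coprime_primes Nat.prime_three hq).2 (Ne.symm h6)))) m (PE.coprime hx hm))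
      (fun g hg => hf g hg ▸ one_mem _) hk
    by_cases h8 : q = 2
    · subst h8
      exact (pow_dvd_pow 2 (h7.trans (by decide : _ ≤ 4))).trans (by norm_num)
    rw [bound_zero (by have := hq.five_le_of_ne_two_of_ne_three h8 h6; omega)] at h7
    simp [Nat.le_zero.1 h7]
  have h5 := H8.Dg.card_mem_SO hna ((Nat.le_of_dvd (by norm_num) h4).trans_lt (by norm_num))
  obtain h6 | h6 : Nat.card (G ⧸ Subgroup.center G) = 60 ∨ Nat.card (G ⧸ Subgroup.center G) = 360 := by
    generalize Nat.card (G ⧸ Subgroup.center G) = n at h4 h5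
    revert h4
    revert n
    decide
  · obtain ⟨e⟩ := Cfsg.Agent.S0494.result h6
    obtain ⟨f⟩ := Cfsg.Agent.S0253.result (ZMod.card 5)
    exact Or.inl ⟨e.trans f.symm⟩
  · exact Or.inr (Cfsg.Agent.S0497.result h6)

end H33.Bl
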