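import Mathlib
import Cfsg.Agent.Lib.Blau.Sb
import Cfsg.Agent.Lib.Block.E2

/-! A simple group with irreducible characters of degrees `6` and `10`; the principal block. -/

set_option autoImplicit false
set_option linter.unusedSectionVars false
set_option linter.style.haveILetI false

open Module Cfsg H84 H35L H17.Ord
open H86 (Cen Nor)
open scoped ComplexConjugate MatrixGroups

namespace H33.Bl

theorem card_2520 {G : Type*} [Group G] [Finite G] [IsSimpleGroup G]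
    (hna : ∃ a b : G, a * b ≠ b * a) {P Q : Subgroup G} (hP : Nat.card P = 7) (hP' : Cen P = P)
    (hQ : Nat.card Q = 5) (hQ' : Cen Q = Q) {χ ξ : IrrCharacter G} (hχ : dg χ = 6) (hξ : dg ξ = 10)
    (h : ∀ q k : ℕ, q.Prime → q ≠ 2 → q ^ k ∣ Nat.card G → q ^ k ∣ 315) : Nat.card G = 2520 := by
  classical
  haveI : Fact (Nat.Prime 7) := ⟨by norm_num⟩
  haveI : Fact (Nat.Prime 5) := ⟨by norm_num⟩
  have h0 : ∀ {p m : ℕ}, p.Prime → p ≠ 2 → ¬ p ^ 2 ∣ 315 → Nat.card G = p * m → ¬ p ∣ m :=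
    fun h1 h2 h3 h4 h5 => h3 (h _ 2 h1 h2 (by rw [h4, sq]; exact mul_dvd_mul_left _ h5))
  obtain ⟨m, hm⟩ := hP ▸ P.card_subgroup_dvd_card
  obtain ⟨e, k, n, a1, -, -, a2, a3, -, a4, a5, ⟨B⟩⟩ :=
    setup hna 7 hm (h0 (by norm_num) (by norm_num) (by norm_num) hm) P hP
  obtain ⟨m', hm'⟩ := hQ ▸ Q.card_subgroup_dvd_card
  obtain ⟨e', k', n', b1, -, -, b2, b3, -, b4, b5, ⟨B'⟩⟩ :=
    setup hna 5 hm' (h0 (by norm_num) (by norm_num) (by norm_num) hm') Q hQ
  obtain rfl : k = 1 := by rw [show Subgroup.centralizer (P : Set G) = P from hP', hP] at a1; omega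
  obtain rfl : k' = 1 := by rw [show Subgroup.centralizer (Q : Set G) = Q from hQ', hQ] at b1; omega
  have t1 : χ ≠ triv G := fun e => by rw [e, dg_triv] at hχ; omega
  have x1 : ξ ∈ B.Y := (B.mem_of_not_dvd hP' (by omega)).resolve_left fun h1 => by
    have := B.degX ξ h1
    rcases B.sgn ξ h1 with h2 | h2 <;> rw [h2, hξ] at this <;> exact absurd this (by decide)
  obtain ⟨rfl, x2⟩ : e = 3 ∧ B.δ = 1 := by
    have := B.degY ξ x1
    have h1 := Nat.le_of_dvd (by norm_num) a5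
    rw [hξ, Int.ModEq] at this
    rcases B.dsgn with h2 | h2 <;> rw [h2] at this ⊢ <;> interval_cases e <;> omega
  have x3 : ∀ ψ, ψ ∈ B.X ∨ ψ ∈ B.Y → dg ψ = 6 → ψ ∈ B.X ∧ B.ε ψ = -1 := fun ψ h1 h2 => by
    have h3 := h1.resolve_right fun h3 => by have := B.dgY h3 x1; omega
    have := B.degX ψ h3
    exact ⟨h3, (B.sgn ψ h3).resolve_left fun h4 => by
      rw [h4, h2] at this; exact absurd this (by decide)⟩
  have x4 := B.mem_of_not_dvd hP' (χ := χ) (by omega)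
  have x5 := B.int_of_unique x4 fun ψ h1 h2 => by_contra fun h3 => by
    have h4 := B.triv_mem_X (by norm_num) hna
    have h5 := x3 ψ h1 (h2.trans hχ)
    have h6 := x3 χ x4 hχ
    have h7 : ψ ≠ triv G := fun e => by rw [e, dg_triv] at h2; omega
    have h8 := B.deg_eq x1
    rw [← Finset.eq_of_subset_of_card_le (s := {triv G, ψ, χ}) (t := B.X) (by
      simp [Finset.insert_subset_iff, h4, h5.1, h6.1]) (by
        rw [B.cardX, Finset.card_eq_three.2 ⟨_, _, _, h7.symm, t1.symm, h3, rfl⟩]),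
      Finset.sum_insert (by simp [h7.symm, t1.symm]), Finset.sum_pair h3, B.ε_triv h4, h5.2, h6.2,
      x2, dg_triv, h2, hχ, hξ] at h8
    omega
  have x6 : Nat.card G ∣ 105 * 3072 := by
    refine (Nat.dvd_iff_prime_pow_dvd_dvd _ _).2 fun q k hq hk => ?_
    by_cases h1 : q = 2
    · subst h1
      have := schur' hq (irr_chr χ) (n := 6) (by rw [dg_cast, hχ]) (fun x ⟨k, hk⟩ j hj => by
        obtain ⟨z, hz⟩ := x5 x
        exact rat_of_mem_adjoin (irr_chr χ) hq one_pos (by norm_num) hk (hz ▸ intCast_mem _ z) hj)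
        (K := ⊥) (fun g hg => eq_one_of_apply_eq t1 (hg.trans (dg_cast χ))) (k := k)
        (by rwa [Subgroup.index_bot])
      exact (pow_dvd_pow 2 (this.trans (by decide : _ ≤ 10))).trans (by norm_num)
    · exact (h q k hq h1 hk).trans (by norm_num)
  obtain ⟨s, rfl⟩ : ∃ s, n = 5 * s := ⟨n / 5, by omega⟩
  have x7 : Nat.card G = 105 * s := by omega
  have x8 : s ∈ [3, 24, 192, 1536] :=
    (by decide +kernel : ∀ s ∈ Nat.divisors 3072, 5 * s % 7 = 1 → s ∈ [3, 24, 192, 1536]) s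
      (Nat.mem_divisors.2 ⟨Nat.dvd_of_mul_dvd_mul_left (by norm_num) (x7 ▸ x6), by norm_num⟩) a3
  simp only [List.mem_cons, List.not_mem_nil, or_false] at x8
  have h1 := Nat.le_of_dvd (by norm_num) b5
  obtain rfl | rfl : e' = 2 ∨ e' = 4 := by interval_cases e' <;> omega
  swap
  · omega
  have y1 : χ ∈ B'.X := (B'.mem_of_not_dvd hQ' (by omega)).resolve_right fun h1 => by
    have := B'.degY χ h1
    rcases B'.dsgn with h2 | h2 <;> rw [h2, hχ] at this <;> exact absurd this (by decide)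
  have y2 : B'.ε χ = 1 := (B'.sgn χ y1).resolve_right fun h2 => by
    have := B'.degX χ y1
    rw [h2, hχ] at this
    exact absurd this (by decide)
  obtain ⟨t, ht⟩ := exists_prime_orderOf_dvd_card' 2 ((show 2 ∣ dg χ by omega).trans (dg_dvd χ))
  obtain ⟨c, hc⟩ := x5 t
  have y3 := (E2.two_order hna B' hQ' (by norm_num) y1 t1 ht hc).2
  rw [y2, hχ] at y3
  have y4 := eq_zero_of_sq (s := 210 * Nat.card (Subgroup.centralizer ({t} : Set G)))
    (N := 210 * Nat.card G) (y := 6 - c) (by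
      rw [x7]; rcases x8 with rfl | rfl | rfl | rfl <;> norm_num)
    (by push_cast at y3 ⊢; linear_combination -210 * y3)
  rw [eq_one_of_apply_eq t1 (x := t) (by rw [hc, hχ, show c = 6 by omega]; simp), orderOf_one] at ht
  omega

variable {G : Type*} [Group G] [Fintype G]

theorem sc_quot {q : ℕ} [hq : Fact q.Prime] {y : G} (hy : orderOf y = q)
    (hZ : ∀ c ∈ Subgroup.center G, (orderOf c).Coprime q)
    (h : ∀ g, g * y = y * g → ∃ z ∈ Subgroup.center G, ∃ x ∈ Subgroup.zpowers y, g = z * x) :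
    Nat.card (Subgroup.zpowers (y : G ⧸ Subgroup.center G)) = q ∧
      Cen (Subgroup.zpowers (y : G ⧸ Subgroup.center G)) = Subgroup.zpowers ↑y := by
  have h1 : Nat.card (Subgroup.zpowers (y : G ⧸ Subgroup.center G)) = q := by
    rw [Nat.card_zpowers]
    refine orderOf_eq_prime (by rw [← QuotientGroup.mk_pow, ← hy, pow_orderOf_eq_one]; rfl) fun e => ?_
    have := hZ y ((QuotientGroup.eq_one_iff y).1 e)
    rw [hy, Nat.coprime_self] at this
    exact hq.out.ne_one this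
  refine ⟨h1, le_antisymm (fun g hg => ?_) (le_Cen_of_card h1)⟩
  obtain ⟨g, rfl⟩ := QuotientGroup.mk_surjective g
  obtain ⟨z, hz, x, ⟨k, rfl⟩, rfl⟩ := h g (lift_comm (hy ▸ hZ)
    (H86.mem_Cen.1 hg _ (Subgroup.mem_zpowers _)).symm)
  rw [QuotientGroup.mk_mul, (QuotientGroup.eq_one_iff z).2 hz, one_mul]
  exact ⟨k, rfl⟩

variable {p : ℕ} [hp : Fact p.Prime] {P : Subgroup G} [Fintype P] {L : Log p P} {u : G}
  {E : Subgroup G} {π : Nor P →* E} (h : Ctx L u E π) {B : Set (IrrCharacter G)}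
  {θ : IrrCharacter (Cen P)} (hk : PKer P θ) (D : DefOne L B θ)
include h hk

theorem xi_gen (hε : D.ε = -1) (i j : (ZMod p)ˣ) {d : ℕ} (hd : (D.ψ i : G → ℂ) 1 = d)
    (h1 : d + (Cen P).relIndex (Nor P) = p) (h2 : 2 * (Cen P).relIndex (Nor P) + 1 ≤ p) :
    h.Cc (fun g => (D.ψ i : G → ℂ) g * conj ((D.ψ j : G → ℂ) g)) 1 ∧
      ∀ n : Nor P, L.r n ≠ 1 → (D.ψ i : G → ℂ) n * conj ((D.ψ j : G → ℂ) n) = 1 := by
  haveI := Fintype.ofFinite E
  obtain ⟨O, k, _, _, _, φ, hφs, hφ⟩ := exists_residue hp.out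
  obtain ⟨n, σ, μ, hσ, Z⟩ := h.exists_zt hφs hφ (D.ψ i).2 i.ne_zero (fun x hx h3 => by
    rw [h.psi_val' hk D i x hx h3, hε]; simp) hd h1 h2
  have c1 := hσ ▸ Z.cc
  have c2 := h.Cc_of_mem hk D (D.ψ_mem i) (D.ψ_mem j) c1
  refine ⟨fun z hz g => ?_, fun n hn => ?_⟩
  · simp only [c1 z hz g, c2 z hz g, map_mul, MonoidHom.one_apply, Units.val_one]
    linear_combination (D.ψ i : G → ℂ) g * conj ((D.ψ j : G → ℂ) g) *
      hom_mul_conj (cm O.subtype μ) z
  · rw [h.cf_pi (irr_class (D.ψ j)) hn, D.reg_eq j i (h.reg_E _), ← h.cf_pi (irr_class _) hn, ← hσ,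
      Z.nc n hn, hom_mul_conj]

theorem b0_gen (ht : triv G ∈ B) {Ξ : G → ℂ} (c1 : IsCharacter G Ξ) (c3 : h.Cc Ξ 1)
    (c7 : ∀ n : Nor P, L.r n ≠ 1 → Ξ n = 1) {a : IrrCharacter G → ℕ}
    (a1 : ∀ χ : IrrCharacter G, classInner Ξ χ = a χ) {r : ZMod p → ℕ} (hr : ∀ j, mlt L Ξ j = r j) :
    (∀ i : (ZMod p)ˣ, D.ε * a (D.ψ i) - ∑ χ ∈ D.X, D.εX χ * a χ = r i - r 0) ∧
      (mlt L (D.ψ 1) 0 ≠ 0 → ∑ i, a (D.ψ i) + 1 ≤ r 0 + (Cen P).relIndex (Nor P)) := by
  classical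
  haveI := Fintype.ofFinite E
  haveI := Fintype.ofFinite (Nor P)
  have t1 : h.Cc (triv G) 1 := fun z _ g => by simp [triv_apply]
  refine ⟨fun i => ?_, fun h0 => ?_⟩
  · have := h.inner_phi (H6.char_isClassFunction c1) c3 (h.theta_eq hk D ht t1) i
    simp only [inner_phi' D, a1, hr] at this
    exact_mod_cast this
  obtain ⟨γ, g1, g2⟩ := h.exists_Fn D hk h0
  have g3 : ∀ z, h.a z = 1 → (1 : E →* ℂˣ) z = γ z := fun z hz => Units.ext
    (mul_right_cancel₀ (H6.irr_one_ne_zero (D.ψ 1).2)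
      ((h.Cc_of_mem hk D ht (D.ψ_mem 1) t1 z hz 1).symm.trans (g1 z hz 1)))
  obtain ⟨F, hF⟩ := Fn_nat π c1 γ
  have k1 := h.sum_b_le hk D c1 g2 (fun i => a1 _) hF
  have k3 := h.Fn_eq (c3.congr g3)
  rw [hF, hr, Finset.sum_congr rfl (g := fun m => if L.r m = 1 then 0 else
    (((1 / γ).comp π m : ℂˣ) : ℂ)) fun m _ => ?_, sum_lam, Log.card_Nor] at k3
  rotate_left
  · intro m hm
    rw [MonoidHom.comp_apply, MonoidHom.div_apply, g3 _ ((h.a_pi m).trans hm), div_self']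
  · split_ifs with hm
    · rfl
    · rw [c7 m hm, MonoidHom.comp_apply, ← mul_conj_eq]; rfl
  have hC := H6.card_ne_zero (G := Cen P)
  generalize (Cen P).relIndex (Nor P) = e at k1 k3 ⊢
  split_ifs at k3
  · have : ((e * F + 1 : ℕ) : ℂ) = (r 0 + e : ℕ) :=
      mul_left_cancel₀ hC (by push_cast at k3 ⊢; linear_combination k3)
    rw [Nat.cast_inj] at this; omega
  · have : ((e * F + 1 : ℕ) : ℂ) = r 0 :=
      mul_left_cancel₀ hC (by push_cast at k3 ⊢; linear_combination k3)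
    rw [Nat.cast_inj] at this; omega

theorem inner_X (ht : triv G ∈ B) {Ξ Ξ0 : G → ℂ} (c1 : IsCharacter G Ξ) (c2 : IsCharacter G Ξ0)
    (c8 : classInner Ξ (triv G) = 0) (c9 : classInner Ξ0 (triv G) = 1)
    (c10 : ∀ g, ¬ p ∣ orderOf g → Ξ0 g = Ξ g) {χ : IrrCharacter G} (hχ : χ ∈ D.X) :
    classInner Ξ0 χ = classInner Ξ χ + D.εX χ := by
  have h2 := inner_congr (p := p) (χ := χ) (χ' := (D.εX χ : ℂ) • (triv G : G → ℂ)) (f := Ξ0 - Ξ)
    (fun g hg => by
      rw [h.X_sing D hk hχ (h.Cc_of_mem hk D ht (D.mem_of_mem_X hχ)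
        fun z _ g => by simp [triv_apply]) hg]
      simp [triv_apply])
    fun g hg => sub_eq_zero.2 (c10 g hg)
  rw [H6.classInner_smul_left, H6.classInner_sub_right, H6.classInner_sub_right,
    H6.char_inner_comm (irr_chr _) c2, H6.char_inner_comm (irr_chr _) c2,
    H6.char_inner_comm (irr_chr _) c1, H6.char_inner_comm (irr_chr _) c1, c8, c9] at h2
  linear_combination h2

end H33.Bl
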