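import Mathlib
import Cfsg.Agent.Lib.Blau.Sc
import Cfsg.Agent.S0984

/-! Linear groups of degree four with a Sylow `7`-subgroup that is not normal. -/

set_option autoImplicit false
set_option linter.unusedSectionVars false
set_option linter.style.haveILetI false

open Module Cfsg H84 H35L H17.Ord
open H86 (Cen Nor)
open scoped ComplexConjugate MatrixGroups

namespace H33.Bl

variable {G : Type*} [Group G] [Fintype G]

section
variable {P : Subgroup G} [Fintype P] {L : Log 7 P} {u : G} {E : Subgroup G} {π : Nor P →* E}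
  (he : (Cen P).relIndex (Nor P) = 3)
include he

theorem cube7 {a : (ZMod 7)ˣ} (ha : a ∈ L.r.range) : (a : ZMod 7) ^ 3 = 1 := by
  have := pow_card_eq_one' (x := (⟨a, ha⟩ : L.r.range))
  rw [L.card_range_r, he] at this
  exact congrArg (fun x : L.r.range => ((x : (ZMod 7)ˣ) : ZMod 7)) this

theorem eta7 (a : ZMod 7) : L.eta a = eps 7 a + eps 7 a ^ 2 + eps 7 a ^ 4 := by
  have h1 : ∀ x : ZMod 7, x ^ 3 = 1 → x ∈ ({1, 2, 4} : Finset (ZMod 7)) := by decide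
  have h2 : L.Hs.map ⟨Units.val, Units.val_injective⟩ = {1, 2, 4} :=
    Finset.eq_of_subset_of_card_le (fun x hx => by
      obtain ⟨y, hy, rfl⟩ := Finset.mem_map.1 hx
      exact h1 _ (cube7 he (L.mem_Hs.1 hy))) (by rw [Finset.card_map, L.card_Hs, he]; decide)
  have h3 := Finset.sum_map L.Hs ⟨Units.val, Units.val_injective⟩ fun x => eps 7 (x * a)
  rw [h2, Finset.sum_insert (by decide), Finset.sum_pair (by decide), one_mul, ← add_assoc] at h3
  rw [eps_pow, eps_pow]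
  exact h3.symm

theorem eta_sq7 (a : ZMod 7) : L.eta a * L.eta a = 1 * L.eta a + 2 * L.eta (-a) := by
  have h := eps_pow_p a
  have h7 : (7 : ZMod 7) = 0 := by decide
  rw [eta7 he, eta7 he, show -a = (6 : ℕ) * a by push_cast; linear_combination -a * h7, ← eps_pow]
  generalize eps 7 a = x at h ⊢
  linear_combination (x - 2 * x ^ 5 - 2 * x ^ 3 * (x ^ 14 + x ^ 7 + 1)) * h

theorem orb7 (i : (ZMod 7)ˣ) : -(i : ZMod 7) ∉ orb L i ∧ (i : ZMod 7) ∉ orb L (-i) := by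
  have h5 : ∀ x : ZMod 7, x ^ 3 = 1 → x ≠ -1 := by decide
  refine ⟨fun h => ?_, fun h => ?_⟩ <;> obtain ⟨m, hm⟩ := (mem_orb L).1 h <;>
    refine h5 _ (cube7 (L := L) he ⟨m, rfl⟩) (mul_left_cancel₀ i.ne_zero ?_)
  · linear_combination hm
  · linear_combination -hm

variable (h : Ctx L u E π) {B : Set (IrrCharacter G)} {θ : IrrCharacter (Cen P)} (hk : PKer P θ)
  (D : DefOne L B θ)
include h hk

theorem b7 (hG : commutator G = ⊤) (ht : triv G ∈ B) {B' : Set (IrrCharacter G)}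
    {θ' : IrrCharacter (Cen P)} (hk' : PKer P θ') (D' : DefOne L B' θ') (hε' : D'.ε = -1)
    (i : (ZMod 7)ˣ) (hd : (D'.ψ i : G → ℂ) 1 = (4 : ℕ)) :
    dg (D.ψ 1) = 3 ∨ (dg (D.ψ 1) = 10 ∧ ∃ χ ∈ D.X, ∃ φ : IrrCharacter G, dg χ = 6 ∧ dg φ = 15 ∧
      ∀ g, (D'.ψ i : G → ℂ) g * conj ((D'.ψ i : G → ℂ) g) - 1 = (φ : G → ℂ) g) := by
  classical
  obtain ⟨c3, c7⟩ := xi_gen h hk' D' hε' i (-i) hd (by rw [he]) (by rw [he])
  have c1 := H6.isCharacter_mul (irr_chr (D'.ψ i)) (H6.isCharacter_conj (irr_chr (D'.ψ (-i))))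
  have c2 := H6.isCharacter_mul (irr_chr (D'.ψ i)) (H6.isCharacter_conj (irr_chr (D'.ψ i)))
  have h3 : ∀ φ ψ : G → ℂ, classInner (φ * fun g => conj (ψ g)) (triv G) = classInner φ ψ :=
    fun φ ψ => by simp [classInner, triv_apply]
  have c8 := (h3 _ _).trans (H6.irr_inner_ne (D'.ψ i).2 (D'.ψ (-i)).2 fun e =>
    absurd (cube7 (L := L) he (a := -1)
      (by simpa [h.H_eq hk'] using (D'.eq_iff _ _).1 (Subtype.ext e))) (by decide))
  have c9 := (h3 _ _).trans (H6.irr_inner_self (D'.ψ i).2)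
  have c10 := fun χ => inner_X h hk D ht c1 c2 c8 c9 (χ := χ) fun g hg => by
    rw [Pi.mul_apply, Pi.mul_apply, D'.reg_eq (-i) i hg]
  have c4 : ((D'.ψ i : G → ℂ) * fun g => conj ((D'.ψ (-i) : G → ℂ) g)) 1 = (16 : ℕ) := by
    rw [Pi.mul_apply, D'.reg_eq (-i) i PB.reg_one, hd, map_natCast]; norm_num
  have c5 := mlt_two (L := L) (χ := (D'.ψ i : G → ℂ) * fun g => conj ((D'.ψ (-i) : G → ℂ) g))
    (c := 1) (c' := 2) i.ne_zero (neg_ne_zero.2 i.ne_zero) fun x hx h3 => by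
      rw [Pi.mul_apply, h.psi_val' hk' D' _ x hx h3, h.psi_val' hk' D' _ x hx h3, hε', map_mul,
        L.conj_eta, Units.val_neg, neg_mul, neg_neg, ← eta_sq7 he]
      simp
  set Ξ := (D'.ψ i : G → ℂ) * fun g => conj ((D'.ψ (-i) : G → ℂ) g) with hΞ
  replace c3 : h.Cc Ξ 1 := c3
  replace c7 : ∀ n : Nor P, L.r n ≠ 1 → Ξ n = 1 := c7
  clear_value Ξ
  obtain ⟨a, ha⟩ := H6.char_eq_sum_irr c1
  have a1 : ∀ χ : IrrCharacter G, classInner Ξ χ = a χ := fun χ => by rw [ha, H6.inner_sum_irr]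
  choose r hr using mlt_nat L c1
  obtain ⟨k1, k2⟩ := b0_gen h hk D ht c1 c3 c7 a1 hr
  have k3 := sum_mlt_nat hr c4
  have r0 := c5 0
  have r1 := c5 i
  have r2 := c5 (-i : (ZMod 7)ˣ)
  rw [if_neg (zero_notMem_orb L i.ne_zero), if_neg (zero_notMem_orb L (neg_ne_zero.2 i.ne_zero))] at r0
  rw [if_pos (self_mem_orb L _), if_neg (orb7 he i).2] at r1
  rw [if_neg (Units.val_neg i ▸ (orb7 he i).1), if_pos (Units.val_neg i ▸ self_mem_orb L _)] at r2
  rw [hr, c4, he] at r0 r1 r2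
  replace r0 : ((7 * r 0 : ℕ) : ℂ) = (7 : ℕ) := by push_cast at r0 ⊢; linear_combination r0
  replace r1 : ((7 * r i : ℕ) : ℂ) = (14 : ℕ) := by push_cast at r1 ⊢; linear_combination r1
  replace r2 : ((7 * r (-i : (ZMod 7)ˣ) : ℕ) : ℂ) = (21 : ℕ) := by
    push_cast at r2 ⊢; linear_combination r2
  rw [Nat.cast_inj] at r0 r1 r2
  have k4 : D.ε * (∑ i, a (D.ψ i) : ℕ) - 6 * ∑ χ ∈ D.X, D.εX χ * a χ =
      (∑ i : (ZMod 7)ˣ, r i : ℕ) - 6 * r 0 := by
    have := Finset.sum_congr rfl fun i (_ : i ∈ Finset.univ) => k1 i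
    simp only [Finset.sum_sub_distrib, Finset.sum_const, Finset.card_univ, ZMod.card_units,
      ← Finset.mul_sum] at this
    push_cast
    simpa using this
  obtain ⟨m, hm⟩ := mlt_nat L (irr_chr (D.ψ 1)) 0
  have m1 := mlt_eta L (1 : (ZMod 7)ˣ).ne_zero (h.psi_val' hk D 1) 0
  rw [if_neg (zero_notMem_orb L (Units.ne_zero _)), hm, dg_cast, he, add_zero] at m1
  have m2 : (7 : ℤ) * m = dg (D.ψ 1) - D.ε * 3 := by exact_mod_cast m1
  have m3 := dg_pos (D.ψ 1)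
  by_cases m0 : m = 0
  · rcases D.sign with h1 | h1 <;> omega
  replace k2 := k2 (by rwa [hm, Nat.cast_ne_zero])
  have xv := fun χ hχ => h.X_val D hk (χ := χ) hχ h.mem (ne_one_of L h.lu)
  have t1 : triv G ∈ D.X := ((D.mem_iff _).1 ht).resolve_right fun ⟨j, hj⟩ =>
    h.not_le_ker hk D (by omega) j fun x _ => (H6.mem_charKer (irr_chr _)).2 (by rw [hj]; rfl)
  have t2 : D.εX (triv G) = 1 := by exact_mod_cast (xv _ t1).symm.trans (triv_apply _)
  have t3 : a (triv G) = 0 := by exact_mod_cast (a1 _).symm.trans c8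
  have k5 : ∀ j, a (D.ψ j) * dg (D.ψ 1) + ∑ χ ∈ D.X, a χ * dg χ ≤ 16 := fun j => by
    have h1 : ∑ χ, a χ * dg χ = 16 := by
      rw [ha] at c4
      simp only [Finset.sum_apply, Pi.smul_apply, dg_cast, smul_eq_mul] at c4
      exact_mod_cast c4
    have h2 := Finset.sum_le_sum_of_subset (f := fun χ => a χ * dg χ)
      (Finset.subset_univ (insert (D.ψ j) D.X))
    have h3 : dg (D.ψ j) = dg (D.ψ 1) := by
      exact_mod_cast (dg_cast _).symm.trans ((D.reg_eq j 1 PB.reg_one).trans (dg_cast _))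
    rwa [Finset.sum_insert (D.not_mem j), h1, h3] at h2
  have k6 : D.ε * dg (D.ψ 1) = ∑ χ ∈ D.X, D.εX χ * dg χ := by
    have := D.reg_rel 1 PB.reg_one
    simp only [dg_cast] at this
    exact_mod_cast this
  have k7 : ∀ χ ∈ D.X, χ ≠ triv G → ((D.εX χ = 1 ∧ dg χ % 7 = 1 ∧ 1 < dg χ) ∨
      (D.εX χ = -1 ∧ dg χ % 7 = 6)) ∧ (a χ = 0 ∧ a χ * dg χ = 0 ∨ (a χ = 1 ∧ a χ * dg χ = dg χ) ∨
        (a χ = 2 ∧ a χ * dg χ = 2 * dg χ) ∨ 3 * dg χ ≤ a χ * dg χ) :=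
    fun χ h1 h2 => by
    have h4 := modEq_of_val (irr_chr χ) (by norm_num : Nat.Prime 7) (k := 1) (g := u)
      (by rw [pow_one, ← ord_of L h.mem h.lu, pow_orderOf_eq_one]) (xv χ h1)
    have h5 := mt (eq_triv hG) h2
    have h6 := dg_pos χ
    rw [Int.ModEq] at h4
    unfold dg at *
    refine ⟨by rcases D.signX χ h1 with h7 | h7 <;> omega, ?_⟩
    rcases Nat.lt_or_ge (a χ) 3 with h7 | h7
    · interval_cases a χ <;> simp
    · exact Or.inr (Or.inr (Or.inr (Nat.mul_le_mul_right _ h7)))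
  have key : ∀ χ φ, χ ∈ D.X → φ ∈ D.X → dg χ = 6 → dg φ = 15 → D.εX φ = 1 →
      ∃ χ ∈ D.X, ∃ φ : IrrCharacter G, dg χ = 6 ∧ dg φ = 15 ∧
      ∀ g, (D'.ψ i : G → ℂ) g * conj ((D'.ψ i : G → ℂ) g) - 1 = (φ : G → ℂ) g :=
    fun χ φ h1 h2 h4 h5 h6 => by
    have h7 := H7.eq_of_inner_ne_zero_of_one_eq
      (H6.isCharacter_sub_of_inner_ne_zero c2 (triv G).2 (c9.trans_ne one_ne_zero)) φ.2 (by
        rw [H6.classInner_sub_left, c10 φ h2, a1, h6, H6.irr_inner_ne (triv G).2 φ.2 fun e => by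
          rw [← Subtype.ext e, dg_triv] at h5; omega]
        exact_mod_cast (by omega : (a φ : ℤ) + 1 - 0 ≠ 0)) (by
        rw [dg_cast φ, h5, Pi.sub_apply, Pi.mul_apply, hd, map_natCast, triv_apply]; norm_num)
    exact ⟨χ, h1, φ, h4, h5, congrFun h7⟩
  obtain ⟨χ, φ, h1, h2⟩ := Finset.card_eq_two.1 (show (D.X.erase (triv G)).card = 2 by
    rw [Finset.card_erase_of_mem t1, h.card_X D hk, he])
  have h4 := Finset.mem_erase.1 (h2 ▸ Finset.mem_insert_self χ {φ})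
  have h5 := Finset.mem_erase.1 (h2 ▸ Finset.mem_insert_of_mem (Finset.mem_singleton_self φ) :
    φ ∈ D.X.erase (triv G))
  have k8 := k1 i
  have k9 := k1 (-i)
  have l1 := k5 i
  have l2 := k5 (-i)
  obtain ⟨x1, x2⟩ := k7 χ h4.2 h4.1
  obtain ⟨y1, y2⟩ := k7 φ h5.2 h5.1
  rw [← Finset.add_sum_erase _ _ t1, h2, Finset.sum_pair h1] at k4 k6 k8 k9 l1 l2
  rw [t2, dg_triv] at k6
  rw [t3] at k4 k8 k9 l1 l2
  obtain e | e := D.sign
  · rw [e] at k4 k6 k8 k9 m2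
    rw [show a (D.ψ (-i)) = 1 by omega] at l2
    refine Or.inr ⟨by
      rcases x1 with ⟨x1, x3⟩ | ⟨x1, x3⟩ <;> rcases y1 with ⟨y1, y3⟩ | ⟨y1, y3⟩ <;>
        rw [x1, y1] at k4 k6 <;> omega, ?_⟩
    rcases x1 with ⟨x1, x3⟩ | ⟨x1, x3⟩ <;> rcases y1 with ⟨y1, y3⟩ | ⟨y1, y3⟩ <;>
      rw [x1, y1] at k4 k6
    · omega
    · exact key φ χ h5.2 h4.2 (by omega) (by omega) x1
    · exact key χ φ h4.2 h5.2 (by omega) (by omega) y1
    · omega
  · rw [e] at k4 k6 k8 k9 m2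
    rw [show a (D.ψ i) = 1 by omega] at l1
    rcases x1 with ⟨x1, x3⟩ | ⟨x1, x3⟩ <;> rcases y1 with ⟨y1, y3⟩ | ⟨y1, y3⟩ <;>
      rw [x1, y1] at k4 k6 <;> omega

end

theorem sc_quot' {q : ℕ} [hq : Fact q.Prime] {y : G} (hy : orderOf y = q)
    (hsq : ¬ q ^ 2 ∣ Nat.card G) (hZ : ∀ z ∈ Subgroup.center G, z ^ 4 = 1) (h4 : (4 : ℕ).Coprime q)
    (h : ∀ c, Commute y c → ¬ q ∣ orderOf c → c ∈ Subgroup.center G) :
    Nat.card (Subgroup.zpowers (y : G ⧸ Subgroup.center G)) = q ∧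
      Cen (Subgroup.zpowers (y : G ⧸ Subgroup.center G)) = Subgroup.zpowers ↑y :=
  sc_quot hy (fun c hc => h4.coprime_dvd_left (orderOf_dvd_of_pow_eq_one (hZ c hc))) fun g hg =>
    ⟨_, h _ (H35.commute_pReg_of_commute q hg.symm) (H35.not_dvd_orderOf_pReg q g), _,
      mem_zpowers_of_not_sq hsq ⟨1, by rw [pow_one, ← hy, pow_orderOf_eq_one]⟩
        ((H35.isPElt_pPart q g).imp fun k hk => by rw [← hk, pow_orderOf_eq_one])
        (H35.commute_pPart_of_commute q hg.symm).symm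
        (fun e => hq.out.ne_one (by rw [← hy, e, orderOf_one])), (H35.pReg_mul_pPart q g).symm⟩

theorem cen5 {ζ φ : IrrCharacter G} (hd : (ζ : G → ℂ) 1 = (4 : ℕ))
    (hf : ∀ g, (ζ : G → ℂ) g = (ζ : G → ℂ) 1 → g = 1) (h25 : ¬ 5 ^ 2 ∣ Nat.card G) (hφ : dg φ = 15)
    (e : ∀ g, (ζ : G → ℂ) g * conj ((ζ : G → ℂ) g) - 1 = (φ : G → ℂ) g)
    (hr : ∀ (y : G) (m : ℕ), m.Coprime (orderOf y) → m ≡ 1 [MOD 28] →
      (ζ : G → ℂ) (y ^ m) = (ζ : G → ℂ) y)
    {y : G} (hy : orderOf y = 5) (c : G) (hc : Commute y c) (h5 : ¬ 5 ∣ orderOf c) :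
    c ∈ Subgroup.center G := by
  classical
  haveI := Fintype.ofFinite (Subgroup.zpowers y)
  have key : ∀ c, Commute y c → ¬ 5 ∣ orderOf c →
      (ζ : G → ℂ) (y * c) * conj ((ζ : G → ℂ) (y * c)) = 1 ∧
      ∑ x : Subgroup.zpowers y, (ζ : G → ℂ) (x * c) = (ζ : G → ℂ) c + 4 * (ζ : G → ℂ) (y * c) :=
    fun c hc h5 => by
    have h1 := (Nat.Prime.coprime_iff_not_dvd Nat.prime_five).2 h5
    have h2 := hc.orderOf_mul_eq_mul_orderOf_of_coprime (hy ▸ h1)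
    refine ⟨sub_eq_zero.1 ((e _).trans (van_of_dvd Nat.prime_five h25 (by omega)
      (by rw [h2, hy]; exact dvd_mul_right _ _))), ?_⟩
    rw [← Finset.add_sum_erase _ _ (Finset.mem_univ 1), Finset.sum_congr rfl
      (g := fun _ => (ζ : G → ℂ) (y * c)) fun x hx => ?_, Finset.sum_const,
      Finset.card_erase_of_mem (Finset.mem_univ _), Finset.card_univ, ← Nat.card_eq_fintype_card,
      Nat.card_zpowers, hy]
    · simp
    obtain ⟨k, hk⟩ := (mem_powers_iff_mem_zpowers.2 x.2 : (x : G) ∈ Submonoid.powers y)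
    have h3 : k.Coprime 5 := ((Nat.Prime.coprime_iff_not_dvd Nat.prime_five).2 fun h3 =>
      (Finset.mem_erase.1 hx).1 (Subtype.ext (hk.symm.trans
        (orderOf_dvd_iff_pow_eq_one.1 (hy ▸ h3))))).symm
    obtain ⟨m, m1, m2⟩ := Nat.chineseRemainder (Nat.Coprime.mul_right (by norm_num : (5 : ℕ).Coprime 28) h1) k 1
    rw [← hr (y * c) m (by
      rw [h2, hy]
      exact Nat.Coprime.mul_right (by rw [Nat.Coprime, m1.gcd_eq]; exact h3)
        (by rw [Nat.Coprime, (m2.of_mul_left _).gcd_eq]; simp)) (m2.of_mul_right _), hc.mul_pow,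
      pow_eq_pow_iff_modEq.2 (hy ▸ m1), pow_eq_pow_iff_modEq.2 (m2.of_mul_left _), pow_one, ← hk]
  obtain ⟨h1, h2⟩ := key 1 (Commute.one_right y) (by simp)
  obtain ⟨a, ha⟩ := sum_char_subgroup (irr_chr ζ) (Subgroup.zpowers y)
  simp only [mul_one] at h1 h2
  rw [Nat.card_zpowers, hy] at ha
  have h3 : (ζ : G → ℂ) y = (5 * a - 4) / 4 := by
    rw [ha, hd] at h2; push_cast at h2; linear_combination -h2 / 4
  obtain rfl : a = 0 := by
    rw [h3] at h1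
    simp only [map_div₀, map_sub, map_mul, map_natCast, map_ofNat] at h1
    have : ((a * (5 * a) : ℕ) : ℂ) = (a * 8 : ℕ) := by push_cast; linear_combination 16 / 5 * h1
    rw [Nat.cast_inj] at this
    by_contra h4
    have := Nat.eq_of_mul_eq_mul_left (Nat.pos_of_ne_zero h4) this
    omega
  obtain ⟨h4, h6⟩ := key c hc h5
  rw [sum_mul_eq_zero (irr_chr ζ) _ (by simpa using ha) c] at h6
  refine mem_center_of_norm_eq (irr_chr ζ) hf ?_
  rw [Complex.mul_conj', ← Complex.ofReal_pow, Complex.ofReal_eq_one,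
    pow_eq_one_iff_of_nonneg (norm_nonneg _) two_ne_zero] at h4
  rw [show (ζ : G → ℂ) c = -4 * (ζ : G → ℂ) (y * c) by linear_combination -h6, hd, norm_mul, h4]
  simp

theorem psl_of_small {G : Type*} [Group G] [Finite G] {p : ℕ} [Fact p.Prime] (hn : ¬ PCl p G)
    (hsq : ¬ p ^ 2 ∣ Nat.card G) {χ : G → ℂ} (hχ : IsCharacter G χ) (hf : ∀ g, χ g = χ 1 → g = 1)
    {m : ℕ} (hm : χ 1 = m) (h : 2 * m < p) : Nonempty (G ⧸ Subgroup.center G ≃* PSL(2, ZMod p)) := by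
  obtain ⟨Q⟩ : Nonempty (Sylow p G) := inferInstance
  have h1 := card_sylow hn hsq Q
  refine (H88.Mod.brauer_small_char (h1 ▸ (Q : Subgroup G).card_subgroup_dvd_card) hsq
    (fun H hH h3 => hn ?_) hχ hf (by rwa [H87.deg_of_eq hm])).2
  have h4 := (isPGroup_of_card h3).le_sylow_of_normal Q
  haveI : (Q : Subgroup G).Normal := by
    rwa [← Subgroup.eq_of_le_of_card_ge (K := (Q : Subgroup G)) h4 (by rw [h3, h1])]
  exact pcl_of_normal Q

theorem small7 (hG : commutator G = ⊤) (hn : ¬ PCl 7 G)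
    (hsq : ¬ 7 ^ 2 ∣ Nat.card G) (ζ : IrrCharacter G) (hd : (ζ : G → ℂ) 1 = (4 : ℕ))
    (hf : ∀ g, (ζ : G → ℂ) g = (ζ : G → ℂ) 1 → g = 1) :
    Nonempty (G ⧸ Subgroup.center G ≃* PSL(2, ZMod 7)) ∨
      Nonempty (G ⧸ Subgroup.center G ≃* alternatingGroup (Fin 7)) := by
  obtain ⟨P, _, L, u, E, π, h, B', θ', D', i, hk', rfl, hε', he, hZ, hK⟩ :=
    perf_ctx hG (by norm_num) hn hsq ζ hd (by norm_num) hf (by norm_num)
  replace he : (Cen P).relIndex (Nor P) = 3 := by omega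
  obtain ⟨j, hj⟩ := h.exists_ne hk' D' (by omega) i
  obtain ⟨_, hna⟩ := h.simple hG hn hK
  obtain ⟨B, θ, ⟨D⟩, hk, ht⟩ := exists_defOne L (triv G) (by rw [dg_triv]; norm_num)
  have desc : ∀ χ ∈ B, ∃ χ' : IrrCharacter (G ⧸ Subgroup.center G), dg χ' = dg χ := fun χ hχ => by
    obtain ⟨ψ, h1, h2⟩ := H6.exists_irr_quotient χ.2 (Subgroup.center G) fun z hz =>
      (h.Cc_of_mem hk D ht hχ fun z _ g => by simp [triv_apply]).center hz fun h1 =>
        absurd (h1.trans (orderOf_dvd_of_pow_eq_one (hZ _ hz))) (by norm_num)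
    exact ⟨⟨ψ, h1⟩, H87.deg_of_eq ((h2 1).trans (dg_cast χ))⟩
  obtain ⟨ξ, hξ⟩ := desc _ (D.ψ_mem 1)
  obtain h1 | ⟨h1, χ, h2, φ, h3, h4, h5⟩ := b7 he h hk D hG ht hk' D' hε' i hd
  · obtain ⟨e⟩ := psl_of_small (fun h2 => hn (pcl_of_central _ le_rfl h2))
      (fun h2 => hsq (h2.trans (Subgroup.center G).index_dvd_card)) (irr_chr ξ)
      (fun g hg => eq_one_of_apply_eq (fun e => by rw [e, dg_triv] at hξ; omega)
        (hg.trans (dg_cast ξ))) (dg_cast ξ) (by omega)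
    exact Or.inl ⟨((QuotientGroup.quotientMulEquivOfEq ((Subgroup.normal_of_characteristic _).eq_bot_or_eq_top.resolve_right
      fun h2 => hna (Subgroup.center_eq_top_iff.1 h2))).trans QuotientGroup.quotientBot).symm.trans e⟩
  obtain ⟨χ', h6⟩ := desc _ (D.mem_of_mem_X h2)
  have hr := fun g => D'.reg_eq i j (g := g)
  have hb : ∀ q k : ℕ, q.Prime → q ≠ 2 → q ^ k ∣ Nat.card G → q ^ k ∣ 315 := fun q k hq h2 hk => by
    by_cases h7 : q = 7
    · subst h7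
      have : k < 2 := lt_of_not_ge fun h6 => hsq ((pow_dvd_pow 7 h6).trans hk)
      exact (pow_dvd_pow 7 (by omega : k ≤ 1)).trans (by norm_num)
    have h8 := schur' hq (irr_chr _) hd (fun x hx m hm => pow_of_sing hj hr (by norm_num)
      (fun g => h.pow_sing hZ) (PE.coprime hx (Nat.Coprime.mul_left
        ((Nat.coprime_primes (by norm_num) hq).2 (Ne.symm h7))
        (((Nat.coprime_primes Nat.prime_two hq).2 (Ne.symm h2)).pow_left 2))) m (PE.coprime hx hm))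
      (K := ⊥) (fun g hg => hf g hg) (k := k) (by rwa [Subgroup.index_bot])
    by_cases h9 : q = 3
    · subst h9
      exact (pow_dvd_pow 3 (h8.trans (by decide : _ ≤ 2))).trans (by norm_num)
    by_cases h10 : q = 5
    · subst h10
      exact (pow_dvd_pow 5 (h8.trans (by decide : _ ≤ 1))).trans (by norm_num)
    rw [bound_zero (by have := hq.five_le_of_ne_two_of_ne_three h2 h9; omega)] at h8
    simp [Nat.le_zero.1 h8]
  have h25 : ¬ 5 ^ 2 ∣ Nat.card G := fun h7 =>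
    absurd (hb 5 2 Nat.prime_five (by norm_num) h7) (by norm_num)
  obtain ⟨y, hy⟩ := exists_prime_orderOf_dvd_card' 5 ((show 5 ∣ dg φ by omega).trans (dg_dvd φ))
  obtain ⟨a1, a2⟩ := sc_quot' (ord_of L h.mem h.lu) hsq hZ (by norm_num) fun c hc =>
    h.reg c ((isCen_of_card L.card h.mem (ne_one_of L h.lu) c).2 hc)
  obtain ⟨b1, b2⟩ := sc_quot' hy h25 hZ (by norm_num) (cen5 hd hf h25 h4 h5 (fun y m hm hm' =>
    pow_of_sing' hj hr (n := 1) (by norm_num) (fun g => h.pow_sing hZ) (Nat.coprime_one_left _)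
      hm hm') hy)
  exact Or.inr (Cfsg.Agent.S0984.result (card_2520 (by
    by_contra! h7
    exact hna ⟨⟨h7⟩⟩) a1 a2 b1 b2 (h6.trans h3) (hξ.trans h1) fun q k hq h2 hk =>
      hb q k hq h2 (hk.trans (Subgroup.center G).index_dvd_card)))

end H33.Bl
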